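import Groth.Agent.QCoh.OpenSub
import Groth.Agent.QCoh.AffineCohom

/-!
# Embedding a quasi-coherent module into an acyclic one
-/

universe u

open CategoryTheory CategoryTheory.Limits AlgebraicGeometry TopologicalSpace Opposite
open Groth.Agent.QCoh
open scoped ZeroObject

namespace Groth.Agent.Coh32

variable {X : Scheme.{u}}

/-- Restriction followed by direct image, with the unit. -/
noncomputable def resPush (M : X.Modules) (U : X.Opens) :
    M ⟶ (Coh.push U.ι).obj (M.restrict U.ι) :=
  (Scheme.Modules.restrictAdjunction U.ι).unit.app M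

/-- The map to the sum of the direct images of the restrictions. -/
noncomputable def embHom (M : X.Modules) : List X.Opens → Σ M' : X.Modules, (M ⟶ M')
  | [] => ⟨0, 0⟩
  | U :: l => ⟨(Coh.push U.ι).obj (M.restrict U.ι) ⊞ (embHom M l).1,
      biprod.lift (resPush M U) (embHom M l).2⟩

theorem resPush_app_eq_zero (M : X.Modules) (U V : X.Opens) (s : Γ(M, V))
    (h : (resPush M U).app V s = 0) :
    M.presheaf.map (homOfLE (U.ι.image_preimage_le V)).op s = 0 := by
  rw [resPush, Scheme.Modules.restrictAdjunction_unit_app_app] at h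
  exact h

theorem embHom_app_eq_zero (M : X.Modules) : ∀ (l : List X.Opens) (V : X.Opens) (s : Γ(M, V)),
    (embHom M l).2.app V s = 0 → ∀ U ∈ l,
      M.presheaf.map (homOfLE (U.ι.image_preimage_le V)).op s = 0
  | [], _, _, _, _, hU => absurd hU List.not_mem_nil
  | W :: l, V, s, h, U, hU => by
    rcases List.mem_cons.1 hU with rfl | hU
    · refine resPush_app_eq_zero M _ V s ?_
      have := congrArg ((biprod.fst : (embHom M (U :: l)).1 ⟶ _).app V) h
      refine Eq.trans ?_ (this.trans (map_zero _))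
      show _ = ((biprod.lift (resPush M U) (embHom M l).2) ≫ biprod.fst).app V s
      rw [biprod.lift_fst]
    · refine embHom_app_eq_zero M l V s ?_ U hU
      have := congrArg ((biprod.snd : (embHom M (W :: l)).1 ⟶ _).app V) h
      refine Eq.trans ?_ (this.trans (map_zero _))
      show _ = ((biprod.lift (resPush M W) (embHom M l).2) ≫ biprod.snd).app V s
      rw [biprod.lift_snd]

theorem mono_embHom (M : X.Modules) (l : List X.Opens) (hl : ∀ x : X, ∃ U ∈ l, x ∈ U) :
    Mono (embHom M l).2 :=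
  mono_of_app_injective _ fun V => (injective_iff_map_eq_zero _).2 fun s hs =>
    eq_zero_of_locally V s fun x hx => by
      obtain ⟨U, hU, hxU⟩ := hl x
      exact ⟨_, homOfLE (U.ι.image_preimage_le V), ⟨⟨x, hxU⟩, hx, rfl⟩,
        embHom_app_eq_zero M l V s hs U hU⟩

theorem isAffineHom_ι (hd : ∀ V W : X.Opens, IsAffineOpen V → IsAffineOpen W → IsAffineOpen (V ⊓ W))
    {U : X.Opens} (hU : IsAffineOpen U) : IsAffineHom U.ι where
  isAffine_preimage V hV := by
    refine (Scheme.Hom.isAffineOpen_iff_of_isOpenImmersion U.ι).1 ?_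
    rw [Scheme.Hom.image_preimage_eq_opensRange_inf, Scheme.Opens.opensRange_ι]
    exact hd U V hU hV

theorem embHom_qcoh_acyclic
    (hd : ∀ V W : X.Opens, IsAffineOpen V → IsAffineOpen W → IsAffineOpen (V ⊓ W))
    {M : X.Modules} (hM : Coh.IsQCoh M) : ∀ l : List X.Opens, (∀ U ∈ l, IsAffineOpen U) →
      Coh.IsQCoh (embHom M l).1 ∧
        ∀ p : ℕ, 0 < p → Subsingleton (Coh.HH X (embHom M l).1 p)
  | [], _ => by
    refine ⟨isQCoh_of_isZero (isZero_zero _), fun p hp => ?_⟩
    have : IsZero ((toAbFunctor X).obj (0 : X.Modules)) := (toAbFunctor X).map_isZero (isZero_zero _)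
    exact AddCommGrpCat.subsingleton_of_isZero
      ((Sheaf.functorH (Opens.grothendieckTopology X) p).map_isZero this)
  | U :: l, hl => by
    obtain ⟨hq, hp⟩ := embHom_qcoh_acyclic hd hM l fun V hV => hl V (List.mem_cons_of_mem U hV)
    have hU : IsAffineOpen U := hl U List.mem_cons_self
    haveI := isAffineHom_ι hd hU
    haveI : IsAffine U.toScheme := hU
    have hMU : Coh.IsQCoh (M.restrict U.ι) := isQCoh_restrict U.ι hM
    let S : ShortComplex X.Modules :=
      ShortComplex.mk (biprod.inl : (Coh.push U.ι).obj (M.restrict U.ι) ⟶ _ ⊞ (embHom M l).1)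
        biprod.snd biprod.inl_snd
    have hS : S.ShortExact :=
      (ShortComplex.Splitting.ofHasBinaryBiproduct _ _).shortExact
    refine ⟨isQCoh_X₂ hS (isQCoh_pushforward U.ι hMU) hq, fun p hp0 => ?_⟩
    refine subsingleton_HH_X₂ hS p ?_ (hp p hp0)
    obtain ⟨k, rfl⟩ := Nat.exists_eq_succ_of_ne_zero hp0.ne'
    obtain ⟨e⟩ := HH_push_of_isAffineHom U.ι hMU (k + 1)
    have : Subsingleton (Coh.HH U.toScheme (M.restrict U.ι) (k + 1)) :=
      Ab.subsingleton_H_of_HU_top (X := U.toScheme.toPresheafedSpace.carrier) _ _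
        (subsingleton_HU_of_isAffineOpen hMU (isAffineOpen_top U.toScheme) k)
    exact e.toEquiv.symm.subsingleton

theorem exists_mono_acyclic [CompactSpace X]
    (hd : ∀ V W : X.Opens, IsAffineOpen V → IsAffineOpen W → IsAffineOpen (V ⊓ W))
    {M : X.Modules} (hM : Coh.IsQCoh M) :
    ∃ (M' : X.Modules) (i : M ⟶ M'), Mono i ∧ Coh.IsQCoh M' ∧
      ∀ p : ℕ, 0 < p → Subsingleton (Coh.HH X M' p) := by
  choose U hU hxU using fun x : X => exists_isAffineOpen_mem_and_subset (X := X) (x := x)
    (U := ⊤) trivial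
  obtain ⟨t, ht⟩ := isCompact_univ.elim_finite_subcover (fun x => (U x : Set X))
    (fun x => (U x).isOpen) fun x _ => Set.mem_iUnion.2 ⟨x, (hxU x).1⟩
  let l := t.toList.map U
  obtain ⟨hq, hp⟩ := embHom_qcoh_acyclic hd hM l fun V hV => by
    obtain ⟨x, -, rfl⟩ := List.mem_map.1 hV
    exact hU x
  exact ⟨_, (embHom M l).2, mono_embHom M l fun x => by
    obtain ⟨y, hy, hxy⟩ := Set.mem_iUnion₂.1 (ht (Set.mem_univ x))
    exact ⟨U y, List.mem_map.2 ⟨y, Finset.mem_toList.2 hy, rfl⟩, hxy⟩, hq, hp⟩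

end Groth.Agent.Coh32
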