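import Groth.Agent.QCoh.DevissageP
import Groth.Agent.QCoh.Support
import Groth.Agent.QCoh.Devissage
import Groth.Agent.QCoh.VanIdeal

/-!
# Coherent modules on a finite cover with direct image supported on a given integral closed subscheme
-/

set_option backward.isDefEq.respectTransparency false
set_option backward.isDefEq.respectTransparency.types false
set_option linter.style.haveILetI false

universe u

open CategoryTheory CategoryTheory.Limits AlgebraicGeometry TopologicalSpace Opposite
open Groth.Agent.QCoh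

namespace Groth.Agent.Coh32

/-- Sections over opens missing the image vanish. -/
theorem eq_zero_of_preimage_eq_bot {W X : Scheme.{u}} (h : W ⟶ X) (M : W.Modules) {V : X.Opens}
    (hV : ∀ w, h w ∉ V) (s : Γ((Coh.push h).obj M, V)) : s = 0 :=
  eq_zero_of_locally (M := M) (h ⁻¹ᵁ V) s fun w hw => absurd hw (hV w)

/-- A coherent module on the source of a finite surjective morphism whose direct image is supported
on `closure {ξ}` and killed by the maximal ideal at `ξ`. -/
theorem exists_push_killed {Y X : Scheme.{u}} (f : Y ⟶ X) [IsFinite f] [Surjective f]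
    [IsLocallyNoetherian X] (ξ : X) :
    ∃ F : Y.Modules, Coh.IsCoh F ∧ Coh.IsCoh ((Coh.push f).obj F) ∧
      CohB1.support ((Coh.push f).obj F) = closure {ξ} ∧
      ∀ a ∈ IsLocalRing.maximalIdeal (X.presheaf.stalk ξ),
        ∀ m : ↑(((Coh.push f).obj F).presheaf.stalk ξ), a • m = 0 := by
  haveI : IsLocallyNoetherian Y := LocallyOfFiniteType.isLocallyNoetherian f
  obtain ⟨η, hη⟩ := f.surjective ξ
  let J := Scheme.IdealSheafData.vanishingIdeal (Closeds.closure {η})
  let W := J.subscheme
  let j : W ⟶ Y := J.subschemeι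
  haveI : IsIntegral W := isIntegral_closure_point η
  have hrj : Set.range j = closure {η} := Groth.Agent.H23.RedSub.range_vanishingIdeal _
  have hjη : j (genericPoint W) = η :=
    (inseparable_iff_closure_eq.2 ((range_eq_closure j).symm.trans hrj)).eq
  haveI : IsLocallyNoetherian W := LocallyOfFiniteType.isLocallyNoetherian j
  have hF : Coh.IsCoh ((Coh.push j).obj (Coh.structureModule W)) :=
    isCoh_pushforward_finite j isCoh_structureModule'
  let F := (Coh.push j).obj (Coh.structureModule W)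
  have hG : Coh.IsCoh ((Coh.push f).obj F) := isCoh_pushforward_finite f hF
  have hrange : Set.range (fun w => f (j w)) = closure {ξ} := by
    rw [show (fun w => f (j w)) = f ∘ j from rfl, Set.range_comp, hrj,
      ← f.isClosedMap.closure_image_eq_of_continuous f.continuous, Set.image_singleton, hη]
  refine ⟨F, hF, hG, le_antisymm (fun x hx => ?_) (fun x hx => ?_), fun a ha m => ?_⟩
  · by_contra hxξ
    refine hx (subsingleton_of_forall_eq 0 fun m => ?_)
    obtain ⟨V, hxV, s, rfl⟩ := TopCat.Presheaf.exists_germ_eq ((Coh.push f).obj F).presheaf m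
    let V' : X.Opens := V ⊓ ⟨(closure {ξ})ᶜ, isClosed_closure.isOpen_compl⟩
    rw [← ((Coh.push f).obj F).presheaf.germ_res_apply (homOfLE (inf_le_left : V' ≤ V)) x ⟨hxV, hxξ⟩ s]
    refine (congrArg _ ?_).trans (map_zero _)
    refine eq_zero_of_locally (M := Coh.structureModule W) (j ⁻¹ᵁ f ⁻¹ᵁ V') _ fun w hw => absurd ?_ hw.2
    exact hrange ▸ ⟨w, rfl⟩
  · intro hsub
    have hsub : Subsingleton (((Coh.push f).obj F).presheaf.stalk x) := hsub
    obtain ⟨U, hU, hxU⟩ := exists_affine_mem x
    let one : Γ((Coh.push f).obj F, U) := (1 : Γ(W, j ⁻¹ᵁ f ⁻¹ᵁ U))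
    have h0 : ((Coh.push f).obj F).presheaf.germ U x hxU one =
        ((Coh.push f).obj F).presheaf.germ U x hxU 0 := hsub.elim _ _
    obtain ⟨O, hxO, i₁, i₂, hO⟩ := ((Coh.push f).obj F).presheaf.germ_eq x hxU hxU _ _ h0
    rw [map_zero] at hO
    obtain ⟨w, hw⟩ : x ∈ Set.range (fun w => f (j w)) := hrange.symm ▸ hx
    have hwO : w ∈ j ⁻¹ᵁ f ⁻¹ᵁ O := show f (j w) ∈ O from (show x = f (j w) from hw.symm) ▸ hxO
    have h1 : (1 : Γ(W, j ⁻¹ᵁ f ⁻¹ᵁ O)) = 0 := by
      refine Eq.trans ?_ hO
      show _ = W.presheaf.map _ (1 : Γ(W, j ⁻¹ᵁ f ⁻¹ᵁ U))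
      rw [map_one]
    have h2 := congrArg (W.presheaf.germ _ w hwO) h1
    rw [map_one, map_zero] at h2
    exact one_ne_zero h2
  · obtain ⟨V, hxV, s, rfl⟩ := TopCat.Presheaf.exists_germ_eq ((Coh.push f).obj F).presheaf m
    obtain ⟨O, hxO, r, rfl⟩ := TopCat.Presheaf.exists_germ_eq X.presheaf a
    let V' : X.Opens := V ⊓ O
    rw [← ((Coh.push f).obj F).presheaf.germ_res_apply (homOfLE (inf_le_left : V' ≤ V)) ξ ⟨hxV, hxO⟩ s,
      ← X.presheaf.germ_res_apply (homOfLE (inf_le_right : V' ≤ O)) ξ ⟨hxV, hxO⟩ r, ← germ_smul']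
    refine (congrArg _ ?_).trans (map_zero _)
    set r' := X.presheaf.map (homOfLE (inf_le_right : V' ≤ O)).op r with hr'
    have hξr : ξ ∉ X.basicOpen r' := fun h => by
      refine ((IsLocalRing.mem_maximalIdeal _).1 ha) ?_
      have hu := (X.mem_basicOpen r' ξ ⟨hxV, hxO⟩).1 h
      rwa [hr', X.presheaf.germ_res_apply] at hu
    have hz : j.app (f ⁻¹ᵁ V') (f.app V' r') = 0 := by
      by_contra hne
      have hg := (ne_zero_iff_mem_basicOpen _).1 hne
      rw [← Scheme.preimage_basicOpen, ← Scheme.preimage_basicOpen] at hg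
      refine hξr ?_
      have : f (j (genericPoint W)) ∈ X.basicOpen r' := hg
      rwa [hjη, hη] at this
    show (j.app (f ⁻¹ᵁ V') (f.app V' r')) * (show Γ(W, j ⁻¹ᵁ f ⁻¹ᵁ V') from _) = 0
    rw [hz, zero_mul]

end Groth.Agent.Coh32
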