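import Groth.Agent.QCoh.SubCompare
import Groth.Agent.QCoh.Qcqs
import Groth.Agent.ModPairLib.Basic

/-!
# Ideal times direct image along an affine morphism
-/

universe u

open CategoryTheory CategoryTheory.Limits AlgebraicGeometry TopologicalSpace Opposite
open Groth.Agent.QCoh

namespace Groth.Agent.Coh32

variable {Y X : Scheme.{u}}

theorem idealMul_pushforward_iso (f : Y ⟶ X) [IsAffineHom f] (F : Y.Modules) (hF : Coh.IsQCoh F)
    (I : X.IdealSheafData) :
    ∃ e : (Dual3.idealMul I).obj ((Scheme.Modules.pushforward f).obj F) ≅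
        (Scheme.Modules.pushforward f).obj ((Dual3.idealMul (I.comap f)).obj F),
      e.hom ≫ (Scheme.Modules.pushforward f).map (Dual3.idealMulι (I.comap f) F) =
        Dual3.idealMulι I ((Scheme.Modules.pushforward f).obj F) := by
  let P := Scheme.Modules.pushforward f
  have hPF : Coh.IsQCoh (P.obj F) := isQCoh_pushforward f hF
  haveI : PreservesFiniteLimits P :=
    have := (Scheme.Modules.pullbackPushforwardAdjunction f).rightAdjoint_preservesLimits
    inferInstance
  haveI : Mono (Dual3.idealMulι (I.comap f) F) := equalizer.ι_mono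
  haveI : Mono (Dual3.idealMulι I (P.obj F)) := equalizer.ι_mono
  have heq : Subobject.mk (Dual3.idealMulι I (P.obj F)) =
      Subobject.mk (P.map (Dual3.idealMulι (I.comap f) F)) := by
    refine subobject_eq_of_cover (isQCoh_idealMul I hPF)
      (isQCoh_pushforward f (isQCoh_idealMul _ hF)) hPF _ _ (fun U : X.affineOpens => U.1) (fun U => U.2)
      (fun x => by
        obtain ⟨U, hU, hx⟩ := exists_isAffineOpen_mem_and_subset (X := X) (x := x) (U := ⊤) trivial
        exact ⟨⟨U, hU⟩, hx.1⟩) fun U => ?_
    rw [range_idealMul I hPF U.2]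
    set W : Y.Opens := f ⁻¹ᵁ U.1
    have hW : IsAffineOpen W := U.2.preimage f
    have hideal : (I.comap f).ideal ⟨W, hW⟩ = (I.ideal U).map (f.app U.1).hom := by
      rw [ModPairLib.ideal_comap I f U ⟨W, hW⟩ le_rfl, Scheme.Hom.app_eq_appLE]
    have hr := range_idealMul (I.comap f) hF hW
    rw [hideal] at hr
    ext x
    constructor
    · intro hx
      have : (show Γ(F, W) from x) ∈ LinearMap.range (appLin (Dual3.idealMulι (I.comap f) F) W) := by
        rw [hr]
        refine Submodule.smul_induction_on hx (fun r hr m _ => ?_) fun a b ha hb => add_mem ha hb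
        exact Submodule.smul_mem_smul (Ideal.mem_map_of_mem (f.app U.1).hom hr) trivial
      obtain ⟨y, hy⟩ := this
      exact ⟨y, hy⟩
    · rintro ⟨y, rfl⟩
      have hy : (appLin (Dual3.idealMulι (I.comap f) F) W) y ∈
          (I.ideal U).map (f.app U.1).hom • (⊤ : Submodule Γ(Y, W) Γ(F, W)) := hr ▸ ⟨y, rfl⟩
      refine Submodule.smul_induction_on (p := fun m : Γ(F, W) =>
        (show Γ(P.obj F, U.1) from m) ∈ I.ideal U • (⊤ : Submodule Γ(X, U.1) Γ(P.obj F, U.1))) hy ?_
        fun a b ha hb => add_mem ha hb
      intro r hr m _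
      induction hr using Submodule.span_induction generalizing m with
      | mem c hc =>
        obtain ⟨b, hb, rfl⟩ := hc
        exact Submodule.smul_mem_smul (n := (show Γ(P.obj F, U.1) from m)) hb trivial
      | zero => rw [zero_smul]; exact zero_mem _
      | add a b _ _ ha hb => rw [add_smul]; exact add_mem (ha m trivial) (hb m trivial)
      | smul c a _ ha => rw [smul_eq_mul, mul_comm, mul_smul]; exact ha (c • m) trivial
  exact ⟨Subobject.isoOfMkEqMk _ _ heq, Subobject.ofMkLEMk_comp heq.le⟩

end Groth.Agent.Coh32
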