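import Groth.Agent.Coh32.AmpleInt
import Groth.Agent.Coh32.FiniteSupport
import Groth.Agent.Coh32.IdealMulPush
import Groth.Agent.QCoh.DevissageTheta
import Groth.Agent.AbTors.Deg

/-!
# Ampleness descends along finite surjective morphisms
-/

noncomputable section

set_option linter.style.haveILetI false
set_option linter.unusedSectionVars false
set_option backward.isDefEq.respectTransparency false
set_option backward.isDefEq.respectTransparency.types false
set_option maxHeartbeats 1000000

universe u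

open CategoryTheory CategoryTheory.Limits AlgebraicGeometry

namespace Groth.Agent.Coh32.AmpleInt

open Groth.Agent

attribute [local instance] QCoh.hasFiniteBiproducts

variable (k : Type u) [CommRing k] [IsNoetherianRing k] {X : Scheme.{u}} [X.Over (Spec (CommRingCat.of k))]
  [IsProper (X ↘ Spec (CommRingCat.of k))] {L : X.Modules}

include k in
/-- Vanishing for modules pushed forward along a finite morphism from a source on which `L` is ample. -/
theorem van_push_finite (hL : PicF.IsInvertible L) {Z : Scheme.{u}} (i : Z ⟶ X) [IsFinite i]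
    (hamp : CohB1.IsAmple ((Scheme.Modules.pullback i).obj L)) {I : Z.Modules} (hI : Coh.IsCoh I) :
    Van L ((Coh.push i).obj I) := by
  letI : Z.Over (Spec (CommRingCat.of k)) := ⟨i ≫ (X ↘ Spec (CommRingCat.of k))⟩
  haveI : IsProper (Z ↘ Spec (CommRingCat.of k)) :=
    (inferInstance : IsProper (i ≫ (X ↘ Spec (CommRingCat.of k))))
  obtain ⟨n₀, hn₀⟩ := (S0051.result k Z (Z ↘ Spec (CommRingCat.of k)) _
    (PicClLib.isInvertible_pullback i hL)).1 hamp I hI
  refine ⟨n₀, fun n hn p hp => ?_⟩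
  haveI := hn₀ n hn p hp
  have hqc : Coh.IsQCoh (CohB1.tensorMod I (CohB1.tensorPow ((Scheme.Modules.pullback i).obj L) n)) :=
    KFlatLib.isQCoh_tensor hI.1 (ProjUPX.isQCoh_of_isInvertible
      (H23.PicMul.isInvertible_tensorPow (PicClLib.isInvertible_pullback i hL) n))
  obtain ⟨e⟩ := PnCoh.exists_linearEquiv_push k i rfl hqc p
  haveI := e.symm.toEquiv.subsingleton
  obtain ⟨a⟩ := VarInt.nonempty_push_tensor i I (H23.PicMul.isInvertible_tensorPow hL n)
  obtain ⟨b⟩ := VarInt.nonempty_pullback_tensorPow i L n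
  exact (hhAdd (a ≪≫ (Coh.push i).mapIso (PicGrp.tensorModIso (Iso.refl I) b)) p).toEquiv.subsingleton

include k in
theorem van_of_isZero {M : X.Modules} (h : IsZero M) : Van L M := by
  refine ⟨0, fun n _ p _ => Euler.subsingleton_HH_of_isZero
    (IsZero.of_iso ?_ (CurveTensor.commIso M (CohB1.tensorPow L n))) p⟩
  exact Functor.map_isZero (DCoh.tensorBi.obj (CohB1.tensorPow L n)) h

include k in
theorem van_of_retract {M N : X.Modules} (a : M ⟶ N) (b : N ⟶ M) (hab : a ≫ b = 𝟙 M) (h : Van L N) :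
    Van L M := by
  obtain ⟨n₀, hn₀⟩ := h
  refine ⟨n₀, fun n hn p hp => ?_⟩
  let P := CohB1.tensorPow L n
  have hN : Subsingleton (Coh.HH X ((DCoh.tensorBi.obj P).obj N) p) :=
    @Equiv.subsingleton _ _ (hhAdd (CurveTensor.commIso P N) p).toEquiv (hn₀ n hn p hp)
  let φ := (DCoh.tensorBi.obj P).map a
  let ψ := (DCoh.tensorBi.obj P).map b
  have hφψ : φ ≫ ψ = 𝟙 _ := by
    rw [← CategoryTheory.Functor.map_comp, hab, CategoryTheory.Functor.map_id]
  have hM : Subsingleton (Coh.HH X ((DCoh.tensorBi.obj P).obj M) p) := ⟨fun x y => by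
    have hid : ∀ z, (CohIII.HAb X p).map ψ ((CohIII.HAb X p).map φ z) = z := fun z => by
      rw [← ConcreteCategory.comp_apply, ← CategoryTheory.Functor.map_comp, hφψ, CategoryTheory.Functor.map_id]; rfl
    exact ((hid x).symm.trans (congrArg ((CohIII.HAb X p).map ψ) (@Subsingleton.elim _ hN _ _))).trans (hid y)⟩
  exact @Equiv.subsingleton _ _ (hhAdd (CurveTensor.commIso P M) p).toEquiv.symm hM

/-- Off the support of `J`, the inclusion `J G → G` is surjective on stalks. -/
theorem stalk_surjective_idealMulι {G : X.Modules} (hG : Coh.IsQCoh G) (J : X.IdealSheafData) {ξ : X}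
    (hξJ : ξ ∉ J.support) :
    Function.Surjective ((DerSch.stalkFunctor X ξ).map (Dual3.idealMulι J G)) := by
  intro m
  obtain ⟨U, hU, hξU⟩ := QCoh.exists_affine_mem ξ
  obtain ⟨a, ha, haξ⟩ : ∃ a ∈ J.ideal ⟨U, hU⟩, ξ ∈ X.basicOpen a := by
    by_contra hcon
    push_neg at hcon
    exact hξJ ((Scheme.IdealSheafData.mem_support_iff_of_mem (U := ⟨U, hU⟩) hξU).2
      ((Scheme.mem_zeroLocus_iff _ _ _).2 fun b hb => hcon b hb))
  letI := QCoh.stalkModule G hξU
  haveI := QCoh.isLocalizedModule_germLin hG hU hξU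
  obtain ⟨⟨z, s⟩, hzs⟩ := IsLocalizedModule.surj (hU.primeIdealOf ⟨_, hξU⟩).asIdeal.primeCompl
    (QCoh.germLin G hξU) m
  obtain ⟨w, hw⟩ : a • z ∈ LinearMap.range (QCoh.appLin (Dual3.idealMulι J G) U) := by
    rw [QCoh.range_idealMul J hG hU]
    exact Submodule.smul_mem_smul ha trivial
  have hu' : IsUnit (X.presheaf.germ U _ hξU (a * s.1)) := by
    rw [map_mul]
    exact ((X.mem_basicOpen a _ hξU).1 haξ).mul
      ((X.mem_basicOpen s.1 _ hξU).1 ((QCoh.mem_basicOpen_iff_notMem hU hξU _).2 s.2))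
  refine ⟨(hu'.unit⁻¹).val • ((Dual3.idealMul J).obj G).presheaf.germ U _ hξU w, ?_⟩
  show (DerSch.stalkFunctor X ξ).map (Dual3.idealMulι J G) _ = m
  rw [map_smul]
  erw [DerSch.stalkFunctor_map_germ]
  rw [show (Dual3.idealMulι J G).app U w = a • z from hw]
  replace hzs : X.presheaf.germ U _ hξU s.1 • m = G.presheaf.germ U _ hξU z := hzs
  rw [QCoh.germ_smul', ← hzs, ← mul_smul (X.presheaf.germ U _ hξU a), ← map_mul, ← mul_smul,
    IsUnit.val_inv_mul, one_smul]

include k in
/-- Ampleness descends along finite surjective morphisms. -/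
theorem isAmple_of_finite_surjective (hL : PicF.IsInvertible L) {Y : Scheme.{u}} (f : Y ⟶ X) [IsFinite f]
    [Surjective f] (hamp : CohB1.IsAmple ((Scheme.Modules.pullback f).obj L)) : CohB1.IsAmple L := by
  classical
  haveI := isNoetherian_of_proper k (X ↘ Spec (CommRingCat.of k))
  refine (S0051.result k X (X ↘ Spec (CommRingCat.of k)) L hL).2 fun M hM => ?_
  refine QCoh.devissage_ideals (Van L) (fun A B ⟨e⟩ hA => van_of_iso k e hA) (fun A hA => van_of_isZero k hA)
    Set.univ (fun S hS _ _ _ h1 h3 => van_ext k hL hS h1 h3)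
    (fun ξ _ hsmall Z i _ _ hr I ι hι hI hI0 => ?_) hM (Set.subset_univ _)
  haveI := hι
  haveI : IsLocallyNoetherian Z := LocallyOfFiniteType.isLocallyNoetherian i
  have hIc : Coh.IsCoh I := QCoh.isCoh_of_mono ι QCoh.isCoh_structureModule' hI
  obtain rfl : i (genericPoint Z) = ξ :=
    (inseparable_iff_closure_eq.2 ((QCoh.range_eq_closure i).symm.trans hr)).eq
  obtain ⟨F, hF, hG, hs, hann⟩ := exists_push_killed f (i (genericPoint Z))
  have hξG : i (genericPoint Z) ∈ CohB1.support ((Coh.push f).obj F) := hs ▸ subset_closure rfl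
  obtain ⟨r, hr0, J, u, hξJ, hu, hmain⟩ := QCoh.exists_ideal_mul hG i hξG hann ι hIc hI0
  let G := (Coh.push f).obj F
  let l := Dual3.idealMulι J G
  have hl : l ≫ u = 0 := hu ▸ kernel.condition _
  obtain ⟨t, ht, hct⟩ := hmain _ l inferInstance (QCoh.isQCoh_idealMul J hG.1) hl
    (stalk_surjective_idealMulι hG.1 J hξJ)
  haveI := ht
  let S : ULift.{u} (Fin r) → X.Modules := fun _ => (Coh.push i).obj I
  have hB : Coh.IsCoh (⨁ S) := QCoh.isCoh_biproduct S fun _ => QCoh.isCoh_push i hIc
  obtain ⟨e, -⟩ := idealMul_pushforward_iso f F hF.1 J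
  haveI : IsLocallyNoetherian Y := LocallyOfFiniteType.isLocallyNoetherian f
  have hG' : Van L ((Dual3.idealMul J).obj G) :=
    van_of_iso k e.symm (van_push_finite k hL f hamp
      (QCoh.isCoh_of_mono (Dual3.idealMulι (J.comap f) F) hF (QCoh.isQCoh_idealMul _ hF.1)))
  have hGc : Coh.IsCoh ((Dual3.idealMul J).obj G) :=
    QCoh.isCoh_of_mono l hG (QCoh.isQCoh_idealMul J hG.1)
  have hC := QCoh.isCoh_cokernel hGc.1 hB t
  have hCs : CohB1.support (cokernel t) ⊆ closure {i (genericPoint Z)} := by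
    refine (QCoh.support_of_epi hB.1 hC.1 (cokernel.π t)).trans fun x hx => ?_
    by_contra hxξ
    obtain ⟨U, hU, hxU⟩ := QCoh.exists_affine_mem x
    refine ((QCoh.notMem_support_iff hB.1 hU hxU).2 fun m => ?_) hx
    have hp : x ∉ CohB1.support ((Coh.push i).obj I) := by
      rw [QCoh.support_push_ideal i ι hI hI0]; exact hxξ
    choose a ha ha0 using fun b => (QCoh.notMem_support_iff (QCoh.isCoh_push i hIc).1 hU hxU).1 hp
      ((biproduct.π S b).app U m)
    refine ⟨∏ b, a b, ?_, ?_⟩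
    · rw [X.mem_basicOpen _ x hxU, map_prod]
      exact IsUnit.prod_univ_iff.2 fun b => (X.mem_basicOpen (a b) x hxU).1 (ha b)
    · rw [QCoh.biproduct_app_decomp S U m, Finset.smul_sum]
      refine Finset.sum_eq_zero fun b _ => ?_
      rw [← Scheme.Modules.Hom.app_smul, ← Finset.mul_prod_erase _ a (Finset.mem_univ b), mul_comm,
        mul_smul, ha0 b, smul_zero, map_zero]
  have hsum : Van L (⨁ S) := van_ext k hL
    (S := ShortComplex.mk t (cokernel.π t) (cokernel.condition t))
    (.mk' (ShortComplex.exact_of_g_is_cokernel _ (cokernelIsCokernel t)) ‹_› inferInstance) hG'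
    (hsmall _ hC hCs hct)
  exact van_of_retract k (biproduct.ι S ⟨⟨0, hr0⟩⟩) (biproduct.π S ⟨⟨0, hr0⟩⟩)
    (biproduct.ι_π_self S _) hsum

end Groth.Agent.Coh32.AmpleInt
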