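import Groth.Agent.Coh32.FibreVanish
import Groth.Agent.S0051
import Groth.Agent.Pi1Ext.SpreadLim
import Groth.Agent.LimitsH94.LimAmple
import Groth.Agent.AmpleX.Rel
import Groth.Agent.AbTors.Deg

/-!
# Ampleness on a fibre spreads to a neighbourhood
-/

noncomputable section

set_option linter.style.haveILetI false
set_option backward.isDefEq.respectTransparency false
set_option backward.isDefEq.respectTransparency.types false
set_option maxHeartbeats 800000

universe u

open CategoryTheory CategoryTheory.Limits AlgebraicGeometry TopologicalSpace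

namespace Groth.Agent.Coh32.AmpleSpread

open Groth.Agent Groth.Agent.Pi1Ext

variable {X Y : Scheme.{u}} (f : X ⟶ Y) (y : Y)

/-- The preimages of the affine neighbourhoods of `y`. -/
def stages : SpreadLim.Nbhd Y y ⥤ Scheme.{u} where
  obj W := pullback f (SpreadLim.toX Y y W)
  map {W W'} h := pullback.lift (pullback.fst _ _) (pullback.snd _ _ ≫ (SpreadLim.specs Y y).map h)
    (by rw [Category.assoc, SpreadLim.map_toX]; exact pullback.condition)
  map_id W := by
    apply pullback.hom_ext <;> simp
  map_comp g h := by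
    apply pullback.hom_ext <;> simp [Category.assoc]

theorem isPullback_stages {W W' : SpreadLim.Nbhd Y y} (h : W ⟶ W') :
    IsPullback ((stages f y).map h) (pullback.snd f (SpreadLim.toX Y y W))
      (pullback.snd f (SpreadLim.toX Y y W')) ((SpreadLim.specs Y y).map h) :=
  IsPullback.of_right (by
    rw [show (stages f y).map h ≫ pullback.fst f (SpreadLim.toX Y y W') = pullback.fst f (SpreadLim.toX Y y W) from
      pullback.lift_fst _ _ _, SpreadLim.map_toX]
    exact IsPullback.of_hasPullback _ _) (pullback.lift_snd _ _ _) (IsPullback.of_hasPullback _ _)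

instance (W W' : SpreadLim.Nbhd Y y) (h : W ⟶ W') : IsAffineHom ((stages f y).map h) :=
  MorphismProperty.of_isPullback (isPullback_stages f y h).flip
    (inferInstance : IsAffineHom ((SpreadLim.specs Y y).map h))

/-- The scheme over the local ring. -/
def stageCone : Cone (stages f y) where
  pt := pullback f (Y.fromSpecStalk y)
  π :=
    { app := fun W => pullback.lift (pullback.fst _ _) (pullback.snd _ _ ≫ (SpreadLim.cone Y y).π.app W)
        (by rw [Category.assoc, SpreadLim.π_toX]; exact pullback.condition)
      naturality := fun W W' h => by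
        refine (Category.id_comp _).trans ?_
        apply pullback.hom_ext
        · simp [stages]
        · simp only [stages, Category.assoc, pullback.lift_snd, pullback.lift_snd_assoc]
          rw [← (SpreadLim.cone Y y).w h] }

/-- It is the limit. -/
def isLimitStageCone : IsLimit (stageCone f y) :=
  let hc := SpreadLim.isLimit Y y
  let W₀ := Classical.arbitrary (SpreadLim.Nbhd Y y)
  let base : ∀ s : Cone (stages f y), Cone (SpreadLim.specs Y y) := fun s =>
    { pt := s.pt
      π :=
        { app := fun W => s.π.app W ≫ pullback.snd f (SpreadLim.toX Y y W)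
          naturality := fun W W' h => by
            refine (Category.id_comp _).trans ?_
            rw [Category.assoc, ← (isPullback_stages f y h).w, ← Category.assoc]
            exact congrArg (· ≫ _) (s.w h).symm } }
  have hfst : ∀ (s : Cone (stages f y)) (W W' : SpreadLim.Nbhd Y y),
      s.π.app W ≫ pullback.fst f (SpreadLim.toX Y y W) = s.π.app W' ≫ pullback.fst f (SpreadLim.toX Y y W') := by
    intro s W W'
    obtain ⟨W'', h, h', -⟩ := IsCofilteredOrEmpty.cone_objs W W'
    have e : ∀ (V : SpreadLim.Nbhd Y y) (g : W'' ⟶ V), s.π.app V ≫ pullback.fst f (SpreadLim.toX Y y V) =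
        s.π.app W'' ≫ pullback.fst f (SpreadLim.toX Y y W'') := fun V g => by
      rw [← s.w g, Category.assoc]
      exact congrArg (s.π.app W'' ≫ ·) (pullback.lift_fst _ _ _)
    exact (e W h).trans (e W' h').symm
  { lift := fun s => pullback.lift (s.π.app W₀ ≫ pullback.fst _ _) (hc.lift (base s)) (by
      rw [← SpreadLim.π_toX Y y W₀, ← Category.assoc (hc.lift (base s)), hc.fac, Category.assoc]
      show _ = (s.π.app W₀ ≫ pullback.snd f (SpreadLim.toX Y y W₀)) ≫ _
      rw [Category.assoc]
      exact congrArg (s.π.app W₀ ≫ ·) pullback.condition)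
    fac := fun s W => by
      refine pullback.hom_ext ?_ ?_
      · simp only [stageCone, Category.assoc, pullback.lift_fst]
        exact hfst s W₀ W
      · simp only [stageCone, Category.assoc, pullback.lift_snd, pullback.lift_snd_assoc]
        exact hc.fac (base s) W
    uniq := fun s m hm => by
      refine pullback.hom_ext ?_ ?_
      · rw [pullback.lift_fst, ← hm W₀, Category.assoc]
        exact congrArg (m ≫ ·) (pullback.lift_fst _ _ _).symm
      · rw [pullback.lift_snd]
        refine hc.uniq (base s) _ fun W => ?_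
        show (m ≫ pullback.snd f (Y.fromSpecStalk y)) ≫ _ = s.π.app W ≫ pullback.snd _ _
        rw [← hm W, Category.assoc, Category.assoc]
        exact congrArg (m ≫ ·) (pullback.lift_snd _ _ _).symm }

/-- Ampleness on a fibre spreads to a neighbourhood. -/
theorem exists_nhd_isAmple [IsProper f] [IsLocallyNoetherian Y] {L : X.Modules} (hL : PicF.IsInvertible L)
    (hy : CohB1.IsAmple ((Scheme.Modules.pullback (f.fiberι y)).obj L)) :
    ∃ V : Y.Opens, y ∈ V ∧ ∀ W : Y.Opens, W ≤ V → IsAffineOpen W →
      CohB1.IsAmple (L.restrict (f ⁻¹ᵁ W).ι) := by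
  let A := Y.presheaf.stalk y
  let X₁ := pullback f (Y.fromSpecStalk y)
  letI : X₁.Over (Spec (CommRingCat.of A)) := ⟨pullback.snd f (Y.fromSpecStalk y)⟩
  haveI : IsProper (X₁ ↘ Spec (CommRingCat.of A)) :=
    (inferInstance : IsProper (pullback.snd f (Y.fromSpecStalk y)))
  let g : X₁ ⟶ X := pullback.fst f (Y.fromSpecStalk y)
  let t : Spec (Y.residueField y) ⟶ Spec (CommRingCat.of A) := Spec.map (Y.residue y)
  have ht : t ≫ Y.fromSpecStalk y = Y.fromSpecResidueField y := rfl
  let i₁ : f.fiber y ⟶ X₁ := pullback.lift (f.fiberι y) (f.fiberToSpecResidueField y ≫ t)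
    (by rw [Category.assoc, ht]; exact pullback.condition)
  have hi : i₁ ≫ g = f.fiberι y := pullback.lift_fst _ _ _
  have sq : IsPullback i₁ (f.fiberToSpecResidueField y) (X₁ ↘ Spec (CommRingCat.of A)) t :=
    IsPullback.of_right (by rw [hi, ht]; exact IsPullback.of_hasPullback _ _)
      (pullback.lift_snd _ _ _) (IsPullback.of_hasPullback _ _)
  have hamp : CohB1.IsAmple ((Scheme.Modules.pullback i₁).obj ((Scheme.Modules.pullback g).obj L)) :=
    AmpleX.isAmple_of_iso
      ((Scheme.Modules.pullbackComp i₁ g).app L ≪≫ (Scheme.Modules.pullbackCongr hi).app L).symm hy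
  have hgL := PicClLib.isInvertible_pullback g hL
  have h₁ : CohB1.IsAmple ((Scheme.Modules.pullback g).obj L) :=
    (S0051.result A X₁ (X₁ ↘ Spec (CommRingCat.of A)) _ hgL).2 fun M hM =>
      FibreVanish.exists_vanishing_local A sq hgL hamp hM
  haveI : ∀ W, CompactSpace ((stages f y).obj W) := fun W =>
    QuasiCompact.compactSpace_of_compactSpace (pullback.snd f (SpreadLim.toX Y y W))
  haveI : ∀ W, QuasiSeparatedSpace ((stages f y).obj W) := fun W =>
    quasiSeparatedSpace_of_quasiSeparated (pullback.snd f (SpreadLim.toX Y y W))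
  let W₀ := Classical.arbitrary (SpreadLim.Nbhd Y y)
  let p₀ : (stages f y).obj W₀ ⟶ X := pullback.fst f (SpreadLim.toX Y y W₀)
  have hp₀ : (stageCone f y).π.app W₀ ≫ p₀ = g := pullback.lift_fst _ _ _
  obtain ⟨W, φ, hW⟩ := LimitsH94.LimAmple.exists_stage_isAmple (isLimitStageCone f y)
    (PicClLib.isInvertible_pullback p₀ hL) (AmpleX.isAmple_of_iso
      ((Scheme.Modules.pullbackComp ((stageCone f y).π.app W₀) p₀).app L ≪≫
        (Scheme.Modules.pullbackCongr hp₀).app L).symm h₁)
  let p : (stages f y).obj W ⟶ X := pullback.fst f (SpreadLim.toX Y y W)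
  have hp : (stages f y).map φ ≫ p₀ = p := pullback.lift_fst _ _ _
  have hWp : CohB1.IsAmple ((Scheme.Modules.pullback p).obj L) := AmpleX.isAmple_of_iso
    ((Scheme.Modules.pullbackComp ((stages f y).map φ) p₀).app L ≪≫ (Scheme.Modules.pullbackCongr hp).app L) hW
  refine ⟨W.1, W.2.2, fun U hUW hU => ?_⟩
  let j : Spec Γ(Y, U) ⟶ (SpreadLim.specs Y y).obj W := Spec.map (Y.presheaf.map (homOfLE hUW).op)
  have hj : j ≫ SpreadLim.toX Y y W = hU.fromSpec := W.2.1.map_fromSpec hU _
  let q : pullback f hU.fromSpec ⟶ X := pullback.fst f hU.fromSpec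
  let v : pullback f hU.fromSpec ⟶ (stages f y).obj W :=
    pullback.lift q (pullback.snd _ _ ≫ j) (by rw [Category.assoc, hj]; exact pullback.condition)
  have hv : v ≫ p = q := pullback.lift_fst _ _ _
  have sqv : IsPullback v (pullback.snd f hU.fromSpec) (pullback.snd f (SpreadLim.toX Y y W)) j :=
    IsPullback.of_right (by rw [hv, hj]; exact IsPullback.of_hasPullback _ _)
      (pullback.lift_snd _ _ _) (IsPullback.of_hasPullback _ _)
  haveI : IsAffineHom v := MorphismProperty.of_isPullback sqv.flip (inferInstanceAs (IsAffineHom (Spec.map (Y.presheaf.map (homOfLE hUW).op))))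
  haveI : CompactSpace ↥(pullback f hU.fromSpec) :=
    QuasiCompact.compactSpace_of_compactSpace (pullback.snd f hU.fromSpec)
  have hq : CohB1.IsAmple ((Scheme.Modules.pullback q).obj L) := AmpleX.isAmple_of_iso
    ((Scheme.Modules.pullbackComp v p).app L ≪≫ (Scheme.Modules.pullbackCongr hv).app L)
    (AbTors.isAmple_pullback_of_isAffineHom v hWp)
  refine AmpleX.isAmple_restrict_congr q (f ⁻¹ᵁ U).ι hL ?_
    (AmpleX.isAmple_of_iso ((Scheme.Modules.restrictFunctorIsoPullback q).app L).symm hq)
  ext1
  rw [Scheme.Opens.opensRange_ι, Scheme.Hom.coe_opensRange]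
  show Set.range (pullback.fst f hU.fromSpec) = _
  rw [Scheme.Pullback.range_fst, hU.range_fromSpec]
  rfl

end Groth.Agent.Coh32.AmpleSpread
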