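import Mathlib.RingTheory.IsTensorProduct
import Mathlib.RingTheory.Flat.Basic
import Mathlib.LinearAlgebra.TensorProduct.Prod

/-!
# Flat base change of left exact sequences
-/

universe u

open TensorProduct

namespace Groth.Agent.Coh32.BCAlgebra

variable {A B : Type u} [CommRing A] [CommRing B] [Algebra A B]
  {M N K : Type u} [AddCommGroup M] [Module A M] [AddCommGroup N] [Module A N] [AddCommGroup K] [Module A K]
  {P Q R : Type u} [AddCommGroup P] [Module A P] [Module B P] [IsScalarTower A B P]
  [AddCommGroup Q] [Module A Q] [Module B Q] [IsScalarTower A B Q]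
  [AddCommGroup R] [Module A R] [Module B R] [IsScalarTower A B R]

variable (B) in
/-- The map `B ⊗ M → P` induced by `M → P`. -/
noncomputable def liftB (u : M →ₗ[A] P) : B ⊗[A] M →ₗ[B] P :=
  (TensorProduct.isBaseChange A M B).lift u

theorem liftB_tmul (u : M →ₗ[A] P) (b : B) (m : M) : liftB B u (b ⊗ₜ m) = b • u m := by
  rw [show (b ⊗ₜ[A] m : B ⊗[A] M) = b • ((1 : B) ⊗ₜ m) by simp [TensorProduct.smul_tmul'], liftB, map_smul]
  exact congrArg (b • ·) ((TensorProduct.isBaseChange A M B).lift_eq u m)

theorem isBaseChange_iff (u : M →ₗ[A] P) : IsBaseChange B u ↔ Function.Bijective (liftB B u) := by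
  constructor
  · intro h
    have : liftB B u = h.equiv.toLinearMap :=
      TensorProduct.AlgebraTensorModule.ext fun b m => (liftB_tmul u b m).trans (h.equiv_tmul b m).symm
    rw [this]; exact h.equiv.bijective
  · intro h
    exact IsBaseChange.of_equiv (LinearEquiv.ofBijective (liftB B u) h)
      fun m => (liftB_tmul u 1 m).trans (one_smul _ _)

theorem liftB_lTensor {u : M →ₗ[A] P} {v : N →ₗ[A] Q} (i : M →ₗ[A] N) (i' : P →ₗ[B] Q)
    (h : ∀ m, i' (u m) = v (i m)) (z : B ⊗[A] M) : liftB B v (i.lTensor B z) = i' (liftB B u z) := by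
  induction z using TensorProduct.induction_on with
  | zero => simp [Prod.map]
  | tmul b m => rw [LinearMap.lTensor_tmul, liftB_tmul, liftB_tmul, map_smul, h]
  | add x y hx hy => simp only [map_add, hx, hy]

/-- Injectivity is inherited along an injective map. -/
theorem injective_of_mono [Module.Flat A B] {u : M →ₗ[A] P} {v : N →ₗ[A] Q} (i : M →ₗ[A] N) (i' : P →ₗ[B] Q)
    (h : ∀ m, i' (u m) = v (i m)) (hi : Function.Injective i) (hv : Function.Injective (liftB B v)) :
    Function.Injective (liftB B u) := fun x y hxy =>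
  Module.Flat.lTensor_preserves_injective_linearMap i hi
    (hv (by rw [liftB_lTensor i i' h, liftB_lTensor i i' h, hxy]))

/-- Bijectivity is inherited by kernels. -/
theorem bijective_of_exact [Module.Flat A B] {u : M →ₗ[A] P} {v : N →ₗ[A] Q} {w : K →ₗ[A] R}
    (i : M →ₗ[A] N) (d : N →ₗ[A] K) (i' : P →ₗ[B] Q) (d' : Q →ₗ[B] R)
    (h : ∀ m, i' (u m) = v (i m)) (h' : ∀ n, d' (v n) = w (d n))
    (hi : Function.Injective i) (hex : Function.Exact i d) (hi' : Function.Injective i')
    (hd' : ∀ p, d' (i' p) = 0) (hv : Function.Bijective (liftB B v)) (hw : Function.Injective (liftB B w)) :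
    Function.Bijective (liftB B u) := by
  refine ⟨injective_of_mono i i' h hi hv.1, fun p => ?_⟩
  obtain ⟨z, hz⟩ := hv.2 (i' p)
  have hdz : d.lTensor B z = 0 := hw (by rw [map_zero, liftB_lTensor d d' h', hz, hd'])
  obtain ⟨z₀, rfl⟩ := ((Module.Flat.lTensor_exact B hex) z).1 hdz
  exact ⟨z₀, hi' ((liftB_lTensor i i' h z₀).symm.trans hz)⟩

theorem liftB_prodMap (u : M →ₗ[A] P) (v : N →ₗ[A] Q) (z : B ⊗[A] (M × N)) :
    liftB B (u.prodMap v) z = Prod.map (liftB B u) (liftB B v) (TensorProduct.prodRight A B B M N z) := by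
  induction z using TensorProduct.induction_on with
  | zero => rw [map_zero, map_zero]; exact Prod.ext (map_zero _).symm (map_zero _).symm
  | tmul b x => obtain ⟨m, n⟩ := x; simp [liftB_tmul]
  | add x y hx hy =>
    rw [map_add, map_add, hx, hy]
    exact Prod.ext (map_add _ _ _).symm (map_add _ _ _).symm

theorem bijective_prodMap {u : M →ₗ[A] P} {v : N →ₗ[A] Q} (hu : Function.Bijective (liftB B u))
    (hv : Function.Bijective (liftB B v)) : Function.Bijective (liftB B (u.prodMap v)) := by
  rw [show ⇑(liftB B (u.prodMap v)) = Prod.map (liftB B u) (liftB B v) ∘ TensorProduct.prodRight A B B M N from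
    funext (liftB_prodMap u v)]
  exact (hu.prodMap hv).comp (LinearEquiv.bijective _)

theorem injective_prodMap {u : M →ₗ[A] P} {v : N →ₗ[A] Q} (hu : Function.Injective (liftB B u))
    (hv : Function.Injective (liftB B v)) : Function.Injective (liftB B (u.prodMap v)) := by
  rw [show ⇑(liftB B (u.prodMap v)) = Prod.map (liftB B u) (liftB B v) ∘ TensorProduct.prodRight A B B M N from
    funext (liftB_prodMap u v)]
  exact (hu.prodMap hv).comp (LinearEquiv.injective _)

end Groth.Agent.Coh32.BCAlgebra
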