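import Groth.Agent.Coh32.SectionsBC
import Groth.Agent.QCoh.Qcqs
import Groth.Agent.QCoh.ClosedPush

/-!
# The flat base change map for direct images
-/

noncomputable section

set_option linter.style.haveILetI false
set_option backward.isDefEq.respectTransparency false
set_option backward.isDefEq.respectTransparency.types false
set_option maxHeartbeats 800000

universe u

open AlgebraicGeometry CategoryTheory Scheme.Modules

namespace Groth.Agent.Coh32.BCMap

open Groth.Agent Groth.Agent.Coh32.SectionsBC Groth.Agent.Coh32.BCAlgebra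

/-- The base change map along a flat morphism is an isomorphism for quasi-compact quasi-separated morphisms. -/
theorem isIso_bcMap {X S X' S' : Scheme.{u}} (f : X ⟶ S) (g : S' ⟶ S)
    (g' : X' ⟶ X) (f' : X' ⟶ S') (h : IsPullback g' f' f g) [QuasiCompact f] [QuasiSeparated f] [Flat g]
    (F : X.Modules) [Coh.IsQCoh F] :
    IsIso (((pullbackPushforwardAdjunction g).homEquiv ((pushforward f).obj F)
        ((pushforward f').obj ((pullback g').obj F))).symm
      ((pushforward f).map ((pullbackPushforwardAdjunction g').unit.app F) ≫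
        (pushforwardComp g' f).hom.app ((pullback g').obj F) ≫
        (pushforwardCongr h.w).hom.app ((pullback g').obj F) ≫
        (pushforwardComp f' g).inv.app ((pullback g').obj F))) := by
  have hF' : Coh.IsQCoh ((pullback g').obj F) := QCoh.isQCoh_pullback g' ‹_›
  set α := (pushforward f).map ((pullbackPushforwardAdjunction g').unit.app F) ≫
      (pushforwardComp g' f).hom.app ((pullback g').obj F) ≫
      (pushforwardCongr h.w).hom.app ((pullback g').obj F) ≫
      (pushforwardComp f' g).inv.app ((pullback g').obj F) with hα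
  let β : (pullback g).obj ((pushforward f).obj F) ⟶ (pushforward f').obj ((pullback g').obj F) :=
    ((pullbackPushforwardAdjunction g).homEquiv _ _).symm α
  have hβ : ∀ (U : S.Opens) (W : S'.Opens) (hle : W ≤ g ⁻¹ᵁ U) (hle' : f' ⁻¹ᵁ W ≤ g' ⁻¹ᵁ (f ⁻¹ᵁ U))
      (m : Γ((pushforward f).obj F, U)),
      β.app W (QCoh.pullSec g ((pushforward f).obj F) hle m) =
        (show Γ((pushforward f').obj ((pullback g').obj F), W) from
          QCoh.pullSec g' F hle' (show Γ(F, f ⁻¹ᵁ U) from m)) := by
    intro U W hle hle' m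
    have h1 : (pullbackPushforwardAdjunction g).unit.app _ ≫ (pushforward g).map β = α :=
      ((pullbackPushforwardAdjunction g).homEquiv_unit _ _ β).symm.trans (Equiv.apply_symm_apply _ α)
    have h2 : β.app (g ⁻¹ᵁ U) (((pullbackPushforwardAdjunction g).unit.app ((pushforward f).obj F)).app U m) =
        α.app U m := congrArg (fun t => t.app U m) h1
    refine (QCoh.map_app_comm β (homOfLE hle) _).trans ?_
    refine (congrArg _ h2).trans ?_
    let z : Γ((pullback g').obj F, g' ⁻¹ᵁ (f ⁻¹ᵁ U)) :=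
      ((pullbackPushforwardAdjunction g').unit.app F).app (f ⁻¹ᵁ U) (show Γ(F, f ⁻¹ᵁ U) from m)
    have e : g' ⁻¹ᵁ (f ⁻¹ᵁ U) = f' ⁻¹ᵁ (g ⁻¹ᵁ U) := by
      rw [← Scheme.Hom.comp_preimage, ← Scheme.Hom.comp_preimage, h.w]
    show ((pullback g').obj F).presheaf.map (homOfLE (f'.preimage_mono hle)).op
      (((pullback g').obj F).presheaf.map (eqToHom e.symm).op z) =
      ((pullback g').obj F).presheaf.map (homOfLE hle').op z
    exact QCoh.map_map (homOfLE (f'.preimage_mono hle)) (eqToHom e.symm) z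
  show IsIso β
  refine QCoh.isIso_of_isBasis β
    (B := {W | IsAffineOpen W ∧ ∃ U : S.Opens, IsAffineOpen U ∧ W ≤ g ⁻¹ᵁ U}) ?_ ?_
  · refine TopologicalSpace.Opens.isBasis_iff_nbhd.2 fun {V} x hx => ?_
    obtain ⟨_, ⟨U, hU, rfl⟩, hxU, -⟩ :=
      S.isBasis_affineOpens.exists_subset_of_mem_open (Set.mem_univ (g x)) isOpen_univ
    obtain ⟨_, ⟨W, hW, rfl⟩, hxW, hWle⟩ := S'.isBasis_affineOpens.exists_subset_of_mem_open
      (show x ∈ V ⊓ g ⁻¹ᵁ U from ⟨hx, hxU⟩) (V ⊓ g ⁻¹ᵁ U).isOpen
    exact ⟨W, ⟨hW, U, hU, fun y hy => (hWle hy).2⟩, hxW, fun y hy => (hWle hy).1⟩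
  rintro W ⟨hW, U, hU, hle⟩
  let O : X.Opens := f ⁻¹ᵁ U
  let O' : X'.Opens := pre g' f' O W
  have e' : O' = f' ⁻¹ᵁ W := inf_eq_right.2 (by
    rw [← Scheme.Hom.comp_preimage, h.w, Scheme.Hom.comp_preimage]
    exact f'.preimage_mono hle)
  have hle' : f' ⁻¹ᵁ W ≤ g' ⁻¹ᵁ O := e' ▸ inf_le_left
  let P := (pullback g').obj F
  letI : Algebra Γ(S, U) Γ(S', W) := (g.appLE U W hle).hom.toAlgebra
  letI := srcMod f F O le_rfl
  letI := tgtMod g' f' F W O
  letI := tgtMod' g' f' F hle O
  haveI : IsScalarTower Γ(S, U) Γ(S', W) Γ(PM g' F, pre g' f' O W) := .of_algebraMap_smul fun _ _ => rfl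
  have hb : Function.Bijective (liftB Γ(S', W) (secHom h F hle O le_rfl)) :=
    bij_of_isQuasiSeparated h hle hU hW ‹_› (f.isCompact_preimage hU.isCompact)
      (f.isQuasiSeparated_preimage hU.isQuasiSeparated) le_rfl
  letI : Module Γ(S, U) Γ((pullback g).obj ((pushforward f).obj F), W) := Module.compHom _ (g.appLE U W hle).hom
  haveI : IsScalarTower Γ(S, U) Γ(S', W) Γ((pullback g).obj ((pushforward f).obj F), W) :=
    .of_algebraMap_smul fun _ _ => rfl
  let l₁ : Γ((pushforward f).obj F, U) →ₗ[Γ(S, U)] Γ((pullback g).obj ((pushforward f).obj F), W) :=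
    { toFun := QCoh.pullSec g _ hle
      map_add' := QCoh.pullSec_add g _ hle
      map_smul' := fun r x => QCoh.pullSec_smul g _ hle r x }
  have hb₁ : IsBaseChange Γ(S', W) l₁ := QCoh.isBaseChange_pullback hU g hW
    (QCoh.isQCoh_pushforward f ‹_›) hle (fun _ => rfl) l₁ fun _ => rfl
  let r : Γ((pushforward f').obj P, W) → Γ(P, O') := P.presheaf.map (homOfLE e'.le).op
  have hr : Function.Bijective r := by
    haveI : IsIso (homOfLE e'.le) := ⟨homOfLE e'.ge, rfl, rfl⟩
    exact ConcreteCategory.bijective_of_isIso (P.presheaf.map (homOfLE e'.le).op)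
  let e₀ : Γ((pushforward f).obj F, U) ≃ₗ[Γ(S, U)] Γ(F, O) :=
    { toFun := fun m => m
      invFun := fun m => m
      map_add' := fun _ _ => rfl
      left_inv := fun _ => rfl
      right_inv := fun _ => rfl
      map_smul' := fun a m => by
        show f.app U a • (show Γ(F, O) from m) = f.appLE U O le_rfl a • (show Γ(F, O) from m)
        rw [f.app_eq_appLE] }
  have key : ∀ z : TensorProduct Γ(S, U) Γ(S', W) Γ((pushforward f).obj F, U),
      r (β.app W (hb₁.equiv z)) = liftB Γ(S', W) (secHom h F hle O le_rfl) (e₀.lTensor Γ(S', W) z) := by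
    let L : TensorProduct Γ(S, U) Γ(S', W) Γ((pushforward f).obj F, U) →+ Γ(P, O') :=
      (P.presheaf.map (homOfLE e'.le).op).hom.comp ((β.app W).hom.comp hb₁.equiv.toLinearMap.toAddMonoidHom)
    let R : TensorProduct Γ(S, U) Γ(S', W) Γ((pushforward f).obj F, U) →+ Γ(P, O') :=
      (liftB Γ(S', W) (secHom h F hle O le_rfl)).toAddMonoidHom.comp
        (e₀.lTensor Γ(S', W)).toLinearMap.toAddMonoidHom
    intro z
    show L z = R z
    induction z using TensorProduct.induction_on with
    | zero => rw [map_zero, map_zero]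
    | tmul b m =>
      show r (β.app W (hb₁.equiv _)) = liftB Γ(S', W) (secHom h F hle O le_rfl) (e₀.lTensor Γ(S', W) _)
      rw [hb₁.equiv_tmul, LinearEquiv.lTensor_tmul, liftB_tmul]
      refine (congrArg r (Scheme.Modules.Hom.app_smul β b (l₁ m))).trans ?_
      refine (congrArg (fun t : Γ((pushforward f').obj P, W) => r (b • t)) (hβ U W hle hle' m)).trans ?_
      show P.presheaf.map (homOfLE e'.le).op (f'.app W b • QCoh.pullSec g' F hle' (show Γ(F, O) from m)) = _
      refine (QCoh.map_smul' (homOfLE e'.le) _ _).trans ?_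
      refine congrArg₂ (· • ·) ?_ ?_
      · have := f'.appLE_map (le_rfl : f' ⁻¹ᵁ W ≤ _) (homOfLE e'.le).op
        rw [← f'.app_eq_appLE] at this
        exact congr($this b)
      · exact QCoh.map_map (M := P) _ _ _
    | add x y hx hy => rw [map_add, map_add, hx, hy]
  have hc : (r ∘ β.app W) ∘ hb₁.equiv =
      liftB Γ(S', W) (secHom h F hle O le_rfl) ∘ e₀.lTensor Γ(S', W) := funext key
  exact (hr.of_comp_iff' _).1 ((Function.Bijective.of_comp_iff _ hb₁.equiv.bijective).1
    (hc ▸ hb.comp (e₀.lTensor Γ(S', W)).bijective))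

end Groth.Agent.Coh32.BCMap
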