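import Mathlib.RingTheory.Filtration
import Mathlib.Algebra.Module.Injective

/-!
# Simultaneous equations in an injective module over a Noetherian ring, up to powers

The algebra behind the injectivity of a quasi-coherent module with injective sections: a finite
system `a i • y = m i` "on the locus where `f i` is invertible" has a solution as soon as it is
compatible on every intersection of these loci. The proof splits off the `f`-torsion, which is an
injective direct summand.
-/

universe u v w

namespace Groth.Agent.Coh32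

variable {A : Type u} [CommRing A] [IsNoetherianRing A] {M : Type v} [AddCommGroup M] [Module A M]

/-- The elements killed by a power of `f`. -/
def powTorsion (f : A) (M : Type v) [AddCommGroup M] [Module A M] : Submodule A M where
  carrier := {x | ∃ k : ℕ, f ^ k • x = 0}
  add_mem' := by
    rintro x y ⟨k, hk⟩ ⟨l, hl⟩
    exact ⟨k + l, by rw [smul_add, pow_add, mul_comm, mul_smul, hk, smul_zero, zero_add, mul_comm,
      mul_smul, hl, smul_zero]⟩
  zero_mem' := ⟨0, smul_zero _⟩
  smul_mem' := by
    rintro r x ⟨k, hk⟩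
    exact ⟨k, by rw [smul_comm, hk, smul_zero]⟩

theorem mem_powTorsion {f : A} {x : M} : x ∈ powTorsion f M ↔ ∃ k : ℕ, f ^ k • x = 0 := Iff.rfl

omit [IsNoetherianRing A] in
/-- A map out of the range of a linear map. -/
theorem exists_extend_of_baer (hB : Module.Baer A M) {S : Type w} [AddCommGroup S] [Module A S]
    (π : S →ₗ[A] A) (g : S →ₗ[A] M) (h : ∀ v, π v = 0 → g v = 0) :
    ∃ y : M, ∀ v, π v • y = g v := by
  let gP : LinearMap.range π →ₗ[A] M :=
    ((LinearMap.ker π).liftQ g fun v hv => h v hv).comp π.quotKerEquivRange.symm.toLinearMap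
  obtain ⟨G, hG⟩ := hB (LinearMap.range π) gP
  refine ⟨G 1, fun v => ?_⟩
  rw [← map_smul, smul_eq_mul, mul_one, hG _ ⟨v, rfl⟩]
  have hq : π.quotKerEquivRange.symm ⟨π v, ⟨v, rfl⟩⟩ = Submodule.Quotient.mk v := by
    rw [LinearEquiv.symm_apply_eq]
    exact Subtype.ext rfl
  show (LinearMap.ker π).liftQ g (fun v hv => h v hv) (π.quotKerEquivRange.symm ⟨π v, ⟨v, rfl⟩⟩) = _
  rw [hq]
  rfl

/-- The power torsion of an injective module over a Noetherian ring is injective. -/
theorem baer_powTorsion (hB : Module.Baer A M) (f : A) : Module.Baer A (powTorsion f M) := by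
  intro J g
  obtain ⟨k, hk⟩ : ∃ k, ∀ x : J, f ^ k • (g x : M) = 0 := by
    obtain ⟨S, hS⟩ := Submodule.FG.map g (IsNoetherian.noetherian (⊤ : Submodule A J))
    choose n hn using fun x : powTorsion f M => mem_powTorsion.1 x.2
    refine ⟨∑ x ∈ S, n x, fun x => ?_⟩
    have hx : g x ∈ Submodule.span A (S : Set (powTorsion f M)) := hS.symm ▸ ⟨x, trivial, rfl⟩
    generalize g x = y at hx
    induction hx using Submodule.span_induction with
    | mem z hz =>
      obtain ⟨l, hl⟩ := Nat.exists_eq_add_of_le
        (Finset.single_le_sum (f := n) (fun _ _ => Nat.zero_le _) hz)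
      rw [hl, pow_add, mul_comm, mul_smul, hn z, smul_zero]
    | zero => simp
    | add z w _ _ h1 h2 => rw [Submodule.coe_add, smul_add, h1, h2, add_zero]
    | smul r z _ h1 => rw [Submodule.coe_smul, smul_comm, h1, smul_zero]
  obtain ⟨c, hc⟩ := Ideal.exists_pow_inf_eq_pow_smul (Ideal.span {f}) (J : Submodule A A)
  let π : (J × A) →ₗ[A] A :=
    J.subtype.comp (LinearMap.fst A J A) + f ^ (k + c) • LinearMap.snd A J A
  let gg : (J × A) →ₗ[A] M := (powTorsion f M).subtype.comp (g.comp (LinearMap.fst A J A))
  obtain ⟨y, hy⟩ := exists_extend_of_baer hB π gg fun v hv => by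
    have hv' : (v.1 : A) = f ^ (k + c) * (-v.2) := by
      have : (v.1 : A) + f ^ (k + c) * v.2 = 0 := hv
      rw [mul_neg]
      exact eq_neg_of_add_eq_zero_left this
    have hmem : (v.1 : A) ∈ Ideal.span {f} ^ (k + c - c) • (Ideal.span {f} ^ c • ⊤ ⊓ J) := by
      rw [← hc (k + c) (Nat.le_add_left c k)]
      refine ⟨?_, v.1.2⟩
      rw [hv', Ideal.smul_eq_mul, Ideal.mul_top, Ideal.span_singleton_pow]
      exact Ideal.mem_span_singleton.2 (dvd_mul_right _ _)
    rw [Nat.add_sub_cancel, Ideal.span_singleton_pow, Submodule.ideal_span_singleton_smul,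
      Submodule.mem_smul_pointwise_iff_exists] at hmem
    obtain ⟨w, hw, hwv⟩ := hmem
    have hv1 : v.1 = f ^ k • (⟨w, hw.2⟩ : J) := Subtype.ext hwv.symm
    show ((g v.1 : powTorsion f M) : M) = 0
    rw [hv1, map_smul, Submodule.coe_smul, hk]
  have hyT : y ∈ powTorsion f M := ⟨k + c, by
    have h1 := hy (0, 1)
    simpa [π, gg] using h1⟩
  refine ⟨LinearMap.toSpanSingleton A _ ⟨y, hyT⟩, fun x hx => Subtype.ext ?_⟩
  have h1 := hy (⟨x, hx⟩, 0)
  simpa [π, gg] using h1

/-- The key algebraic statement. -/
theorem exists_solution_aux {ι : Type w} [DecidableEq ι] (a f : ι → A) :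
    ∀ (s : Finset ι) (M : Type v) [AddCommGroup M] [Module A M], Module.Baer A M →
      ∀ (t : Finset ι), (∀ i ∈ t, Function.Bijective fun x : M => f i • x) →
      ∀ m : ι → M, (∀ ε, ε ⊆ s ∪ t → ∀ b : ι → A, ∑ i ∈ ε, b i * a i = 0 →
        ∃ N : ℕ, (∏ i ∈ ε, f i) ^ N • ∑ i ∈ ε, b i • m i = 0) →
      ∃ y : M, ∀ i ∈ s ∪ t, ∃ N : ℕ, f i ^ N • (a i • y - m i) = 0 := by
  classical
  intro s
  induction s using Finset.induction with
  | empty =>
    intro M _ _ hB t ht m hrel
    obtain ⟨y, hy⟩ := exists_extend_of_baer hB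
      (Fintype.linearCombination A fun i : t => a i.1)
      (Fintype.linearCombination A fun i : t => m i.1) fun v hv => by
        rw [Fintype.linearCombination_apply] at hv ⊢
        let b : ι → A := fun i => if h : i ∈ t then v ⟨i, h⟩ else 0
        obtain ⟨N, hN⟩ := hrel t (by simp) b (by
          rw [← Finset.sum_coe_sort]
          simpa [b, smul_eq_mul] using hv)
        have hinj : ∀ {t' : Finset ι}, t' ⊆ t → Function.Injective fun x : M => (∏ i ∈ t', f i) • x := by
          intro t' ht'
          induction t' using Finset.induction with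
          | empty => intro x y h; simpa using h
          | insert j t'' hj ih =>
            intro x y h
            rw [Finset.prod_insert hj] at h
            simp only [mul_smul] at h
            exact ih (fun z hz => ht' (Finset.mem_insert_of_mem hz))
              ((ht j (ht' (Finset.mem_insert_self _ _))).1 h)
        have h0 : ∑ i ∈ t, b i • m i = 0 := by
          induction N with
          | zero => simpa using hN
          | succ N ih =>
            refine ih (hinj subset_rfl ?_)
            show (∏ i ∈ t, f i) • _ = (∏ i ∈ t, f i) • (0 : M)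
            rw [← mul_smul, ← pow_succ', hN, smul_zero]
        rw [← Finset.sum_coe_sort] at h0
        simpa [b] using h0
    refine ⟨y, fun i hi => ⟨0, ?_⟩⟩
    rw [Finset.empty_union] at hi
    have h1 := hy (Pi.single ⟨i, hi⟩ 1)
    simp only [Fintype.linearCombination_apply_single, one_smul] at h1
    rw [pow_zero, one_smul, h1, sub_self]
  | insert j s hj ih =>
    intro M _ _ hB t ht m hrel
    let T : Submodule A M := powTorsion (f j) M
    have hT : Module.Baer A T := baer_powTorsion hB (f j)
    obtain ⟨π, hπ⟩ := hT.extension_property T.subtype T.injective_subtype LinearMap.id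
    have hπT : ∀ x : T, π x.1 = x := fun x => LinearMap.congr_fun hπ x
    let C : Submodule A M := LinearMap.ker π
    let q : M →ₗ[A] C := (LinearMap.id - T.subtype.comp π).codRestrict C fun x => by
      show π (x - (π x : M)) = 0
      rw [map_sub, hπT, sub_self]
    have hqC : ∀ x : C, q x.1 = x := fun x => Subtype.ext (by
      show x.1 - (π x.1 : M) = x.1
      rw [show π x.1 = 0 from x.2, Submodule.coe_zero, sub_zero])
    have hsum : ∀ x : M, (π x : M) + (q x : M) = x := fun x => add_sub_cancel (π x : M) x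
    have hC : Module.Baer A C := fun J g => by
      obtain ⟨G, hG⟩ := hB J (C.subtype.comp g)
      exact ⟨q.comp G, fun x hx => by rw [LinearMap.comp_apply, hG x hx]; exact hqC _⟩
    have hjC : Function.Bijective fun x : C => f j • x := by
      have hinj : ∀ x : C, f j • x = 0 → x = 0 := fun x hx => by
        have hxT : x.1 ∈ T := ⟨1, by rw [pow_one, ← Submodule.coe_smul, hx, Submodule.coe_zero]⟩
        have h1 := hπT ⟨x.1, hxT⟩
        rw [show π x.1 = 0 from x.2] at h1
        exact Subtype.ext (congrArg Subtype.val h1).symm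
      refine ⟨fun x y h => sub_eq_zero.1 (hinj _ (by
        rw [smul_sub]; exact sub_eq_zero.2 h)), fun c => ?_⟩
      obtain ⟨y, hy⟩ := exists_extend_of_baer hC (LinearMap.toSpanSingleton A A (f j))
        (LinearMap.toSpanSingleton A C c) fun r hr => by
          refine hinj _ ?_
          rw [LinearMap.toSpanSingleton_apply, ← mul_smul, mul_comm]
          rw [LinearMap.toSpanSingleton_apply, smul_eq_mul] at hr
          rw [hr, zero_smul]
      exact ⟨y, by simpa using hy 1⟩
    have htT : ∀ i ∈ t, Function.Bijective fun x : T => f i • x := fun i hi =>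
      ⟨fun x y h => Subtype.ext ((ht i hi).1 (congrArg Subtype.val h)), fun x => by
        obtain ⟨z, hz⟩ := (ht i hi).2 x.1
        obtain ⟨k, hk⟩ := x.2
        refine ⟨⟨z, k, (ht i hi).1 ?_⟩, Subtype.ext hz⟩
        show f i • f j ^ k • z = f i • (0 : M)
        rw [smul_comm, show f i • z = x.1 from hz, hk, smul_zero]⟩
    have htC : ∀ i ∈ insert j t, Function.Bijective fun x : C => f i • x := fun i hi => by
      rcases Finset.mem_insert.1 hi with rfl | hi
      · exact hjC
      refine ⟨fun x y h => Subtype.ext ((ht i hi).1 (congrArg Subtype.val h)), fun x => ?_⟩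
      obtain ⟨z, hz⟩ := (ht i hi).2 x.1
      refine ⟨q z, ?_⟩
      show f i • q z = x
      rw [← map_smul, show f i • z = x.1 from hz, hqC]
    obtain ⟨yT, hyT⟩ := ih T hT t htT (fun i => π (m i)) fun ε hε b hb => by
      obtain ⟨N, hN⟩ := hrel ε (fun i hi => by
        rcases Finset.mem_union.1 (hε hi) with h | h
        · exact Finset.mem_union_left _ (Finset.mem_insert_of_mem h)
        · exact Finset.mem_union_right _ h) b hb
      exact ⟨N, by simpa [map_sum] using congrArg π hN⟩
    obtain ⟨yC, hyC⟩ := ih C hC (insert j t) htC (fun i => q (m i)) fun ε hε b hb => by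
      obtain ⟨N, hN⟩ := hrel ε (fun i hi => by simpa [or_left_comm, or_assoc] using hε hi) b hb
      exact ⟨N, by simpa [map_sum] using congrArg q hN⟩
    refine ⟨(yT : M) + yC, fun i hi => ?_⟩
    have hT' : ∃ N, f i ^ N • (a i • (yT : M) - (π (m i) : M)) = 0 := by
      by_cases hij : i = j
      · subst hij
        exact mem_powTorsion.1 (a i • yT - π (m i)).2
      · obtain ⟨N, hN⟩ := hyT i (by simpa [hij] using hi)
        exact ⟨N, congrArg Subtype.val hN⟩
    obtain ⟨N₁, hN₁⟩ := hT'
    obtain ⟨N₂, hN₂⟩ := hyC i (by simpa [or_left_comm, or_assoc] using hi)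
    replace hN₂ : f i ^ N₂ • (a i • (yC : M) - (q (m i) : M)) = 0 := congrArg Subtype.val hN₂
    refine ⟨N₁ + N₂, ?_⟩
    conv_lhs => rw [← hsum (m i), smul_add (a i), add_sub_add_comm, smul_add]
    rw [pow_add, mul_smul (f i ^ N₁) (f i ^ N₂) (a i • (yC : M) - (q (m i) : M)), hN₂, smul_zero,
      add_zero, mul_comm, mul_smul, hN₁, smul_zero]

/-- Compatible equations `a i • y = m i` on the loci `f i ≠ 0` have a common solution. -/
theorem exists_solution {ι : Type w} [Fintype ι] (hB : Module.Baer A M) (a f : ι → A) (m : ι → M)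
    (hrel : ∀ (ε : Finset ι) (b : ι → A), ∑ i ∈ ε, b i * a i = 0 →
      ∃ N : ℕ, (∏ i ∈ ε, f i) ^ N • ∑ i ∈ ε, b i • m i = 0) :
    ∃ y : M, ∀ i, ∃ N : ℕ, f i ^ N • (a i • y - m i) = 0 := by
  classical
  obtain ⟨y, hy⟩ := exists_solution_aux a f Finset.univ M hB ∅ (by simp) m fun ε _ => hrel ε
  exact ⟨y, fun i => hy i (by simp)⟩

end Groth.Agent.Coh32
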