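import Mathlib.AlgebraicGeometry.Modules.Sheaf

/-!
# Composition of base change maps of modules
-/

universe u

open CategoryTheory AlgebraicGeometry AlgebraicGeometry.Scheme.Modules Opposite

namespace Groth.Agent.Coh32

variable {X Y Z : Scheme.{u}}

theorem app_map {M N : X.Modules} (φ : M ⟶ N) {A B : X.Opens} (i : op A ⟶ op B) (x : Γ(M, A)) :
    φ.app B (M.presheaf.map i x) = N.presheaf.map i (φ.app A x) :=
  congr($(φ.mapPresheaf.naturality i) x)

theorem map_map' (M : X.Modules) {A B C : X.Opens} (i : op A ⟶ op B) (j : op B ⟶ op C) (x : Γ(M, A)) :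
    M.presheaf.map j (M.presheaf.map i x) = M.presheaf.map (i ≫ j) x := by
  rw [M.presheaf.map_comp]
  rfl

theorem aux (f : X ⟶ Y) {P : Y.Modules} {Q R : X.Modules} (uf : P ⟶ (pushforward f).obj Q) (α : Q ⟶ R)
    {A₁ B₁ : Y.Opens} {B : X.Opens} (i₂ : op A₁ ⟶ op B₁) (i₁ : op (f ⁻¹ᵁ B₁) ⟶ op B)
    (i₃ : op (f ⁻¹ᵁ A₁) ⟶ op B) (x : Γ(P, A₁)) :
    R.presheaf.map i₃ (α.app (f ⁻¹ᵁ A₁) (uf.app A₁ x)) =
      α.app B (Q.presheaf.map i₁ (uf.app B₁ (P.presheaf.map i₂ x))) := by
  rw [app_map uf i₂ x]
  have h1 : ∀ y : Γ(Q, f ⁻¹ᵁ A₁), R.presheaf.map i₃ (α.app (f ⁻¹ᵁ A₁) y) =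
      α.app B (Q.presheaf.map i₁ (Q.presheaf.map ((TopologicalSpace.Opens.map f.base).op.map i₂) y)) :=
    fun y => by
      rw [map_map', app_map α _ _]
      congr 2
  exact h1 (uf.app A₁ x)

theorem unit_pullbackComp (f : X ⟶ Y) (g : Y ⟶ Z) (M : Z.Modules) :
    (pullbackPushforwardAdjunction (f ≫ g)).unit.app M =
      (pullbackPushforwardAdjunction g).unit.app M ≫
        (pushforward g).map ((pullbackPushforwardAdjunction f).unit.app ((pullback g).obj M)) ≫
        (pushforwardComp f g).hom.app _ ≫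
        (pushforward (f ≫ g)).map ((pullbackComp f g).hom.app M) := by
  have h := unit_conjugateEquiv ((pullbackPushforwardAdjunction g).comp (pullbackPushforwardAdjunction f))
    (pullbackPushforwardAdjunction (f ≫ g)) (pullbackComp f g).inv M
  rw [conjugateEquiv_pullbackComp_inv, Adjunction.comp_unit_app] at h
  have h' := h =≫ (pushforward (f ≫ g)).map ((pullbackComp f g).hom.app M)
  simp only [Category.assoc, ← CategoryTheory.Functor.map_comp, Iso.inv_hom_id_app] at h'
  refine Eq.trans ?_ h'.symm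
  rw [CategoryTheory.Functor.map_id]
  exact (Category.comp_id _).symm

theorem homEquiv_comp (f : X ⟶ Y) (g : Y ⟶ Z) {M : Z.Modules} {P : X.Modules}
    (b : (pullback f).obj ((pullback g).obj M) ⟶ P) :
    (pullbackPushforwardAdjunction (f ≫ g)).homEquiv M P ((pullbackComp f g).inv.app M ≫ b) =
      (pullbackPushforwardAdjunction g).homEquiv _ _
          ((pullbackPushforwardAdjunction f).homEquiv _ _ b) ≫ (pushforwardComp f g).hom.app P := by
  have h := (pushforwardComp f g).hom.naturality b
  have hc : (pullbackComp f g).hom.app M ≫ (pullbackComp f g).inv.app M ≫ b = b :=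
    Iso.hom_inv_id_app_assoc _ _ _
  have hc' : (pushforward (f ≫ g)).map ((pullbackComp f g).hom.app M) ≫
      (pushforward (f ≫ g)).map ((pullbackComp f g).inv.app M ≫ b) = (pushforward (f ≫ g)).map b :=
    ((pushforward (f ≫ g)).map_comp _ _).symm.trans (congrArg _ hc)
  simp only [Adjunction.homEquiv_unit, unit_pullbackComp, CategoryTheory.Functor.map_comp, Category.assoc]
  refine congrArg (fun q => (pullbackPushforwardAdjunction g).unit.app M ≫
    (pushforward g).map ((pullbackPushforwardAdjunction f).unit.app ((pullback g).obj M)) ≫ q) ?_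
  simp only [← CategoryTheory.Functor.map_comp] at hc' ⊢
  rw [hc]
  exact h.symm

set_option maxHeartbeats 800000 in
theorem baseChange_comp {U V W : Scheme.{u}} (f : X ⟶ Y) (g : Y ⟶ Z)
    (ξ : X ⟶ U) (η : Y ⟶ V) (ζ : Z ⟶ W) (φ : U ⟶ V) (ψ : V ⟶ W)
    (h₁ : f ≫ η = ξ ≫ φ) (h₂ : g ≫ ζ = η ≫ ψ) (hw : (f ≫ g) ≫ ζ = ξ ≫ (φ ≫ ψ)) (L : Z.Modules) :
    (pullbackComp φ ψ).hom.app ((pushforward ζ).obj L) ≫
        (((pullbackPushforwardAdjunction (φ ≫ ψ)).homEquiv ((pushforward ζ).obj L)
            ((pushforward ξ).obj ((pullback (f ≫ g)).obj L))).symm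
          ((pushforward ζ).map ((pullbackPushforwardAdjunction (f ≫ g)).unit.app L) ≫
            (pushforwardComp (f ≫ g) ζ).hom.app ((pullback (f ≫ g)).obj L) ≫
            (pushforwardCongr hw).hom.app ((pullback (f ≫ g)).obj L) ≫
            (pushforwardComp ξ (φ ≫ ψ)).inv.app ((pullback (f ≫ g)).obj L))) =
      (pullback φ).map (((pullbackPushforwardAdjunction ψ).homEquiv ((pushforward ζ).obj L)
            ((pushforward η).obj ((pullback g).obj L))).symm
          ((pushforward ζ).map ((pullbackPushforwardAdjunction g).unit.app L) ≫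
            (pushforwardComp g ζ).hom.app ((pullback g).obj L) ≫
            (pushforwardCongr h₂).hom.app ((pullback g).obj L) ≫
            (pushforwardComp η ψ).inv.app ((pullback g).obj L))) ≫
        (((pullbackPushforwardAdjunction φ).homEquiv ((pushforward η).obj ((pullback g).obj L))
            ((pushforward ξ).obj ((pullback f).obj ((pullback g).obj L)))).symm
          ((pushforward η).map ((pullbackPushforwardAdjunction f).unit.app ((pullback g).obj L)) ≫
            (pushforwardComp f η).hom.app ((pullback f).obj ((pullback g).obj L)) ≫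
            (pushforwardCongr h₁).hom.app ((pullback f).obj ((pullback g).obj L)) ≫
            (pushforwardComp ξ φ).inv.app ((pullback f).obj ((pullback g).obj L)))) ≫
        (pushforward ξ).map ((pullbackComp f g).hom.app L) := by
  rw [← cancel_epi ((pullbackComp φ ψ).inv.app ((pushforward ζ).obj L)), Iso.inv_hom_id_app_assoc,
    Equiv.symm_apply_eq, homEquiv_comp]
  rw [← Adjunction.homEquiv_naturality_right_symm, ← Adjunction.homEquiv_naturality_left_symm,
    Equiv.apply_symm_apply, Adjunction.homEquiv_naturality_right, Equiv.apply_symm_apply]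
  simp only [unit_pullbackComp, CategoryTheory.Functor.map_comp, Category.assoc]
  apply Scheme.Modules.hom_ext
  intro O
  subst_vars
  simp only [Scheme.Modules.Hom.comp_app, pushforward_map_app, pushforwardComp_hom_app_app,
    pushforwardComp_inv_app_app, pushforwardCongr_hom_app_app, Category.comp_id, Category.id_comp,
    Category.assoc]
  ext m
  exact aux f ((pullbackPushforwardAdjunction f).unit.app ((pullback g).obj L))
    ((pullbackComp f g).hom.app L) (B₁ := η ⁻¹ᵁ ψ ⁻¹ᵁ O) (B := ξ ⁻¹ᵁ φ ⁻¹ᵁ ψ ⁻¹ᵁ O) _ _ _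
    (((pullbackPushforwardAdjunction g).unit.app L).app (ζ ⁻¹ᵁ O) m)

end Groth.Agent.Coh32
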