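import Groth.Prelude.Def_CechOX
import Groth.Agent.QCoh.DevissageIdeal
import Groth.Agent.QCoh.ExtendFT
import Mathlib.AlgebraicGeometry.Morphisms.Separated

/-!
# Terms of the Čech complex of sheaves
-/

universe u

open CategoryTheory CategoryTheory.Limits AlgebraicGeometry TopologicalSpace Opposite
open Groth.Agent.QCoh

namespace Groth.Agent.Coh32

attribute [local instance] hasFiniteBiproducts

variable {X : Scheme.{u}}

theorem isQCoh_pi {β : Type u} [Finite β] (T : β → X.Modules) (h : ∀ b, Coh.IsQCoh (T b)) :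
    Coh.IsQCoh (∏ᶜ T) :=
  have := Fintype.ofFinite β
  (isQCoh_iff_iso (biproduct.isoProduct T).symm).2 (isQCoh_biproduct T h)

theorem isAffineOpen_pi [X.IsSeparated] {ι : Type u} (U : ι → X.Opens) (hU : ∀ i, IsAffineOpen (U i)) :
    ∀ (n : ℕ) (a : Fin (n + 1) → ι), IsAffineOpen (⨅ k, U (a k))
  | 0, a => by
    rw [show (⨅ k, U (a k)) = U (a 0) from le_antisymm (iInf_le _ 0) (le_iInf fun k => by rw [Fin.fin_one_eq_zero k])]
    exact hU _
  | n + 1, a => by
    have : (⨅ k, U (a k)) = U (a 0) ⊓ ⨅ k : Fin (n + 1), U (a k.succ) := by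
      refine le_antisymm (le_inf (iInf_le _ _) (le_iInf fun k => iInf_le _ _)) (le_iInf fun k => ?_)
      induction k using Fin.cases with
      | zero => exact inf_le_left
      | succ k => exact inf_le_right.trans (iInf_le _ k)
    rw [this]
    exact (hU _).inf (isAffineOpen_pi U hU n _)

theorem isQCoh_cechSh_term [X.IsSeparated] {ι : Type u} [Finite ι] (𝒰 : ι → X.Opens)
    (h𝒰 : ∀ i, IsAffineOpen (𝒰 i)) (F : X.Modules) (hF : Coh.IsQCoh F) (p : ℕ) :
    Coh.IsQCoh (((CechOX.cechSh 𝒰).obj F).X p) := by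
  refine @isQCoh_pi _ _ (inferInstanceAs (Finite (Fin (p + 1) → ι))) _ fun a => ?_
  have hW : IsAffineOpen (∏ᶜ (𝒰 ∘ a)) := by
    rw [show (∏ᶜ (𝒰 ∘ a)) = ⨅ k, 𝒰 (a k) from
      le_antisymm (le_iInf fun b => (Pi.π (𝒰 ∘ a) b).le)
        (Pi.lift fun b => homOfLE (iInf_le (fun k => 𝒰 (a k)) b)).le]
    exact isAffineOpen_pi 𝒰 h𝒰 p a
  have := quasiCompact_ι_of_compact _ hW.isCompact
  show Coh.IsQCoh ((Scheme.Modules.pushforward (∏ᶜ (𝒰 ∘ a)).ι).obj (F.restrict (∏ᶜ (𝒰 ∘ a)).ι))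
  exact isQCoh_pushforward _ (isQCoh_restrict _ hF)

end Groth.Agent.Coh32
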