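import Groth.Agent.Coh32.InjAffine
import Groth.Agent.QCoh.Stalk
import Groth.Agent.QCoh.Local
import Groth.Agent.QCoh.ExtendFT

/-!
# Injective modules and their stalks on locally Noetherian schemes
-/

set_option linter.style.haveILetI false
set_option backward.isDefEq.respectTransparency false
set_option backward.isDefEq.respectTransparency.types false
set_option maxHeartbeats 1000000

universe u

open CategoryTheory CategoryTheory.Limits AlgebraicGeometry TopologicalSpace Opposite Groth.Agent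
open Groth.Agent.QCoh Groth.Agent.KFlatLib

namespace Groth.Agent.Coh32

variable {X : Scheme.{u}}

attribute [local instance] CategoryTheory.Limits.HasFiniteBiproducts.of_hasFiniteProducts

theorem rf_mul {U V : X.Opens} (h : V ≤ U) (a b : Γ(X, U)) : rf X h (a * b) = rf X h a * rf X h b :=
  map_mul (X.presheaf.map (homOfLE h).op).hom a b

theorem rf_pow {U V : X.Opens} (h : V ≤ U) (a : Γ(X, U)) (k : ℕ) : rf X h (a ^ k) = rf X h a ^ k :=
  map_pow (X.presheaf.map (homOfLE h).op).hom a k

theorem rf_sum {U V : X.Opens} (h : V ≤ U) {ι : Type*} (s : Finset ι) (a : ι → Γ(X, U)) :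
    rf X h (∑ i ∈ s, a i) = ∑ i ∈ s, rf X h (a i) :=
  map_sum (X.presheaf.map (homOfLE h).op).hom a s

/-- Linear equations with coefficients on an affine open in the sections of an injective module. -/
theorem exists_of_injective {I : X.Modules} (hI : Injective I) {U V : X.Opens} (hU : IsAffineOpen U)
    (hVU : V ≤ U) {n : ℕ} (a : Fin n → Γ(X, U)) (m : Fin n → Γ(I, V))
    (hrel : ∀ b : Fin n → Γ(X, U), ∑ i, b i * a i = 0 → ∑ i, rf X hVU (b i) • m i = 0) :
    ∃ y : Γ(I, V), ∀ i, rf X hVU (a i) • y = m i := by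
  classical
  let R := Scheme.Modules.restrictFunctor V.ι
  haveI := hI
  haveI : Injective (R.obj I) := Injective.injective_of_adjoint (lshAdj V.ι) I
  have hV₀ : V.ι ''ᵁ ⊤ ≤ V := by
    rintro _ ⟨y, -, rfl⟩
    exact y.2
  have hV₁ : V ≤ V.ι ''ᵁ ⊤ := fun x hx => ⟨⟨x, hx⟩, trivial, rfl⟩
  let O := Coh.structureModule (V : Scheme.{u})
  let aV : Fin n → (O ⟶ O) := fun i =>
    homOfTop (P := O) (show Γ((V : Scheme.{u}), ⊤) from rf X (hV₀.trans hVU) (a i))
  let mV : Fin n → (O ⟶ R.obj I) := fun i =>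
    homOfTop (P := R.obj I) (show Γ(R.obj I, ⊤) from rs I hV₀ (m i))
  let α : (⨁ fun _ : Fin n => O) ⟶ O := biproduct.desc aV
  let β : (⨁ fun _ : Fin n => O) ⟶ R.obj I := biproduct.desc mV
  let p := Abelian.factorThruImage α
  have hker : kernel.ι p ≫ β = 0 := by
    have h0 : kernel.ι p ≫ α = 0 :=
      (congrArg (kernel.ι p ≫ ·) (Abelian.image.fac α)).symm.trans (by
        show kernel.ι p ≫ p ≫ _ = 0
        rw [kernel.condition_assoc, zero_comp])
    let k : Fin n → (kernel p ⟶ O) := fun i => kernel.ι p ≫ biproduct.π _ i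
    have hk0 : ∑ i, k i ≫ aV i = 0 := by
      refine Eq.trans ?_ h0
      refine Eq.trans ?_ (congrArg (kernel.ι p ≫ ·) (biproduct.desc_eq (g := aV)).symm)
      simp only [k, Category.assoc, Preadditive.comp_sum]
    have hkβ : kernel.ι p ≫ β = ∑ i, k i ≫ mV i := by
      refine Eq.trans (congrArg (kernel.ι p ≫ ·) (biproduct.desc_eq (g := mV))) ?_
      simp only [k, Category.assoc, Preadditive.comp_sum]
    rw [hkβ]
    refine Scheme.Modules.hom_ext _ _ fun O' => ?_
    ext s
    let ev : ∀ {N : (V : Scheme.{u}).Modules}, (kernel p ⟶ N) →+ Γ(N, O') := fun {N} =>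
      AddMonoidHom.mk' (fun φ => φ.app O' s) fun _ _ => rfl
    show ev (∑ i, k i ≫ mV i) = ev 0
    rw [map_sum, map_zero]
    -- the coefficients
    let W := V.ι ''ᵁ O'
    have hW : W ≤ V.ι ''ᵁ ⊤ := V.ι.image_mono le_top
    have hWV : W ≤ V := hW.trans hV₀
    let c : Fin n → Γ(X, W) := fun i => (k i).app O' s
    have hca : ∑ i, c i * rf X (hWV.trans hVU) (a i) = 0 := by
      have h1 := congrArg (fun φ : kernel p ⟶ O => ev φ) hk0
      simp only [map_sum, map_zero] at h1
      refine Eq.trans (Finset.sum_congr rfl fun i _ => ?_) h1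
      show _ = (aV i).app O' ((k i).app O' s)
      erw [homOfTop_app]
      exact congrArg (fun z : Γ(X, W) => c i * z) (QCoh.ringMap_map _ _ _).symm
    have hcm : ∀ i, ev (k i ≫ mV i) = (show Γ(R.obj I, O') from (c i • rs I hWV (m i) : Γ(I, W))) := by
      intro i
      show (mV i).app O' ((k i).app O' s) = _
      erw [homOfTop_app, restrict_smul_eq]
      refine congrArg (HSMul.hSMul (c i)) ?_
      exact rs_rs (G := I) hV₀ hW (m i)
    simp only [hcm]
    show (∑ i, (c i • rs I hWV (m i) : Γ(I, W))) = 0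
    refine QCoh.eq_zero_of_locally W _ fun q hq => ?_
    obtain ⟨f, hf, hqf⟩ := hU.exists_basicOpen_le ⟨q, hq⟩ (hVU (hWV hq))
    refine ⟨X.basicOpen f, homOfLE hf, hqf, ?_⟩
    letI : Algebra Γ(X, U) Γ(X, X.basicOpen f) := (X.presheaf.map (homOfLE (X.basicOpen_le f)).op).hom.toAlgebra
    haveI : IsLocalization.Away f Γ(X, X.basicOpen f) := hU.isLocalization_basicOpen f
    obtain ⟨⟨e, he⟩, hint⟩ := IsLocalization.exist_integer_multiples_of_finite (Submonoid.powers f)
      (fun i => rf X hf (c i))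
    choose r hr using hint
    replace hr : ∀ i, rf X (X.basicOpen_le f) (r i) = rf X (X.basicOpen_le f) e * rf X hf (c i) := hr
    obtain ⟨⟨g, hg⟩, hgr⟩ : ∃ g : Submonoid.powers f, (g : Γ(X, U)) * ∑ i, r i * a i = 0 := by
      refine (IsLocalization.map_eq_zero_iff (Submonoid.powers f) Γ(X, X.basicOpen f) _).1 ?_
      show rf X (X.basicOpen_le f) (∑ i, r i * a i) = 0
      rw [rf_sum]
      have h2 := congrArg (fun z => rf X (X.basicOpen_le f) e * X.presheaf.map (homOfLE hf).op z) hca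
      simp only [map_sum, map_zero, mul_zero, Finset.mul_sum] at h2
      refine Eq.trans (Finset.sum_congr rfl fun i _ => ?_) h2
      rw [rf_mul, map_mul, hr, mul_assoc, QCoh.ringMap_map]
      rfl
    have h3 := congrArg (rs I (hf.trans hWV)) (hrel (fun i => g * r i) (by
      refine Eq.trans ?_ hgr
      rw [Finset.mul_sum]
      simp only [mul_assoc]))
    simp only [rs, map_sum, map_zero] at h3
    have hu : IsUnit (rf X (X.basicOpen_le f) (g * e)) := by
      obtain ⟨k₁, rfl⟩ := hg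
      obtain ⟨k₂, rfl⟩ := he
      rw [rf_mul, rf_pow, rf_pow]
      exact ((isUnit_rf_basicOpen f).pow k₁).mul ((isUnit_rf_basicOpen f).pow k₂)
    refine hu.smul_left_cancel.1 (Eq.trans ?_ (smul_zero _).symm)
    rw [map_sum, Finset.smul_sum]
    refine Eq.trans (Finset.sum_congr rfl fun i _ => ?_) h3
    rw [QCoh.map_smul', QCoh.map_smul', QCoh.ringMap_map, QCoh.map_map, ← mul_smul]
    congr 1
    show rf X (X.basicOpen_le f) (g * e) * rf X hf (c i) = rf X (X.basicOpen_le f) (g * r i)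
    rw [rf_mul, rf_mul, hr, mul_assoc]
  let γ : Abelian.image α ⟶ R.obj I := Abelian.epiDesc p β hker
  have hγ : p ≫ γ = β := Abelian.comp_epiDesc _ _ _
  let e : O ⟶ R.obj I := Injective.factorThru γ (Abelian.image.ι α)
  have he : α ≫ e = β := by
    rw [← Abelian.image.fac α, Category.assoc, Injective.comp_factorThru, hγ]
  let y₀ : Γ(I, V.ι ''ᵁ ⊤) := e.app ⊤ (1 : Γ((V : Scheme.{u}), ⊤))
  refine ⟨rs I hV₁ y₀, fun i => ?_⟩
  have h1 : aV i ≫ e = mV i := by
    have h := congrArg (biproduct.ι (fun _ : Fin n => O) i ≫ ·) he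
    simp only [α, β, biproduct.ι_desc_assoc, biproduct.ι_desc] at h
    exact h
  have h2 := congrArg (fun φ : O ⟶ R.obj I => φ.app ⊤ (1 : Γ((V : Scheme.{u}), ⊤))) h1
  have hl : (aV i ≫ e).app ⊤ (1 : Γ((V : Scheme.{u}), ⊤)) =
      (show Γ(R.obj I, ⊤) from (rf X (hV₀.trans hVU) (a i) • y₀ : Γ(I, V.ι ''ᵁ ⊤))) := by
    show e.app ⊤ ((aV i).app ⊤ (1 : Γ((V : Scheme.{u}), ⊤))) = _
    erw [homOfTop_app, one_smul, map_id']
    have := Scheme.Modules.Hom.app_smul (M := O) e
      (show Γ((V : Scheme.{u}), ⊤) from rf X (hV₀.trans hVU) (a i)) (1 : Γ((V : Scheme.{u}), ⊤))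
    refine Eq.trans ?_ (this.trans ?_)
    · exact congrArg (e.app ⊤) (mul_one (show Γ((V : Scheme.{u}), ⊤) from rf X (hV₀.trans hVU) (a i))).symm
    · exact restrict_smul_eq _ _ _
  have hr : (mV i).app ⊤ (1 : Γ((V : Scheme.{u}), ⊤)) = (show Γ(R.obj I, ⊤) from rs I hV₀ (m i)) := by
    erw [homOfTop_app, one_smul, map_id']
  have h3 : (rf X (hV₀.trans hVU) (a i) • y₀ : Γ(I, V.ι ''ᵁ ⊤)) = rs I hV₀ (m i) :=
    hl.symm.trans (h2.trans hr)
  have h4 := congrArg (rs I hV₁) h3
  rw [rs_smul, rs_rs, rs_self] at h4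
  rw [← h4]
  congr 1
  exact (QCoh.ringMap_map _ _ _).symm

/-- The stalks of an injective module on a locally Noetherian scheme satisfy Baer's criterion. -/
theorem baer_stalk_of_injective [IsLocallyNoetherian X] {I : X.Modules} (hI : Injective I) (x : X) :
    Module.Baer (X.presheaf.stalk x) (I.presheaf.stalk x) := by
  classical
  intro J g
  obtain ⟨_, ⟨U, hU, rfl⟩, hxU, -⟩ :=
    X.isBasis_affineOpens.exists_subset_of_mem_open (Set.mem_univ x) isOpen_univ
  have hU' : IsAffineOpen U := hU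
  haveI : IsNoetherianRing Γ(X, U) := IsLocallyNoetherian.component_noetherian ⟨U, hU'⟩
  letI := stalkAlg (X := X) hxU
  haveI := isLocalization_stalk' hU' hxU
  let φ := (X.presheaf.germ U x hxU).hom
  obtain ⟨n, a, ha⟩ := Submodule.fg_iff_exists_fin_generating_family.1
    (IsNoetherian.noetherian (J.comap φ))
  have haJ : ∀ i, φ (a i) ∈ J := fun i =>
    show a i ∈ J.comap φ from ha ▸ Submodule.subset_span (Set.mem_range_self i)
  have hJ : J = Ideal.span (Set.range fun i => φ (a i)) := by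
    conv_lhs => rw [← IsLocalization.map_comap (hU'.primeIdealOf ⟨x, hxU⟩).asIdeal.primeCompl
      (X.presheaf.stalk x) J]
    rw [show (fun i => φ (a i)) = φ ∘ a from rfl, Set.range_comp, ← Ideal.map_span]
    exact congrArg (Ideal.map φ) ha.symm
  let e : Fin n → I.presheaf.stalk x := fun i => g ⟨φ (a i), haJ i⟩
  choose Ws hxWs es hes using fun i => TopCat.Presheaf.exists_germ_eq I.presheaf (e i)
  -- a common neighbourhood
  obtain ⟨W, hxW, hWU, hW⟩ : ∃ W : X.Opens, x ∈ W ∧ W ≤ U ∧ ∀ i, W ≤ Ws i := by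
    refine ⟨U ⊓ Finset.univ.inf Ws, ⟨hxU, ?_⟩, inf_le_left,
      fun i => inf_le_right.trans (Finset.inf_le (Finset.mem_univ i))⟩
    suffices h : ∀ t : Finset (Fin n), x ∈ t.inf Ws from h _
    intro t
    induction t using Finset.induction with
    | empty => simp
    | insert j t _ ih => rw [Finset.inf_insert]; exact ⟨hxWs j, ih⟩
  let π : (Fin n → Γ(X, U)) →ₗ[Γ(X, U)] Γ(X, U) := Fintype.linearCombination Γ(X, U) a
  obtain ⟨L, hL⟩ := IsNoetherian.noetherian (LinearMap.ker π)
  -- neighbourhoods where the relations hold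
  have hrel : ∀ b ∈ L, ∃ (W' : X.Opens) (h : W' ≤ W), x ∈ W' ∧
      rs I h (∑ i, rf X hWU (b i) • rs I (hW i) (es i)) = 0 := by
    intro b hb
    have h0 : I.presheaf.germ W x hxW (∑ i, rf X hWU (b i) • rs I (hW i) (es i)) = 0 := by
      rw [map_sum]
      have h1 : ∀ i, I.presheaf.germ W x hxW (rf X hWU (b i) • rs I (hW i) (es i)) = φ (b i) • e i := fun i => by
        rw [germ_smul', X.presheaf.germ_res_apply, I.presheaf.germ_res_apply]
        exact congrArg (φ (b i) • ·) (hes i)
      rw [Finset.sum_congr rfl fun i _ => h1 i]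
      have h2 : π b = 0 := show b ∈ LinearMap.ker π from hL ▸ Submodule.subset_span hb
      rw [Fintype.linearCombination_apply] at h2
      have h3 : (∑ i, φ (b i) • (⟨φ (a i), haJ i⟩ : J)) = 0 := by
        refine Subtype.ext ?_
        rw [Submodule.coe_sum]
        simp only [Submodule.coe_smul, smul_eq_mul, ← map_mul, ← map_sum]
        simp only [smul_eq_mul] at h2
        rw [h2, map_zero]
        rfl
      have h4 := congrArg g h3
      rw [map_sum, map_zero] at h4
      simp only [map_smul] at h4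
      exact h4
    obtain ⟨W', hxW', i₁, _, h'⟩ := I.presheaf.germ_eq x hxW hxW _ 0 (h0.trans (map_zero _).symm)
    exact ⟨W', i₁.le, hxW', h'.trans (map_zero _)⟩
  choose W' hW' hxW' hrel using hrel
  obtain ⟨V, hxV, hVW, hV⟩ : ∃ V : X.Opens, x ∈ V ∧ V ≤ W ∧ ∀ b (hb : b ∈ L), V ≤ W' b hb := by
    refine ⟨W ⊓ L.attach.inf (fun b => W' b.1 b.2), ⟨hxW, ?_⟩, inf_le_left,
      fun b hb => inf_le_right.trans (Finset.inf_le (Finset.mem_attach L ⟨b, hb⟩))⟩
    suffices h : ∀ t : Finset {b // b ∈ L}, x ∈ t.inf (fun b => W' b.1 b.2) from h _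
    intro t
    induction t using Finset.induction with
    | empty => simp
    | insert j t _ ih => rw [Finset.inf_insert]; exact ⟨hxW' j.1 j.2, ih⟩
  let m : Fin n → Γ(I, V) := fun i => rs I (hVW.trans (hW i)) (es i)
  obtain ⟨y, hy⟩ := exists_of_injective hI hU' (hVW.trans hWU) a m fun b hb => by
    have hb' : b ∈ Submodule.span Γ(X, U) (L : Set (Fin n → Γ(X, U))) := hL.symm ▸ (by
      show π b = 0
      rw [Fintype.linearCombination_apply]
      simpa [smul_eq_mul] using hb)
    clear hb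
    induction hb' using Submodule.span_induction with
    | mem b hb =>
      have h1 := congrArg (rs I (hV b hb)) (hrel b hb)
      rw [rs_rs] at h1
      simp only [rs, map_sum, map_zero] at h1
      refine Eq.trans (Finset.sum_congr rfl fun i _ => ?_) h1
      rw [QCoh.map_smul', QCoh.ringMap_map, QCoh.map_map]
      rfl
    | zero => simp
    | add b b' _ _ h h' => simp [add_smul, Finset.sum_add_distrib, h, h']
    | smul r b _ h => simp [mul_smul, ← Finset.smul_sum, h]
  refine ⟨LinearMap.toSpanSingleton _ _ (I.presheaf.germ V x hxV y), fun r hr => ?_⟩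
  rw [LinearMap.toSpanSingleton_apply]
  have hr' : r ∈ Ideal.span (Set.range fun i => φ (a i)) := hJ ▸ hr
  induction hr' using Submodule.span_induction with
  | mem r hr' =>
    obtain ⟨i, rfl⟩ := hr'
    have h1 := congrArg (I.presheaf.germ V x hxV) (hy i)
    rw [germ_smul', X.presheaf.germ_res_apply] at h1
    refine h1.trans ?_
    rw [I.presheaf.germ_res_apply]
    exact hes i
  | zero => rw [zero_smul, ← map_zero g]; rfl
  | add r r' hr₁ hr₂ h h' =>
    have m₁ : r ∈ J := hJ.symm ▸ hr₁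
    have m₂ : r' ∈ J := hJ.symm ▸ hr₂
    rw [add_smul, h m₁, h' m₂, ← map_add]
    rfl
  | smul c r hr₁ h =>
    have m₁ : r ∈ J := hJ.symm ▸ hr₁
    rw [smul_assoc, h m₁, ← map_smul]
    rfl

/-- Injective stalks give injective sections on affine opens. -/
theorem baer_sections_of_baer_stalk {M : X.Modules} (hM : Coh.IsQCoh M)
    (h : ∀ x : X, Module.Baer (X.presheaf.stalk x) (M.presheaf.stalk x)) {U : X.Opens} (hU : IsAffineOpen U)
    [IsNoetherianRing Γ(X, U)] : Module.Baer Γ(X, U) Γ(M, U) := by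
  classical
  intro J g
  obtain ⟨n, a, ha⟩ := Submodule.fg_iff_exists_fin_generating_family.1 (IsNoetherian.noetherian J)
  have haJ : ∀ i, a i ∈ J := fun i => ha ▸ Submodule.subset_span (Set.mem_range_self i)
  let good : Ideal Γ(X, U) :=
    { carrier := {r | ∃ y, ∀ i, a i • y = r • g ⟨a i, haJ i⟩}
      add_mem' := by
        rintro r r' ⟨y, hy⟩ ⟨y', hy'⟩
        exact ⟨y + y', fun i => by rw [smul_add, hy, hy', add_smul]⟩
      zero_mem' := ⟨0, fun i => by rw [smul_zero, zero_smul]⟩
      smul_mem' := by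
        rintro c r ⟨y, hy⟩
        exact ⟨c • y, fun i => by rw [smul_comm, hy, smul_assoc]⟩ }
  suffices h1 : good = ⊤ by
    obtain ⟨y, hy⟩ := (Ideal.eq_top_iff_one good).1 h1
    refine ⟨LinearMap.toSpanSingleton _ _ y, fun r hr => ?_⟩
    rw [LinearMap.toSpanSingleton_apply]
    have hr' : r ∈ Submodule.span Γ(X, U) (Set.range a) := ha.symm ▸ hr
    induction hr' using Submodule.span_induction with
    | mem r hr' =>
      obtain ⟨i, rfl⟩ := hr'
      exact (hy i).trans (one_smul _ _)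
    | zero => rw [zero_smul, ← map_zero g]; rfl
    | add r r' hr₁ hr₂ h h' =>
      have m₁ : r ∈ J := ha ▸ hr₁
      have m₂ : r' ∈ J := ha ▸ hr₂
      rw [add_smul, h m₁, h' m₂, ← map_add]
      rfl
    | smul c r hr₁ h =>
      have m₁ : r ∈ J := ha ▸ hr₁
      rw [smul_assoc, h m₁, ← map_smul]
      rfl
  by_contra hne
  obtain ⟨P, hP, hgP⟩ := Ideal.exists_le_maximal _ hne
  obtain ⟨x, hx, hxP⟩ := exists_point hU ⟨P, hP.isPrime⟩
  letI := stalkAlg (X := X) hx
  letI := stalkModule M hx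
  haveI := isScalarTower_stalk M hx
  haveI hloc := isLocalization_stalk' hU hx
  haveI hlm := isLocalizedModule_germLin hM hU hx
  let φ := (X.presheaf.germ U x hx).hom
  let γ := fun z => M.presheaf.germ U x hx z
  have hγ : ∀ r z, γ (r • z) = φ r • γ z := fun r z => germ_smul' M hx r z
  obtain ⟨y, hy⟩ := exists_extend_of_baer (h x)
    (Fintype.linearCombination (X.presheaf.stalk x) fun i => φ (a i))
    (Fintype.linearCombination (X.presheaf.stalk x) fun i => γ (g ⟨a i, haJ i⟩)) fun v hv => by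
      rw [Fintype.linearCombination_apply] at hv ⊢
      obtain ⟨s, hint⟩ := IsLocalization.exist_integer_multiples_of_finite
        (hU.primeIdealOf ⟨x, hx⟩).asIdeal.primeCompl v
      choose r hr using hint
      replace hr : ∀ i, φ (r i) = φ s.1 * v i := hr
      obtain ⟨u, hu⟩ := (IsLocalization.map_eq_zero_iff (hU.primeIdealOf ⟨x, hx⟩).asIdeal.primeCompl
        (X.presheaf.stalk x) (∑ i, r i * a i)).1 (by
          show φ (∑ i, r i * a i) = 0
          rw [map_sum]
          simp only [map_mul, hr, mul_assoc, ← Finset.mul_sum]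
          simp only [smul_eq_mul] at hv
          rw [hv, mul_zero])
      have hg0 : u.1 • ∑ i, r i • g ⟨a i, haJ i⟩ = 0 := by
        have h1 : (u.1 • ∑ i, r i • (⟨a i, haJ i⟩ : J)) = 0 := by
          refine Subtype.ext ?_
          rw [Submodule.coe_smul, Submodule.coe_sum]
          simpa [smul_eq_mul] using hu
        have h2 := congrArg g h1
        simpa only [map_smul, map_sum, map_zero] using h2
      have hus : IsUnit (φ (u.1 * s.1)) := by
        rw [map_mul]
        exact (IsLocalization.map_units (X.presheaf.stalk x) u).mul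
          (IsLocalization.map_units (X.presheaf.stalk x) s)
      refine hus.smul_left_cancel.1 (Eq.trans ?_ (smul_zero _).symm)
      have h3 := congrArg γ hg0
      simp only [hγ, γ, map_sum, map_zero] at h3
      rw [← h3, Finset.smul_sum, Finset.smul_sum]
      refine Finset.sum_congr rfl fun i _ => ?_
      rw [hr, ← mul_smul, ← mul_smul, map_mul, mul_assoc]
  obtain ⟨⟨y₀, s⟩, hs⟩ := IsLocalizedModule.surj
    (hU.primeIdealOf ⟨x, hx⟩).asIdeal.primeCompl (germLin M hx) y
  replace hs : φ s.1 • y = γ y₀ := hs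
  have hi : ∀ i, ∃ u : (hU.primeIdealOf ⟨x, hx⟩).asIdeal.primeCompl,
      u.1 • (a i • y₀) = u.1 • (s.1 • g ⟨a i, haJ i⟩) := by
    intro i
    have h1 := hy (Pi.single i 1)
    simp only [Fintype.linearCombination_apply_single, one_smul] at h1
    obtain ⟨u, hu⟩ := IsLocalizedModule.exists_of_eq (S := (hU.primeIdealOf ⟨x, hx⟩).asIdeal.primeCompl)
      (f := germLin M hx) (x₁ := a i • y₀) (x₂ := s.1 • g ⟨a i, haJ i⟩) (by
        show γ _ = γ _
        rw [hγ, hγ, ← hs, smul_comm, h1])
    exact ⟨u, hu⟩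
  choose u hu using hi
  have hmem : (∏ i, u i).1 * s.1 ∈ good := by
    refine ⟨(∏ i, u i).1 • y₀, fun i => ?_⟩
    rw [mul_smul, smul_comm]
    obtain ⟨w, hw⟩ := Finset.dvd_prod_of_mem u (Finset.mem_univ i)
    rw [hw, Submonoid.coe_mul, mul_comm, mul_smul, hu i, ← mul_smul]
  have e : (hU.primeIdealOf ⟨x, hx⟩).asIdeal = P := congrArg PrimeSpectrum.asIdeal hxP
  have hnot : ((∏ i, u i) * s).1 ∉ P := fun h' =>
    (show ((∏ i, u i) * s).1 ∉ (hU.primeIdealOf ⟨x, hx⟩).asIdeal from ((∏ i, u i) * s).2) (e.ge h')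
  exact hnot (hgP hmem)

end Groth.Agent.Coh32

namespace Groth.Agent.Coh32

variable {X : Scheme.{u}}

/-- A quasi-coherent module with injective stalks on a locally Noetherian scheme is injective. -/
theorem injective_of_baer_stalk [IsLocallyNoetherian X] {M : X.Modules} (hM : Coh.IsQCoh M)
    (h : ∀ x : X, Module.Baer (X.presheaf.stalk x) (M.presheaf.stalk x)) : Injective M := by
  refine InjLocal.injective_of_local M fun x => ?_
  obtain ⟨_, ⟨U, hU, rfl⟩, hxU, -⟩ :=
    X.isBasis_affineOpens.exists_subset_of_mem_open (Set.mem_univ x) isOpen_univ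
  have hU' : IsAffineOpen U := hU
  obtain ⟨U', hxU, hU'⟩ : ∃ U' : X.Opens, x ∈ U' ∧ IsAffineOpen U' := ⟨U, hxU, hU'⟩
  clear hU
  haveI : IsAffine (U' : Scheme.{u}) := hU'
  haveI : IsLocallyNoetherian (U' : Scheme.{u}) := isLocallyNoetherian_of_isOpenImmersion U'.ι
  haveI : IsNoetherianRing Γ((U' : Scheme.{u}), ⊤) :=
    IsLocallyNoetherian.component_noetherian ⟨⊤, isAffineOpen_top _⟩
  have hW : IsAffineOpen (U'.ι ''ᵁ ⊤) := (isAffineOpen_top _).image_of_isOpenImmersion U'.ι
  haveI : IsNoetherianRing Γ(X, U'.ι ''ᵁ ⊤) := IsLocallyNoetherian.component_noetherian ⟨_, hW⟩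
  refine ⟨U', hxU, injective_of_baer_top (isQCoh_restrict U'.ι hM) ?_⟩
  exact baer_of_semilinearEquiv (B := Γ((U' : Scheme.{u}), ⊤)) (A := Γ(X, U'.ι ''ᵁ ⊤)) (RingEquiv.refl _)
    (P := Γ(M, U'.ι ''ᵁ ⊤)) (Q := Γ(M.restrict U'.ι, ⊤)) (AddEquiv.refl _)
    (fun b p => (restrict_smul_eq (M := M) (V := U') ⊤ b p).symm) (baer_sections_of_baer_stalk hM h hW)

end Groth.Agent.Coh32
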