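import Groth.Agent.Coh32.ExtendInj
import Groth.Agent.Coh32.InjStalk
import Groth.Agent.QCoh.Support
import Groth.Agent.QCoh.Extension
import Groth.Agent.QCoh.VanIdeal
import Groth.Agent.QCoh.RpushProper
import Groth.Agent.QCoh.SubCompare
import Groth.Agent.QCohAb92.Grothendieck

/-!
# Consequences of the extension theorem: extension of morphisms, injective quasi-coherent modules
-/

set_option backward.isDefEq.respectTransparency false
set_option backward.isDefEq.respectTransparency.types false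
set_option linter.style.haveILetI false
set_option maxHeartbeats 1000000

universe u

open CategoryTheory CategoryTheory.Limits AlgebraicGeometry TopologicalSpace Opposite
open Groth.Agent.QCoh

namespace Groth.Agent.Coh32

variable {X : Scheme.{u}} [IsLocallyNoetherian X]

/-- The whole module as a submodule. -/
noncomputable def topSub (G : X.Modules) : SubMod G where
  mem _ := ⊤
  map_mem _ _ _ := trivial
  of_locally _ _ _ := trivial

omit [IsLocallyNoetherian X] in
theorem noetherian_nhds_of [IsLocallyNoetherian X] (x : X) :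
    ∃ U : X.Opens, x ∈ U ∧ NoetherianSpace (U : Set X) := by
  obtain ⟨V, hV, hxV⟩ : ∃ V : X.Opens, IsAffineOpen V ∧ x ∈ V := by
    obtain ⟨_, ⟨V, hV, rfl⟩, hxV, -⟩ :=
      X.isBasis_affineOpens.exists_subset_of_mem_open (Set.mem_univ x) isOpen_univ
    exact ⟨V, hV, hxV⟩
  haveI : IsAffine (V : Scheme.{u}) := hV
  haveI : IsLocallyNoetherian (V : Scheme.{u}) := isLocallyNoetherian_of_isOpenImmersion V.ι
  haveI : IsNoetherian (V : Scheme.{u}) := {}
  exact ⟨V, hxV, (inferInstance : NoetherianSpace (V : Scheme.{u}))⟩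

theorem ftOn_topSub {G : X.Modules} (hG : Coh.IsCoh G) (U : X.Opens) : FTOn (topSub G) U := by
  intro x hx
  obtain ⟨_, ⟨V, hV, rfl⟩, hxV, hVU⟩ := X.isBasis_affineOpens.exists_subset_of_mem_open hx U.2
  have hV' : IsAffineOpen V := hV
  haveI := finite_sections hG hV'
  obtain ⟨T, hT⟩ := Module.Finite.fg_top (R := Γ(X, V)) (M := Γ(G, V))
  refine ⟨V, hV, hxV, hVU, T, T.finite_toSet, fun _ _ => trivial, fun O hO s _ y hy => ?_⟩
  obtain ⟨g, hg, hyg⟩ := hV'.exists_basicOpen_le ⟨y, hy⟩ (hO hy)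
  refine ⟨X.basicOpen g, hg, hyg, ?_⟩
  obtain ⟨n, t, ht⟩ := exists_pow_smul_eq_map hG.1 hV' g (rs G hg s)
  have h1 : t ∈ Submodule.span Γ(X, V) (T : Set Γ(G, V)) := hT.symm ▸ trivial
  have h2 := rs_mem_span (X.basicOpen_le g) h1
  rw [rs, ht] at h2
  exact (Submodule.smul_mem_iff_of_isUnit _ ((isUnit_rf_basicOpen g).pow n)).1 h2

omit [IsLocallyNoetherian X] in
theorem bijective_unit_app (G : X.Modules) {U O : X.Opens} (h : O ≤ U) :
    Function.Bijective (((Scheme.Modules.restrictAdjunction U.ι).unit.app G).app O) := by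
  rw [Scheme.Modules.restrictAdjunction_unit_app_app]
  have e : U.ι ''ᵁ (U.ι ⁻¹ᵁ O) = O := by
    rw [Scheme.Hom.image_preimage_eq_opensRange_inf, Scheme.Opens.opensRange_ι, inf_eq_right.2 h]
  have : IsIso ((homOfLE e.le).op : op O ⟶ op (U.ι ''ᵁ (U.ι ⁻¹ᵁ O))) :=
    ⟨(homOfLE e.ge).op, Subsingleton.elim _ _, Subsingleton.elim _ _⟩
  exact ConcreteCategory.bijective_of_isIso (G.presheaf.map (homOfLE e.le).op)

omit [IsLocallyNoetherian X] in
theorem isIso_restrict_of_bijective {A B : X.Modules} (φ : A ⟶ B) (U : X.Opens)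
    (h : ∀ O, O ≤ U → Function.Bijective (φ.app O)) :
    IsIso ((Scheme.Modules.restrictFunctor U.ι).map φ) :=
  Scheme.Modules.Hom.isIso_iff_isIso_app.2 fun W => (ConcreteCategory.isIso_iff_bijective _).2
    (h (U.ι ''ᵁ W) (U.ι_image_le W))

/-- A morphism on an open extends to a coherent submodule (S0816). -/
theorem exists_extend_hom {F G : X.Modules} (hF : Coh.IsCoh F) (hG : Coh.IsCoh G) (U : X.Opens)
    (φ : (Scheme.Modules.restrictFunctor U.ι).obj F ⟶ (Scheme.Modules.restrictFunctor U.ι).obj G) :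
    ∃ (F' : X.Modules) (ι : F' ⟶ F) (φ' : F' ⟶ G), Mono ι ∧ Coh.IsCoh F' ∧
      IsIso ((Scheme.Modules.restrictFunctor U.ι).map ι) ∧
      (Scheme.Modules.restrictFunctor U.ι).map φ' = (Scheme.Modules.restrictFunctor U.ι).map ι ≫ φ := by
  let R := Scheme.Modules.restrictFunctor U.ι
  let adj := Scheme.Modules.restrictAdjunction U.ι
  haveI : QuasiCompact U.ι := quasiCompact_ι_of_noetherian noetherian_nhds_of U
  let H := (Scheme.Modules.pushforward U.ι).obj (R.obj G)
  have hH : Coh.IsQCoh H := isQCoh_pushforward U.ι (isQCoh_restrict U.ι hG.1)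
  let η : G ⟶ H := adj.unit.app G
  have hinj : InjOnSub (topSub G) η U := fun O hO s _ h0 =>
    (bijective_unit_app G hO).1 (h0.trans (map_zero _).symm)
  obtain ⟨N, hN, hag, hi⟩ := exists_extend_inj hG.1 hH η (ftOn_topSub hG U) hinj
  let β : N.toModules ⟶ H := N.ι ≫ η
  haveI : Mono β := mono_of_app_injective _ fun O => (injective_iff_map_eq_zero _).2 fun s hs =>
    N.ι_app_injective O ((hi O le_top _ (N.ι_app_mem O s) hs).trans (map_zero _).symm)
  have hNq : Coh.IsQCoh N.toModules := isQCoh_of_ftOn hG.1 hN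
  haveI hRι : IsIso (R.map N.ι) := isIso_restrict_of_bijective _ U fun O hO =>
    ⟨N.ι_app_injective O, fun s => N.exists_app_eq ((hag O hO).symm ▸ trivial)⟩
  haveI hRη : IsIso (R.map η) := isIso_restrict_of_bijective _ U fun O hO => bijective_unit_app G hO
  let α : F ⟶ H := adj.homEquiv _ _ φ
  let κ : F ⟶ cokernel β := α ≫ cokernel.π β
  have hRπ : R.map (cokernel.π β) = 0 := by
    haveI : IsIso (R.map β) := by rw [R.map_comp]; infer_instance
    haveI : Epi (R.map β) := IsIso.epi_of_iso _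
    rw [← cancel_epi (R.map β), ← R.map_comp, cokernel.condition, R.map_zero, comp_zero]
  have hl : (kernel.ι κ ≫ α) ≫ cokernel.π β = 0 := by
    rw [Category.assoc]; exact kernel.condition κ
  let l : kernel κ ⟶ N.toModules := Abelian.monoLift β (kernel.ι κ ≫ α) hl
  have hlβ : l ≫ N.ι ≫ η = kernel.ι κ ≫ α := Abelian.monoLift_comp β _ hl
  haveI hiso : IsIso (R.map (kernel.ι κ)) := by
    have hκ : R.map κ = 0 := by rw [R.map_comp, hRπ, comp_zero]
    haveI : Mono (R.map (kernel.ι κ)) := inferInstance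
    haveI : Epi (R.map (kernel.ι κ)) :=
      ((ShortComplex.exact_of_f_is_kernel (ShortComplex.mk _ κ (kernel.condition κ))
        (kernelIsKernel κ)).map R).epi_f hκ
    exact isIso_of_mono_of_epi _
  refine ⟨kernel κ, kernel.ι κ, l ≫ N.ι, inferInstance,
    isCoh_of_mono (kernel.ι κ) hF (isQCoh_kernel hF.1 (isQCoh_cokernel hNq hH β) κ), hiso, ?_⟩
  · have h1 := congrArg (R.map) hlβ
    rw [R.map_comp, R.map_comp, R.map_comp, ← Category.assoc, ← R.map_comp] at h1
    have h2 : R.map η ≫ adj.counit.app (R.obj G) = 𝟙 _ := adj.left_triangle_components G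
    have h3 : R.map α ≫ adj.counit.app (R.obj G) = φ :=
      ((adj.homEquiv_counit _ _ _).symm.trans ((adj.homEquiv _ _).symm_apply_apply φ))
    have h4 := congrArg (· ≫ adj.counit.app (R.obj G)) h1
    simp only [Category.assoc, h2, h3, Category.comp_id] at h4
    exact h4

/-- A morphism on an open to a quasi-coherent module extends to a coherent submodule. -/
theorem exists_extend_hom_qcoh {F G : X.Modules} (hF : Coh.IsCoh F) (hG : Coh.IsQCoh G) (U : X.Opens)
    (φ : (Scheme.Modules.restrictFunctor U.ι).obj F ⟶ (Scheme.Modules.restrictFunctor U.ι).obj G) :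
    ∃ (F' : X.Modules) (ι : F' ⟶ F) (φ' : F' ⟶ G), Mono ι ∧ Coh.IsCoh F' ∧
      IsIso ((Scheme.Modules.restrictFunctor U.ι).map ι) ∧
      (Scheme.Modules.restrictFunctor U.ι).map φ' = (Scheme.Modules.restrictFunctor U.ι).map ι ≫ φ := by
  let R := Scheme.Modules.restrictFunctor U.ι
  let adj := Scheme.Modules.restrictAdjunction U.ι
  haveI : QuasiCompact U.ι := quasiCompact_ι_of_noetherian noetherian_nhds_of U
  let H := (Scheme.Modules.pushforward U.ι).obj (R.obj G)
  have hH : Coh.IsQCoh H := isQCoh_pushforward U.ι (isQCoh_restrict U.ι hG)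
  let η : G ⟶ H := adj.unit.app G
  haveI : IsLocallyNoetherian (U : Scheme.{u}) := isLocallyNoetherian_of_isOpenImmersion U.ι
  let i := Abelian.image.ι φ
  have hI : Coh.IsCoh (Abelian.image φ) := isCoh_of_epi (Abelian.factorThruImage φ) (isCoh_restrict_open hF)
    (isQCoh_kernel (isQCoh_restrict U.ι hG) (isQCoh_cokernel (isQCoh_restrict U.ι hF.1) (isQCoh_restrict U.ι hG) φ) _)
  have hinj : InjOnSub (extSub i) η U := fun O hO s _ h0 =>
    (bijective_unit_app G hO).1 (h0.trans (map_zero _).symm)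
  obtain ⟨N, hN, hag, hi⟩ := exists_extend_inj hG hH η (ftOn_extSub i hI.1 hI.2) hinj
  let β : N.toModules ⟶ H := N.ι ≫ η
  haveI : Mono β := mono_of_app_injective _ fun O => (injective_iff_map_eq_zero _).2 fun s hs =>
    N.ι_app_injective O ((hi O le_top _ (N.ι_app_mem O s) hs).trans (map_zero _).symm)
  have hNq : Coh.IsQCoh N.toModules := isQCoh_of_ftOn hG hN
  obtain ⟨e, he⟩ := exists_restrict_iso i hag
  haveI hRη : IsIso (R.map η) := isIso_restrict_of_bijective _ U fun O hO => bijective_unit_app G hO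
  let α : F ⟶ H := adj.homEquiv _ _ φ
  let κ : F ⟶ cokernel β := α ≫ cokernel.π β
  have hRκ : R.map κ = 0 := by
    have hc : R.map β ≫ R.map (cokernel.π β) = 0 := by rw [← R.map_comp, cokernel.condition, R.map_zero]
    have h2 : R.map η ≫ adj.counit.app (R.obj G) = 𝟙 _ := adj.left_triangle_components G
    have h3 : R.map α ≫ adj.counit.app (R.obj G) = φ :=
      ((adj.homEquiv_counit _ _ _).symm.trans ((adj.homEquiv _ _).symm_apply_apply φ))
    have h4 : R.map α = φ ≫ R.map η := by
      haveI : Mono (adj.counit.app (R.obj G)) := inferInstance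
      rw [← cancel_mono (adj.counit.app (R.obj G)), h3, Category.assoc, h2, Category.comp_id]
    have h5 : φ = Abelian.factorThruImage φ ≫ e.inv ≫ R.map N.ι := by
      rw [← he, Iso.inv_hom_id_assoc]
      exact (Abelian.image.fac φ).symm
    rw [R.map_comp, h4, h5, Category.assoc, Category.assoc, Category.assoc]
    rw [R.map_comp, Category.assoc] at hc
    rw [hc, comp_zero, comp_zero]
  have hl : (kernel.ι κ ≫ α) ≫ cokernel.π β = 0 := by
    rw [Category.assoc]; exact kernel.condition κ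
  let l : kernel κ ⟶ N.toModules := Abelian.monoLift β (kernel.ι κ ≫ α) hl
  have hlβ : l ≫ N.ι ≫ η = kernel.ι κ ≫ α := Abelian.monoLift_comp β _ hl
  haveI hiso : IsIso (R.map (kernel.ι κ)) := by
    have hκ : R.map κ = 0 := hRκ
    haveI : Mono (R.map (kernel.ι κ)) := inferInstance
    haveI : Epi (R.map (kernel.ι κ)) :=
      ((ShortComplex.exact_of_f_is_kernel (ShortComplex.mk _ κ (kernel.condition κ))
        (kernelIsKernel κ)).map R).epi_f hκ
    exact isIso_of_mono_of_epi _
  refine ⟨kernel κ, kernel.ι κ, l ≫ N.ι, inferInstance,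
    isCoh_of_mono (kernel.ι κ) hF (isQCoh_kernel hF.1 (isQCoh_cokernel hNq hH β) κ), hiso, ?_⟩
  · have h1 := congrArg (R.map) hlβ
    rw [R.map_comp, R.map_comp, R.map_comp, ← Category.assoc, ← R.map_comp] at h1
    have h2 : R.map η ≫ adj.counit.app (R.obj G) = 𝟙 _ := adj.left_triangle_components G
    have h3 : R.map α ≫ adj.counit.app (R.obj G) = φ :=
      ((adj.homEquiv_counit _ _ _).symm.trans ((adj.homEquiv _ _).symm_apply_apply φ))
    have h4 := congrArg (· ≫ adj.counit.app (R.obj G)) h1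
    simp only [Category.assoc, h2, h3, Category.comp_id] at h4
    exact h4

/-- Deligne: a morphism on the complement of a closed subset extends to some `I ^ n • G` (S9515). -/
theorem exists_extend_idealMul {X : Scheme.{u}} [IsNoetherian X] {F G : X.Modules} (hF : Coh.IsQCoh F)
    (hG : Coh.IsCoh G) (I : X.IdealSheafData) (U : X.Opens) (hU : (U : Set X) = (I.support : Set X)ᶜ)
    (φ : (Scheme.Modules.restrictFunctor U.ι).obj G ⟶ (Scheme.Modules.restrictFunctor U.ι).obj F) :
    ∃ (n : ℕ) (ψ : (Dual3.idealMul (I ^ n)).obj G ⟶ F),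
      (Scheme.Modules.restrictFunctor U.ι).map ψ =
        (Scheme.Modules.restrictFunctor U.ι).map (Dual3.idealMulι (I ^ n) G) ≫ φ := by
  obtain ⟨G', ι, φ', hmono, hG', hiso, hφ'⟩ := exists_extend_hom_qcoh hG hF U φ
  haveI := hmono
  haveI := hiso
  let R := Scheme.Modules.restrictFunctor U.ι
  have hQ : Coh.IsCoh (cokernel ι) := isCoh_of_epi (cokernel.π ι) hG (isQCoh_cokernel hG'.1 hG.1 ι)
  have hs : CohB1.support (cokernel ι) ⊆ (I.support : Set X) := by
    intro x hx
    by_contra hxI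
    have hxU : x ∈ U := show x ∈ (U : Set X) by rw [hU]; exact hxI
    have h0 : R.map (cokernel.π ι) = 0 := by
      haveI : Epi (R.map ι) := IsIso.epi_of_iso _
      rw [← cancel_epi (R.map ι), ← R.map_comp, cokernel.condition, R.map_zero, comp_zero]
    have h1 := InjLocal.stalk_zero_of_restrict U (cokernel.π ι) h0 x hxU
    haveI : Epi ((DerSch.stalkFunctor X x).map (cokernel.π ι)) := inferInstance
    have h2 : IsZero ((DerSch.stalkFunctor X x).obj (cokernel ι)) := IsZero.of_epi_eq_zero _ h1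
    exact hx (ModuleCat.subsingleton_of_isZero h2)
  obtain ⟨n, hn⟩ := exists_pow_kills hQ I hs
  have h0 : Dual3.idealMulι (I ^ n) G ≫ cokernel.π ι = 0 := by
    refine hom_eq_zero_of_cover (isQCoh_idealMul _ hG.1) hQ.1 _ (fun V : X.affineOpens => V.1)
      (fun V => V.2) (fun x => ?_) fun V x => ?_
    · obtain ⟨W, hW, hxW⟩ := exists_affine_mem x
      exact ⟨⟨W, hW⟩, hxW⟩
    · have hmem : (Dual3.idealMulι (I ^ n) G).app V.1 x ∈
          (I ^ n).ideal V • (⊤ : Submodule Γ(X, V.1) Γ(G, V.1)) := by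
        rw [← range_idealMul (I ^ n) hG.1 V.2]
        exact ⟨x, rfl⟩
      show (cokernel.π ι).app V.1 ((Dual3.idealMulι (I ^ n) G).app V.1 x) = 0
      generalize (Dual3.idealMulι (I ^ n) G).app V.1 x = z at hmem
      rw [Scheme.IdealSheafData.ideal_pow, Pi.pow_apply] at hmem
      refine Submodule.smul_induction_on hmem (fun r hr m _ => ?_) fun a b ha hb => by
        rw [map_add, ha, hb, add_zero]
      rw [Scheme.Modules.Hom.app_smul]
      exact Module.mem_annihilator.1 (hn V hr) _
  let l := Abelian.monoLift ι (Dual3.idealMulι (I ^ n) G) h0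
  refine ⟨n, l ≫ φ', ?_⟩
  have hl : l ≫ ι = Dual3.idealMulι (I ^ n) G := Abelian.monoLift_comp _ _ _
  rw [Functor.map_comp, hφ', ← Category.assoc, ← Functor.map_comp, hl]

end Groth.Agent.Coh32

namespace Groth.Agent.Coh32

variable {X : Scheme.{u}} [IsLocallyNoetherian X]

/-- Injective sections on affine opens give an injective module. -/
theorem injective_of_baer_sections {M : X.Modules} (hM : Coh.IsQCoh M)
    (h : ∀ U : X.Opens, IsAffineOpen U → Module.Baer Γ(X, U) Γ(M, U)) : Injective M := by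
  refine InjLocal.injective_of_local M fun x => ?_
  obtain ⟨U, hU, hxU⟩ : ∃ U : X.Opens, IsAffineOpen U ∧ x ∈ U := by
    obtain ⟨_, ⟨U, hU, rfl⟩, hxU, -⟩ :=
      X.isBasis_affineOpens.exists_subset_of_mem_open (Set.mem_univ x) isOpen_univ
    exact ⟨U, hU, hxU⟩
  haveI : IsAffine (U : Scheme.{u}) := hU
  haveI : IsLocallyNoetherian (U : Scheme.{u}) := isLocallyNoetherian_of_isOpenImmersion U.ι
  haveI : IsNoetherianRing Γ((U : Scheme.{u}), ⊤) :=
    IsLocallyNoetherian.component_noetherian ⟨⊤, isAffineOpen_top _⟩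
  have hW : IsAffineOpen (U.ι ''ᵁ ⊤) := (isAffineOpen_top _).image_of_isOpenImmersion U.ι
  refine ⟨U, hxU, injective_of_baer_top (isQCoh_restrict U.ι hM) ?_⟩
  exact baer_of_semilinearEquiv (B := Γ((U : Scheme.{u}), ⊤)) (A := Γ(X, U.ι ''ᵁ ⊤)) (RingEquiv.refl _)
    (P := Γ(M, U.ι ''ᵁ ⊤)) (Q := Γ(M.restrict U.ι, ⊤)) (AddEquiv.refl _)
    (fun b p => (restrict_smul_eq (M := M) (V := U) ⊤ b p).symm) (h _ hW)

/-- Injectivity in quasi-coherent modules gives injective sections on affine opens. -/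
theorem baer_sections_of_extend {J : X.Modules} (hJ : Coh.IsQCoh J)
    (hext : ∀ (P : X.Modules), Coh.IsQCoh P → ∀ (a : P ⟶ Coh.structureModule X) [Mono a] (b : P ⟶ J),
      ∃ e : Coh.structureModule X ⟶ J, a ≫ e = b)
    {U : X.Opens} (hU : IsAffineOpen U) : Module.Baer Γ(X, U) Γ(J, U) := by
  classical
  intro I g
  haveI : IsNoetherianRing Γ(X, U) := IsLocallyNoetherian.component_noetherian ⟨U, hU⟩
  let O := Coh.structureModule X
  let G := O ⊞ J
  have hO : Coh.IsQCoh O := isQCoh_structureModule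
  have hG : Coh.IsQCoh G :=
    isQCoh_X₂ (ShortComplex.Splitting.ofHasBinaryBiproduct O J).shortExact hO hJ
  obtain ⟨S, hS⟩ := IsNoetherian.noetherian I
  have hSI : ∀ a ∈ S, a ∈ I := fun a ha => hS ▸ Submodule.subset_span ha
  let t : {a // a ∈ S} → Γ(G, U) := fun a =>
    (biprod.inl : O ⟶ G).app U (a.1 : Γ(X, U)) + (biprod.inr : J ⟶ G).app U (g ⟨a.1, hSI a.1 a.2⟩)
  have hfst : ∀ a, (biprod.fst : G ⟶ O).app U (t a) = (a.1 : Γ(X, U)) := fun a => by
    show (biprod.fst : G ⟶ O).app U (_ + _) = _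
    rw [map_add]
    show ((biprod.inl : O ⟶ G) ≫ biprod.fst).app U _ + ((biprod.inr : J ⟶ G) ≫ biprod.fst).app U _ = _
    rw [biprod.inl_fst, biprod.inr_fst]
    exact add_zero _
  have hsnd : ∀ a, (biprod.snd : G ⟶ J).app U (t a) = g ⟨a.1, hSI a.1 a.2⟩ := fun a => by
    show (biprod.snd : G ⟶ J).app U (_ + _) = _
    rw [map_add]
    show ((biprod.inl : O ⟶ G) ≫ biprod.snd).app U _ + ((biprod.inr : J ⟶ G) ≫ biprod.snd).app U _ = _
    rw [biprod.inl_snd, biprod.inr_snd]
    exact zero_add _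
  let T : Set Γ(G, U) := Set.range t
  -- on the span of `T` the first projection determines the second
  have hk : ∀ z ∈ Submodule.span Γ(X, U) T, (biprod.fst : G ⟶ O).app U z = 0 → z = 0 := by
    intro z hz h0
    rw [Submodule.mem_span_range_iff_exists_fun] at hz
    obtain ⟨c, rfl⟩ := hz
    have h1 : ∀ {K : X.Modules} (π : G ⟶ K), π.app U (∑ a, c a • t a) = ∑ a, c a • π.app U (t a) :=
      fun π => by rw [map_sum]; exact Finset.sum_congr rfl fun a _ => Scheme.Modules.Hom.app_smul _ _ _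
    have h2 : (∑ a, c a • (⟨a.1, hSI a.1 a.2⟩ : I)) = 0 := by
      refine Subtype.ext ?_
      rw [Submodule.coe_sum]
      rw [h1] at h0
      refine Eq.trans (Finset.sum_congr rfl fun a _ => ?_) h0
      exact (congrArg (c a • ·) (hfst a)).symm
    have h3 : (biprod.snd : G ⟶ J).app U (∑ a, c a • t a) = 0 := by
      rw [h1]
      have := congrArg g h2
      rw [map_sum, map_zero] at this
      simp only [map_smul] at this
      exact (Finset.sum_congr rfl fun a _ => congrArg (c a • ·) (hsnd a)).trans this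
    generalize (∑ a, c a • t a) = z at h0 h3
    have hid := congrArg (fun φ : G ⟶ G => φ.app U z) (biprod.total (X := O) (Y := J))
    refine hid.symm.trans ?_
    show (biprod.inl : O ⟶ G).app U ((biprod.fst : G ⟶ O).app U z) +
      (biprod.inr : J ⟶ G).app U ((biprod.snd : G ⟶ J).app U z) = 0
    rw [h0, h3, map_zero, map_zero, add_zero]
  have hbot : InjOnSub (spanSub T) (biprod.fst : G ⟶ O) ⊥ := fun O' hO' s _ _ =>
    eq_zero_of_locally O' s fun x hx => absurd (hO' hx) id
  have hinj : InjOnSub (spanSub T) (biprod.fst : G ⟶ O) U := by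
    have h := injOnSub_sup hG hO (biprod.fst : G ⟶ O) hU hbot (fun _ _ => rfl) T hk
      fun O' hO' s hs x hx => by
        obtain ⟨P, hPO, hPV, hxP, hP⟩ := hs x hx (hO' hx)
        exact ⟨P, hPO, hxP, hP⟩
    rwa [bot_sup_eq] at h
  obtain ⟨N, hN, hag, hi⟩ := exists_extend_inj hG hO (biprod.fst : G ⟶ O)
    (ftOn_spanSub hU (Set.finite_range t)) hinj
  haveI : Mono (N.ι ≫ (biprod.fst : G ⟶ O)) := mono_of_app_injective _ fun O' =>
    (injective_iff_map_eq_zero _).2 fun s hs =>
      N.ι_app_injective O' ((hi O' le_top _ (N.ι_app_mem O' s) hs).trans (map_zero _).symm)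
  obtain ⟨e, he⟩ := hext N.toModules (isQCoh_of_ftOn hG hN) (N.ι ≫ biprod.fst) (N.ι ≫ biprod.snd)
  let y : Γ(J, U) := e.app U (1 : Γ(X, U))
  refine ⟨LinearMap.toSpanSingleton _ _ y, fun r hr => ?_⟩
  rw [LinearMap.toSpanSingleton_apply]
  have hr' : r ∈ Submodule.span Γ(X, U) (S : Set Γ(X, U)) := hS.symm ▸ hr
  induction hr' using Submodule.span_induction with
  | mem a ha =>
    obtain ⟨s, hs⟩ := N.exists_app_eq (s := t ⟨a, ha⟩)
      ((hag U le_rfl).symm ▸ mem_spanSub (Set.mem_range_self _))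
    have h1 := congrArg (fun φ : N.toModules ⟶ J => φ.app U s) he
    change e.app U ((biprod.fst : G ⟶ O).app U (N.ι.app U s)) =
      (biprod.snd : G ⟶ J).app U (N.ι.app U s) at h1
    rw [hs, hfst, hsnd] at h1
    rw [← h1]
    show a • e.app U (1 : Γ(X, U)) = _
    rw [← Scheme.Modules.Hom.app_smul]
    exact congrArg (e.app U) (mul_one a)
  | zero => rw [zero_smul, ← map_zero g]; rfl
  | add r r' hr₁ hr₂ h h' =>
    have m₁ : r ∈ I := hS ▸ hr₁
    have m₂ : r' ∈ I := hS ▸ hr₂
    rw [add_smul, h m₁, h' m₂, ← map_add]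
    rfl
  | smul c r hr₁ h =>
    have m₁ : r ∈ I := hS ▸ hr₁
    rw [smul_assoc, h m₁, ← map_smul]
    rfl

/-- Injective objects of `QCoh X` are injective in all modules (S7769). -/
theorem injective_of_injective_qcoh
    (J : ObjectProperty.FullSubcategory (fun M : X.Modules => Coh.IsQCoh M)) (hJ : Injective J) :
    Injective J.obj := by
  haveI := hJ
  refine injective_of_baer_sections J.property fun U hU =>
    baer_sections_of_extend J.property (fun P hP a _ b => ?_) hU
  let P' : ObjectProperty.FullSubcategory (fun M : X.Modules => Coh.IsQCoh M) := ⟨P, hP⟩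
  let O' : ObjectProperty.FullSubcategory (fun M : X.Modules => Coh.IsQCoh M) :=
    ⟨Coh.structureModule X, isQCoh_structureModule⟩
  let a' : P' ⟶ O' := ObjectProperty.homMk a
  haveI : Mono ((ObjectProperty.ι (fun M : X.Modules => Coh.IsQCoh M)).map a') := ‹Mono a›
  haveI : Mono a' := (ObjectProperty.ι (fun M : X.Modules => Coh.IsQCoh M)).mono_of_mono_map ‹_›
  let b' : P' ⟶ J := ObjectProperty.homMk b
  exact ⟨(Injective.factorThru b' a').hom, congrArg (fun φ => φ.hom) (Injective.comp_factorThru b' a')⟩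

end Groth.Agent.Coh32
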