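import Groth.Agent.QCoh.ExtendFT
import Mathlib.RingTheory.Filtration

/-!
# Extending quasi-coherent submodules on which a given morphism is injective

On a locally Noetherian scheme a submodule of finite type on an open `U` on which `ψ : G ⟶ H` is
injective extends to the whole scheme with `ψ` still injective: along an affine open one multiplies
by a power of the ideal of the complement (Artin–Rees), and Zorn does the rest.
-/

set_option backward.isDefEq.respectTransparency false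
set_option backward.isDefEq.respectTransparency.types false
set_option linter.style.haveILetI false

universe u

open CategoryTheory CategoryTheory.Limits AlgebraicGeometry TopologicalSpace Opposite
open Groth.Agent.QCoh

namespace Groth.Agent.Coh32

variable {X : Scheme.{u}} {G : X.Modules}

/-- `ψ` is injective on the sections of `N` inside `W`. -/
def InjOnSub (N : SubMod G) {H : X.Modules} (ψ : G ⟶ H) (W : X.Opens) : Prop :=
  ∀ O, O ≤ W → ∀ s ∈ N.mem O, ψ.app O s = 0 → s = 0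

theorem span_smul_unit {A M : Type*} [CommRing A] [AddCommGroup M] [Module A M] {r : A} (hr : IsUnit r)
    (x : M) : Submodule.span A {r • x} = Submodule.span A {x} :=
  Submodule.span_singleton_smul_eq hr x

theorem rf_pow' {U V : X.Opens} (h : V ≤ U) (a : Γ(X, U)) (k : ℕ) : rf X h (a ^ k) = rf X h a ^ k :=
  map_pow (X.presheaf.map (homOfLE h).op).hom a k

/-- Artin–Rees: high multiples of finitely many sections span no section killed by `ψ`. -/
theorem exists_pow_smul_span_inj (hG : Coh.IsQCoh G) {H : X.Modules} (hH : Coh.IsQCoh H) (ψ : G ⟶ H)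
    {N : SubMod G} {W : X.Opens} (hinj : InjOnSub N ψ W) {V : X.Opens} (hV : IsAffineOpen V)
    [IsNoetherianRing Γ(X, V)] {κ : Type*} (F : Finset κ) (f : κ → Γ(X, V))
    (hfW : ∀ x, X.basicOpen (f x) ≤ W) {T : Set Γ(G, V)} (hT : T.Finite)
    (hTN : ∀ t ∈ T, rs G (inf_le_left : V ⊓ W ≤ V) t ∈ N.mem (V ⊓ W)) :
    ∃ k : ℕ, ∀ z ∈ Submodule.span Γ(X, V) (⋃ y ∈ F, (fun t => f y ^ k • t) '' T),
      ψ.app V z = 0 → z = 0 := by
  classical
  let M₀ : Submodule Γ(X, V) Γ(G, V) := Submodule.span Γ(X, V) T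
  haveI : Module.Finite Γ(X, V) M₀ := Module.Finite.span_of_finite _ hT
  let L : Submodule Γ(X, V) M₀ := LinearMap.ker ((appLin ψ V).comp M₀.subtype)
  have hmem : ∀ z ∈ M₀, rs G (inf_le_left : V ⊓ W ≤ V) z ∈ N.mem (V ⊓ W) := by
    intro z hz
    induction hz using Submodule.span_induction with
    | mem t ht => exact hTN t ht
    | zero => rw [rs, map_zero]; exact zero_mem _
    | add a b _ _ ha hb => rw [rs, map_add]; exact add_mem ha hb
    | smul r a _ ha => rw [rs_smul]; exact Submodule.smul_mem _ _ ha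
  let J : Ideal Γ(X, V) := Ideal.span (f '' F)
  have hJ : J.FG := IsNoetherian.noetherian J
  -- sections of `M₀` killed by `ψ` are killed by a power of `J`
  have hrad : J ≤ L.annihilator.radical := Ideal.span_le.2 (by
    rintro _ ⟨y, -, rfl⟩
    obtain ⟨S, hS⟩ := IsNoetherian.noetherian L
    have hkill : ∀ m : S, ∃ n : ℕ, f y ^ n • (m.1 : Γ(G, V)) = 0 := fun m => by
      refine exists_pow_smul_eq_zero hG hV (f y) _ ?_
      have hm : m.1 ∈ L := hS ▸ Submodule.subset_span m.2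
      refine hinj _ (hfW y) _ ?_ ?_
      · have := N.map_mem (le_inf (X.basicOpen_le (f y)) (hfW y)) (hmem _ m.1.2)
        change rs G _ (rs G _ _) ∈ _ at this
        rw [rs_rs] at this
        exact this
      · show ψ.app _ (rs G _ _) = 0
        rw [rs, map_app_comm, show ψ.app V (m.1 : Γ(G, V)) = 0 from hm, map_zero]
    choose n hn using hkill
    refine ⟨∑ m, n m, ?_⟩
    rw [← hS, Submodule.mem_annihilator_span]
    intro m
    obtain ⟨l, hl⟩ := Nat.exists_eq_add_of_le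
      (Finset.single_le_sum (f := n) (fun _ _ => Nat.zero_le _) (Finset.mem_univ m))
    refine Subtype.ext ?_
    rw [Submodule.coe_smul, hl, pow_add, mul_comm, mul_smul, hn m, smul_zero]
    rfl)
  obtain ⟨a, ha⟩ := Ideal.exists_pow_le_of_le_radical_of_fg hrad hJ
  obtain ⟨c, hc⟩ := Ideal.exists_pow_inf_eq_pow_smul J L
  refine ⟨a + c, fun z hz h0 => ?_⟩
  have hz' : ∃ w ∈ J ^ (a + c) • (⊤ : Submodule Γ(X, V) M₀), (w : Γ(G, V)) = z := by
    have hle : Submodule.span Γ(X, V) (⋃ y ∈ F, (fun t => f y ^ (a + c) • t) '' T) ≤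
        (J ^ (a + c) • (⊤ : Submodule Γ(X, V) M₀)).map M₀.subtype := Submodule.span_le.2 (by
      intro s hs
      obtain ⟨y, hy, t, ht, rfl⟩ := Set.mem_iUnion₂.1 hs
      exact ⟨f y ^ (a + c) • (⟨t, Submodule.subset_span ht⟩ : M₀), Submodule.smul_mem_smul
        (Ideal.pow_mem_pow (Ideal.subset_span (show f y ∈ f '' (F : Set κ) from ⟨y, hy, rfl⟩)) _) trivial, rfl⟩)
    exact hle hz
  obtain ⟨w, hw, rfl⟩ := hz'
  have hw' : w ∈ J ^ (a + c) • (⊤ : Submodule Γ(X, V) M₀) ⊓ L := ⟨hw, h0⟩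
  rw [hc (a + c) (Nat.le_add_left c a), Nat.add_sub_cancel] at hw'
  have h1 : w = 0 := by
    refine Submodule.smul_induction_on hw' (fun r hr v hv => ?_) fun x y hx hy => by rw [hx, hy, add_zero]
    exact Submodule.mem_annihilator.1 (ha hr) v hv.2
  rw [h1]
  rfl

/-- Injectivity after adding an affine open. -/
theorem injOnSub_sup (hG : Coh.IsQCoh G) {H : X.Modules} (hH : Coh.IsQCoh H) (ψ : G ⟶ H)
    {N N' : SubMod G} {W V : X.Opens} (hV : IsAffineOpen V) (hinj : InjOnSub N ψ W)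
    (hW : ∀ O, O ≤ W → N'.mem O = N.mem O) (T : Set Γ(G, V))
    (hk : ∀ z ∈ Submodule.span Γ(X, V) T, ψ.app V z = 0 → z = 0)
    (hgen : ∀ (O : X.Opens) (h : O ≤ V) (s : Γ(G, O)), s ∈ N'.mem O → ∀ x ∈ O,
      ∃ (P : X.Opens) (hP : P ≤ O), x ∈ P ∧
        rs G hP s ∈ Submodule.span Γ(X, P) (rs G (hP.trans h) '' T)) :
    InjOnSub N' ψ (W ⊔ V) := by
  intro O hO s hs h0
  refine eq_zero_of_locally O s fun x hx => ?_
  rcases hO hx with hxW | hxV
  · refine ⟨O ⊓ W, homOfLE inf_le_left, ⟨hx, hxW⟩, hinj _ inf_le_right _ ?_ ?_⟩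
    · rw [← hW _ inf_le_right]; exact N'.map_mem inf_le_left hs
    · rw [map_app_comm, h0, map_zero]
  · obtain ⟨P, hP, hxP, hsP⟩ := hgen (O ⊓ V) inf_le_right _ (N'.map_mem inf_le_left hs) x ⟨hx, hxV⟩
    change rs G hP (rs G _ s) ∈ _ at hsP
    rw [rs_rs] at hsP
    have hPV : P ≤ V := hP.trans inf_le_right
    obtain ⟨g, hg, hxg⟩ := hV.exists_basicOpen_le ⟨x, hxP⟩ hxV
    have h1 := span_image_rs_le hPV hg hsP
    rw [rs_rs] at h1
    obtain ⟨k, u, hu, hus⟩ := exists_lift_span hV g T h1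
    have hgO : X.basicOpen g ≤ O := hg.trans (hP.trans inf_le_left)
    refine ⟨X.basicOpen g, homOfLE hgO, hxg, ?_⟩
    have h2 : rs H (X.basicOpen_le g) (ψ.app V u) = 0 := by
      rw [rs, ← map_app_comm]
      show ψ.app _ (rs G _ u) = 0
      rw [hus, Scheme.Modules.Hom.app_smul, map_app_comm, h0, map_zero, smul_zero]
    obtain ⟨l, hl⟩ := exists_pow_smul_eq_zero hH hV g _ h2
    have h3 : g ^ l • u = 0 := hk _ (Submodule.smul_mem _ _ hu)
      (by rw [Scheme.Modules.Hom.app_smul, hl])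
    have h4 := congrArg (rs G (X.basicOpen_le g)) h3
    rw [rs_smul, hus, rf_pow', ← mul_smul, ← pow_add] at h4
    simp only [rs, map_zero] at h4
    exact ((isUnit_rf_basicOpen g).pow (l + k)).smul_left_cancel.1 (h4.trans (smul_zero _).symm)

/-- One step of the extension. -/
theorem exists_step_inj (hG : Coh.IsQCoh G) {H : X.Modules} (hH : Coh.IsQCoh H) (ψ : G ⟶ H)
    {N : SubMod G} {W : X.Opens} (hN : FTOn N W) (hinj : InjOnSub N ψ W) {V : X.Opens}
    (hV : IsAffineOpen V) [IsNoetherianRing Γ(X, V)] (hVW : IsCompact ((V ⊓ W : X.Opens) : Set X)) :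
    ∃ N' : SubMod G, (∀ O, O ≤ W → N'.mem O = N.mem O) ∧ FTOn N' (W ⊔ V) ∧ InjOnSub N' ψ (W ⊔ V) := by
  have h : ∀ x : (V ⊓ W : X.Opens), ∃ f : Γ(X, V), X.basicOpen f ≤ W ∧ x.1 ∈ X.basicOpen f ∧
      ∃ T : Set Γ(G, X.basicOpen f), GenBy N (X.basicOpen f) T :=
    fun x => hN.exists_gen_le hV x.2.2 x.2.1
  choose f hfW hxf T hT using h
  obtain ⟨F, hF⟩ := hVW.elim_finite_subcover (fun x : (V ⊓ W : X.Opens) => (X.basicOpen (f x) : Set X))
    (fun x => (X.basicOpen (f x)).2)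
    fun x hx => Set.mem_iUnion.2 ⟨(⟨x, hx⟩ : (V ⊓ W : X.Opens)), hxf _⟩
  have hz : ∀ (x : (V ⊓ W : X.Opens)) (t : T x), ∃ z : Γ(G, V),
      rs G inf_le_left z ∈ N.mem (V ⊓ W) ∧
      t.1 ∈ Submodule.span Γ(X, X.basicOpen (f x)) {rs G (X.basicOpen_le (f x)) z} := by
    intro x t
    obtain ⟨n, z, hz⟩ := exists_pow_smul_eq_map hG hV (f x) t.1
    have hle : X.basicOpen (f x) ⊓ (V ⊓ W) ≤ X.basicOpen (f x) := inf_le_left
    have hzN : rs G (inf_le_right.trans inf_le_left) z ∈ N.mem (X.basicOpen (f x) ⊓ (V ⊓ W)) := by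
      rw [← rs_rs (X.basicOpen_le (f x)) hle]
      refine N.map_mem hle ?_
      rw [rs, hz]
      exact Submodule.smul_mem _ _ ((hT x).mem t.1 t.2)
    obtain ⟨m, hm⟩ := exists_pow_smul_mem hG hN hV inf_le_left inf_le_right hVW (f x) z hzN
    refine ⟨f x ^ m • z, hm, ?_⟩
    have hu := (isUnit_rf_basicOpen (f x)).pow (m + n)
    have he : rs G (X.basicOpen_le (f x)) (f x ^ m • z) =
        rf X (X.basicOpen_le (f x)) (f x) ^ (m + n) • t.1 := by
      rw [rs_smul, rs, hz, pow_add, mul_smul]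
      simp only [rf, map_pow]
    rw [he, Submodule.span_singleton_smul_eq hu]
    exact Submodule.mem_span_singleton_self _
  choose z hzN hzT using hz
  let TV₀ : Set Γ(G, V) := ⋃ x ∈ F, Set.range (z x)
  have hTV₀fin : TV₀.Finite := F.finite_toSet.biUnion fun x _ => by
    have := (hT x).fin.to_subtype
    exact Set.finite_range _
  obtain ⟨k₀, hk₀⟩ := exists_pow_smul_span_inj hG hH ψ hinj hV F f (fun x => hfW x) hTV₀fin (by
    intro t ht
    obtain ⟨y, _, t', rfl⟩ := Set.mem_iUnion₂.1 ht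
    exact hzN y t')
  let TV : Set Γ(G, V) := ⋃ y ∈ F, (fun t => f y ^ k₀ • t) '' TV₀
  have hTVfin : TV.Finite := F.finite_toSet.biUnion fun y _ => hTV₀fin.image _
  let N' : SubMod G :=
  { mem := fun O =>
    { carrier := {s | rs G inf_le_left s ∈ N.mem (O ⊓ W) ∧ ∀ x ∈ O, x ∈ V →
        ∃ (P : X.Opens) (hPO : P ≤ O) (hPV : P ≤ V), x ∈ P ∧
          rs G hPO s ∈ Submodule.span Γ(X, P) (rs G hPV '' TV)}
      zero_mem' := ⟨by rw [rs, map_zero]; exact zero_mem _, fun x hx hxV =>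
        ⟨O ⊓ V, inf_le_left, inf_le_right, ⟨hx, hxV⟩, by rw [rs, map_zero]; exact zero_mem _⟩⟩
      add_mem' := fun {a b} ha hb => ⟨by rw [rs, map_add]; exact add_mem ha.1 hb.1, fun x hx hxV => by
        obtain ⟨P, hPO, hPV, hxP, hP⟩ := ha.2 x hx hxV
        obtain ⟨Q, hQO, hQV, hxQ, hQ⟩ := hb.2 x hx hxV
        refine ⟨P ⊓ Q, inf_le_left.trans hPO, inf_le_left.trans hPV, ⟨hxP, hxQ⟩, ?_⟩
        rw [rs, map_add]
        refine add_mem ?_ ?_
        · have := span_image_rs_le hPV (inf_le_left : P ⊓ Q ≤ P) hP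
          rwa [rs_rs] at this
        · have := span_image_rs_le hQV (inf_le_right : P ⊓ Q ≤ Q) hQ
          rwa [rs_rs] at this⟩
      smul_mem' := fun a s hs => ⟨by rw [rs_smul]; exact Submodule.smul_mem _ _ hs.1, fun x hx hxV => by
        obtain ⟨P, hPO, hPV, hxP, hP⟩ := hs.2 x hx hxV
        exact ⟨P, hPO, hPV, hxP, by rw [rs_smul]; exact Submodule.smul_mem _ _ hP⟩⟩ }
    map_mem := fun {O O'} i {s} hs => ⟨by
        have := N.map_mem (inf_le_inf_right W i) hs.1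
        change rs G _ (rs G _ s) ∈ _ at this
        rw [rs_rs] at this
        change rs G _ (rs G i s) ∈ _
        rwa [rs_rs], fun x hx hxV => by
        obtain ⟨P, hPO, hPV, hxP, hP⟩ := hs.2 x (i hx) hxV
        refine ⟨P ⊓ O', inf_le_right, inf_le_left.trans hPV, ⟨hxP, hx⟩, ?_⟩
        have := span_image_rs_le hPV (inf_le_left : P ⊓ O' ≤ P) hP
        rw [rs_rs] at this
        change rs G _ (rs G i s) ∈ _
        rwa [rs_rs]⟩
    of_locally := fun O s hs => ⟨N.of_locally _ _ fun x hx => by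
        obtain ⟨P, i, hxP, hP, -⟩ := hs x hx.1
        refine ⟨P ⊓ W, inf_le_inf_right W i, ⟨hxP, hx.2⟩, ?_⟩
        change rs G _ (rs G _ s) ∈ _
        change rs G _ (rs G i s) ∈ _ at hP
        rw [rs_rs] at hP ⊢
        exact hP, fun x hx hxV => by
        obtain ⟨P, i, hxP, -, hP⟩ := hs x hx
        obtain ⟨Q, hQP, hQV, hxQ, hQ⟩ := hP x hxP hxV
        change rs G _ (rs G i s) ∈ _ at hQ
        rw [rs_rs] at hQ
        exact ⟨Q, hQP.trans i, hQV, hxQ, hQ⟩⟩ }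
  have hW : ∀ O, O ≤ W → N'.mem O = N.mem O := fun O hO => by
    ext s
    refine ⟨fun hs => ?_, fun hs => ⟨N.map_mem _ hs, fun x hx hxV => ?_⟩⟩
    · have := N.map_mem (le_inf le_rfl hO) hs.1
      change rs G _ (rs G _ s) ∈ _ at this
      rwa [rs_rs, rs_self] at this
    · obtain ⟨y, hy, hxy⟩ := Set.mem_iUnion₂.1 (hF ⟨hxV, hO hx⟩)
      obtain ⟨P, hP, hxP, hsP⟩ := (hT y).gen (O ⊓ X.basicOpen (f y)) inf_le_right _
        (N.map_mem inf_le_left hs) x ⟨hx, hxy⟩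
      change rs G hP (rs G _ s) ∈ _ at hsP
      rw [rs_rs] at hsP
      have hPf : P ≤ X.basicOpen (f y) := hP.trans inf_le_right
      refine ⟨P, hP.trans inf_le_left, hPf.trans (X.basicOpen_le _), hxP,
        Submodule.span_le.2 ?_ hsP⟩
      rintro _ ⟨t, ht, rfl⟩
      refine span_image_rs_le (X.basicOpen_le (f y)) hPf (Submodule.span_mono ?_
        ((span_smul_unit (((isUnit_rf_basicOpen (f y)).pow k₀)) _).ge (hzT y ⟨t, ht⟩)))
      refine Set.singleton_subset_iff.2 ⟨f y ^ k₀ • z y ⟨t, ht⟩,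
        Set.mem_biUnion hy ⟨_, Set.mem_biUnion hy ⟨_, rfl⟩, rfl⟩, ?_⟩
      show rs G _ (f y ^ k₀ • z y ⟨t, ht⟩) = _
      rw [rs_smul, rf_pow']
  refine ⟨N', hW, fun x hx => ?_, injOnSub_sup hG hH ψ hV hinj hW TV hk₀
    (fun O hO s hs x hx => ?_)⟩
  rcases hx with hx | hx
  · obtain ⟨V', hV', hxV', hle, T', hT'⟩ := hN x hx
    exact ⟨V', hV', hxV', hle.trans le_sup_left, T', hT'.congr fun O hO => (hW O (hO.trans hle)).symm⟩
  · refine ⟨V, hV, hx, le_sup_right, TV, hTVfin, fun t ht => ⟨?_, fun y hy _ => ?_⟩,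
      fun O hO s hs y hy => ?_⟩
    · obtain ⟨y, _, w, hw, rfl⟩ := Set.mem_iUnion₂.1 ht
      obtain ⟨y', _, t', rfl⟩ := Set.mem_iUnion₂.1 hw
      show rs G _ (f y ^ k₀ • z y' t') ∈ _
      rw [rs_smul]
      exact Submodule.smul_mem _ _ (hzN y' t')
    · exact ⟨V, le_rfl, le_rfl, hy, Submodule.subset_span ⟨t, ht, rfl⟩⟩
    · obtain ⟨P, hPO, hPV, hyP, hP⟩ := hs.2 y hy (hO hy)
      exact ⟨P, hPO, hyP, hP⟩
  · obtain ⟨P, hPO, hPV, hxP, hP⟩ := hs.2 x hx (hO hx)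
    exact ⟨P, hPO, hxP, hP⟩

/-- The extension theorem. -/
theorem exists_extend_inj [IsLocallyNoetherian X] (hG : Coh.IsQCoh G) {H : X.Modules} (hH : Coh.IsQCoh H)
    (ψ : G ⟶ H) {N₀ : SubMod G} {U : X.Opens} (hN₀ : FTOn N₀ U) (hinj : InjOnSub N₀ ψ U) :
    ∃ N : SubMod G, FTOn N ⊤ ∧ (∀ O, O ≤ U → N.mem O = N₀.mem O) ∧ InjOnSub N ψ ⊤ := by
  let S := {q : X.Opens × SubMod G // U ≤ q.1 ∧ InjOnSub q.2 ψ q.1 ∧ FTOn q.2 q.1 ∧
    ∀ O, O ≤ U → q.2.mem O = N₀.mem O}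
  let R : S → S → Prop := fun a b =>
    a.1.1 ≤ b.1.1 ∧ ∀ O, O ≤ a.1.1 → b.1.2.mem O = a.1.2.mem O
  obtain ⟨m, hm⟩ : ∃ m : S, ∀ a, R m a → R a m := by
    refine exists_maximal_of_chains_bounded (r := R) (fun c hc => ?_)
      (fun {a b c} hab hbc => ⟨hab.1.trans hbc.1, fun O hO =>
        (hbc.2 O (hO.trans hab.1)).trans (hab.2 O hO)⟩)
    rcases c.eq_empty_or_nonempty with rfl | ⟨a₀, ha₀⟩
    · exact ⟨⟨(U, N₀), le_rfl, hinj, hN₀, fun _ _ => rfl⟩, fun a ha => (Set.notMem_empty a ha).elim⟩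
    have : Nonempty c := ⟨⟨a₀, ha₀⟩⟩
    obtain ⟨N', hN', hft⟩ := exists_glue (G := G) (fun a : c => a.1.1.1) (fun a => a.1.1.2)
      (fun a => a.1.2.2.2.1) (fun a b => by
        by_cases hab : a = b
        · subst hab; exact .inl ⟨le_rfl, fun _ _ => rfl⟩
        · exact hc a.2 b.2 fun h => hab (Subtype.ext h))
    refine ⟨⟨(⨆ a : c, a.1.1.1, N'), a₀.2.1.trans (le_iSup (fun a : c => a.1.1.1) ⟨a₀, ha₀⟩), ?_, hft,
      fun O hO => (hN' ⟨a₀, ha₀⟩ O (hO.trans a₀.2.1)).trans (a₀.2.2.2.2 O hO)⟩,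
      fun a ha => ⟨le_iSup (fun a : c => a.1.1.1) ⟨a, ha⟩, hN' ⟨a, ha⟩⟩⟩
    intro O hO s hs h0
    refine eq_zero_of_locally O s fun x hx => ?_
    obtain ⟨a, ha⟩ := Opens.mem_iSup.1 (hO hx)
    refine ⟨O ⊓ a.1.1.1, homOfLE inf_le_left, ⟨hx, ha⟩, a.1.2.2.1 _ inf_le_right _ ?_ ?_⟩
    · rw [← hN' a _ inf_le_right]; exact N'.map_mem inf_le_left hs
    · rw [map_app_comm, h0, map_zero]
  obtain ⟨⟨W, N⟩, hUW, hiW, hft, hag⟩ := m
  dsimp only at hUW hiW hft hag
  rcases eq_or_ne W ⊤ with rfl | hW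
  · exact ⟨N, hft, hag, hiW⟩
  obtain ⟨x, hx⟩ := exists_notMem_of_ne_top hW
  obtain ⟨V, hV', hxV⟩ : ∃ V : X.Opens, IsAffineOpen V ∧ x ∈ V := by
    obtain ⟨_, ⟨V, hV, rfl⟩, hxV, -⟩ :=
      X.isBasis_affineOpens.exists_subset_of_mem_open (Set.mem_univ x) isOpen_univ
    exact ⟨V, hV, hxV⟩
  haveI : IsNoetherianRing Γ(X, V) := IsLocallyNoetherian.component_noetherian ⟨V, hV'⟩
  haveI : NoetherianSpace (V : Set X) := by
    haveI : IsAffine (V : Scheme.{u}) := hV'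
    haveI : IsLocallyNoetherian (V : Scheme.{u}) := isLocallyNoetherian_of_isOpenImmersion V.ι
    haveI : IsNoetherian (V : Scheme.{u}) := {}
    exact (inferInstance : NoetherianSpace (V : Scheme.{u}))
  obtain ⟨N', hN', hft', hi'⟩ := exists_step_inj hG hH ψ hft hiW hV'
    (isCompact_inf_of_noetherian (U' := V) ‹_› le_rfl)
  have := hm ⟨(W ⊔ V, N'), hUW.trans le_sup_left, hi', hft',
    fun O hO => (hN' O (hO.trans hUW)).trans (hag O hO)⟩ ⟨le_sup_left, hN'⟩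
  exact absurd ((le_sup_right.trans this.1) hxV) hx

end Groth.Agent.Coh32
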