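import Groth.Agent.Coh32.FibreVanish
import Groth.Agent.CTopVan.Sober
import Mathlib.Topology.KrullDimension
import Mathlib.Topology.JacobsonSpace

/-!
# Higher direct images above the dimension of the fibre
-/

noncomputable section

set_option linter.style.haveILetI false
set_option backward.isDefEq.respectTransparency false
set_option backward.isDefEq.respectTransparency.types false
set_option maxHeartbeats 800000

universe u

open CategoryTheory CategoryTheory.Limits AlgebraicGeometry Topology

namespace Groth.Agent.Coh32.FibreVanish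

open Groth.Agent

/-- Stalks of higher direct images vanish above the dimension of the fibre. -/
theorem isZero_stalk_of_dim_lt {X Y : Scheme.{u}} (f : X ⟶ Y) [IsProper f] [IsLocallyNoetherian Y] (y : Y)
    (d : ℕ) (hd : topologicalKrullDim ↥(f.fiber y) ≤ d) {M : X.Modules} (hM : Coh.IsCoh M) (p : ℕ) (hp : d < p) :
    IsZero (TopCat.Presheaf.stalk ((Coh.RpushAb f p).obj (Coh.toAb M)).obj y) := by
  obtain ⟨q, rfl⟩ := Nat.exists_eq_add_of_le' (show 1 ≤ p by omega)
  refine isZero_stalk_RpushAb f hM.1 y q ?_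
  let A := Y.presheaf.stalk y
  let X₁ := pullback f (Y.fromSpecStalk y)
  letI : X₁.Over (Spec (CommRingCat.of A)) := ⟨pullback.snd f (Y.fromSpecStalk y)⟩
  haveI : IsProper (X₁ ↘ Spec (CommRingCat.of A)) :=
    (inferInstance : IsProper (pullback.snd f (Y.fromSpecStalk y)))
  let g : X₁ ⟶ X := pullback.fst f (Y.fromSpecStalk y)
  let J := IsLocalRing.maximalIdeal A
  refine subsingleton_HH_of_thickenings A
    ⟨QCoh.isQCoh_pullback g hM.1, QCoh.isFT_pullback g hM.1 hM.2⟩ (q + 1) fun n => ?_
  let X₂ := pullback (X₁ ↘ Spec (CommRingCat.of A)) (CohB1.specQuot J n)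
  let t : X₂ ⟶ X₁ := pullback.fst (X₁ ↘ Spec (CommRingCat.of A)) (CohB1.specQuot J n)
  haveI : IsClosedImmersion (CohB1.specQuot J n) :=
    IsClosedImmersion.spec_of_surjective _ Ideal.Quotient.mk_surjective
  haveI : IsClosedImmersion t := MorphismProperty.pullback_fst _ _ inferInstance
  haveI := Coh32.AmpleInt.isNoetherian_of_proper A (X₁ ↘ Spec (CommRingCat.of A))
  haveI : TopologicalSpace.NoetherianSpace X₂ := t.isClosedEmbedding.isInducing.noetherianSpace
  have hmap : ∀ z : X₂, (t ≫ g) z ∈ f ⁻¹' {y} := fun z => by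
    show f ((t ≫ g) z) = y
    rw [← Scheme.Hom.comp_apply, Category.assoc, pullback.condition, ← Category.assoc]
    rw [show t ≫ pullback.snd f (Y.fromSpecStalk y) =
      pullback.snd (X₁ ↘ Spec (CommRingCat.of A)) (CohB1.specQuot J n) ≫ CohB1.specQuot J n from pullback.condition]
    rw [Scheme.Hom.comp_apply, Scheme.Hom.comp_apply]
    let w := pullback.snd (X₁ ↘ Spec (CommRingCat.of A)) (CohB1.specQuot J n) z
    have hw : CohB1.specQuot J n w = IsLocalRing.closedPoint A := by
      refine PrimeSpectrum.ext ?_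
      refine ((IsLocalRing.maximalIdeal.isMaximal A).eq_of_le (Ideal.IsPrime.ne_top inferInstance) ?_).symm
      refine (Ideal.IsPrime.pow_le_iff (P := (CohB1.specQuot J n w).asIdeal) (n := n + 1) (by omega)).1 ?_
      intro a ha
      show Ideal.Quotient.mk (J ^ (n + 1)) a ∈ w.asIdeal
      rw [Ideal.Quotient.eq_zero_iff_mem.2 ha]
      exact zero_mem _
    refine (congrArg (Y.fromSpecStalk y) hw).trans ?_
    exact Scheme.fromSpecStalk_closedPoint
  let ψ : X₂ → f.fiber y := fun z => (f.fiberHomeo y).symm ⟨(t ≫ g) z, hmap z⟩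
  have hψ : IsInducing ψ :=
    (f.fiberHomeo y).symm.isInducing.comp ((t ≫ g).isEmbedding.isInducing.codRestrict hmap)
  exact CTopVan.grothendieck_vanishing (X := X₂.toPresheafedSpace.carrier) d
    (hψ.topologicalKrullDim_le.trans hd) _ (q + 1) hp

theorem topologicalKrullDim_fiber_le_zero {X Y : Scheme.{u}} (f : X ⟶ Y) [LocallyOfFiniteType f] (y : Y)
    (hy : (f.base ⁻¹' {y}).Finite) : topologicalKrullDim ↥(f.fiber y) ≤ (0 : ℕ) := by
  haveI : Finite (f ⁻¹' {y}) := hy.to_subtype
  haveI : Finite ↥(f.fiber y) := Finite.of_equiv _ (f.fiberHomeo y).symm.toEquiv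
  haveI : LocallyOfFiniteType (f.fiberToSpecResidueField y) := MorphismProperty.pullback_snd _ _ inferInstance
  haveI : JacobsonSpace ↥(f.fiber y) := LocallyOfFiniteType.jacobsonSpace (f.fiberToSpecResidueField y)
  exact topologicalKrullDim_zero_of_discreteTopology _

end Groth.Agent.Coh32.FibreVanish
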