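import Groth.Agent.AmpleVan.AdicMod
import Groth.Agent.AmpleVan.ThickPush
import Groth.Agent.AmpleVan.Pull
import Groth.Agent.FFun.GoodM
import Groth.Agent.FFun.Main
import Groth.Agent.S0002
import Groth.Agent.QCoh.RpushStalk
import Groth.Agent.QCoh.RpushAbGod
import Groth.Agent.KFlatLib.Scheme.RpushQCoh
import Groth.Agent.VarInt.PushTwist
import Groth.Agent.Coh32.AmpleInt

/-!
# Vanishing near a fibre with ample restriction
-/

noncomputable section

set_option linter.style.haveILetI false
set_option backward.isDefEq.respectTransparency false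
set_option backward.isDefEq.respectTransparency.types false
set_option maxHeartbeats 800000

universe u

open CategoryTheory CategoryTheory.Limits AlgebraicGeometry

namespace Groth.Agent.Coh32.FibreVanish

open Groth.Agent

/-- The theorem on formal functions gives vanishing from vanishing on all thickenings of the closed fibre. -/
theorem subsingleton_HH_of_thickenings (A : Type u) [CommRing A] [IsNoetherianRing A] [IsLocalRing A]
    {X : Scheme.{u}} [X.Over (Spec (CommRingCat.of A))] [IsProper (X ↘ Spec (CommRingCat.of A))]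
    {N : X.Modules} (hN : Coh.IsCoh N) (p : ℕ)
    (h : ∀ n, Subsingleton (Coh.HH (pullback (X ↘ Spec (CommRingCat.of A))
      (CohB1.specQuot (IsLocalRing.maximalIdeal A) n))
      ((Scheme.Modules.pullback (pullback.fst (X ↘ Spec (CommRingCat.of A))
        (CohB1.specQuot (IsLocalRing.maximalIdeal A) n))).obj N) p)) :
    Subsingleton (Coh.HH X N p) := by
  let J := IsLocalRing.maximalIdeal A
  haveI := Coh32.AmpleInt.isNoetherian_of_proper A (X ↘ Spec (CommRingCat.of A))
  have hsub : ∀ n, Subsingleton (Formal.HHmodPow J N p n) := fun n => by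
    let t := pullback.fst (X ↘ Spec (CommRingCat.of A)) (CohB1.specQuot J n)
    haveI : IsClosedImmersion (CohB1.specQuot J n) :=
      IsClosedImmersion.spec_of_surjective _ Ideal.Quotient.mk_surjective
    haveI : IsClosedImmersion t := MorphismProperty.pullback_fst _ _ inferInstance
    obtain ⟨hc, hiso⟩ := AmpleVan.unit_desc_iso (J := J ^ (n + 1)) (i := t) (q := pullback.snd _ _)
      (IsPullback.of_hasPullback _ _) hN.1
    haveI := h n
    obtain ⟨E⟩ := QCoh.HH_push_of_isAffineHom t (QCoh.isQCoh_pullback t hN.1) p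
    have hE := E.symm.toEquiv.subsingleton
    haveI := hiso
    exact @Equiv.subsingleton _ _ (Coh32.AmpleInt.hhAdd (asIso (cokernel.desc _ _ hc)) p).toEquiv hE
  haveI hfin : ∀ k, Module.Finite A (Coh.HH X N k) := fun k => S0002.result A X N hN k
  have hbij := FFun.compΦ_bijective_of_goodM (FFun.goodM_of_finite hN hfin J) (p := p)
  have hcomp : ∀ x : AdicCompletion J (Coh.HH X N p), x = 0 := fun x => hbij.1
    (Subtype.ext (funext fun n => @Subsingleton.elim _ (hsub n) _ _))
  have htop : (⊤ : Submodule A (Coh.HH X N p)) ≤ J • ⊤ := fun x _ => by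
    have h1 : (AdicCompletion.of J _ x).val 1 = 0 := by rw [hcomp (AdicCompletion.of J _ x)]; rfl
    rw [AdicCompletion.of_apply, Submodule.mkQ_apply, Submodule.Quotient.mk_eq_zero, pow_one] at h1
    exact h1
  have hbot := Submodule.eq_bot_of_le_smul_of_le_jacobson_bot J (⊤ : Submodule A (Coh.HH X N p))
    Module.Finite.fg_top htop (IsLocalRing.maximalIdeal_le_jacobson ⊥)
  exact subsingleton_of_forall_eq 0 fun x => by
    have : x ∈ (⊤ : Submodule A (Coh.HH X N p)) := trivial
    rw [hbot] at this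
    exact this

/-- Serre vanishing over a local ring, when only the closed fibre is known to be ample. -/
theorem exists_vanishing_local (A : Type u) [CommRing A] [IsNoetherianRing A] [IsLocalRing A] {X : Scheme.{u}}
    [X.Over (Spec (CommRingCat.of A))] [IsProper (X ↘ Spec (CommRingCat.of A))]
    {Z : Scheme.{u}} {i : Z ⟶ X} {q : Z ⟶ Spec (CommRingCat.of (A ⧸ IsLocalRing.maximalIdeal A))}
    (sq : IsPullback i q (X ↘ Spec (CommRingCat.of A))
      (Spec.map (CommRingCat.ofHom (Ideal.Quotient.mk (IsLocalRing.maximalIdeal A)))))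
    {L : X.Modules} (hL : PicF.IsInvertible L) (hamp : CohB1.IsAmple ((Scheme.Modules.pullback i).obj L))
    {M : X.Modules} (hM : Coh.IsCoh M) :
    ∃ d₀ : ℕ, ∀ d : ℕ, d₀ ≤ d → ∀ p : ℕ, 0 < p →
      Subsingleton (Coh.HH X (CohB1.tensorMod M (CohB1.tensorPow L d)) p) := by
  let J := IsLocalRing.maximalIdeal A
  haveI := Coh32.AmpleInt.isNoetherian_of_proper A (X ↘ Spec (CommRingCat.of A))
  haveI hci : ∀ k, IsClosedImmersion (CohB1.specQuot J k) := fun k =>
    IsClosedImmersion.spec_of_surjective _ Ideal.Quotient.mk_surjective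
  let π := X ↘ Spec (CommRingCat.of A)
  let Xs : ℕ → Scheme.{u} := fun k => pullback π (CohB1.specQuot J k)
  let p : ∀ k, Xs k ⟶ Spec (CommRingCat.of (A ⧸ J ^ (k + 1))) := fun k => pullback.snd _ _
  let t : ∀ k, Xs k ⟶ X := fun k => pullback.fst _ _
  let ι : ∀ k, Xs k ⟶ Xs (k + 1) := fun k =>
    pullback.lift (t k) (p k ≫ CohB1.specQuotTrans J k)
      (by rw [Category.assoc, CohB1.specQuotTrans_specQuot]; exact pullback.condition)
  have hιt : ∀ k, ι k ≫ t (k + 1) = t k := fun k => pullback.lift_fst _ _ _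
  have hcart : ∀ k, IsPullback (ι k) (p k) (p (k + 1)) (CohB1.specQuotTrans J k) := fun k =>
    IsPullback.of_right (by
      rw [hιt, CohB1.specQuotTrans_specQuot]
      exact IsPullback.of_hasPullback _ _) (pullback.lift_snd _ _ _) (IsPullback.of_hasPullback _ _)
  let S : AmpleVan.AdicSys A J := ⟨Xs, p, ι, hcart⟩
  have hp : IsProper (p 0) := MorphismProperty.pullback_snd _ _ inferInstance
  let F : ∀ k, (Xs k).Modules := fun k => (Scheme.Modules.pullback (t k)).obj M
  let Ls : ∀ k, (Xs k).Modules := fun k => (Scheme.Modules.pullback (t k)).obj L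
  let ψ : ∀ (N : X.Modules) k, (Scheme.Modules.pullback (ι k)).obj ((Scheme.Modules.pullback (t (k + 1))).obj N) ≅
      (Scheme.Modules.pullback (t k)).obj N := fun N k =>
    (Scheme.Modules.pullbackComp (ι k) (t (k + 1))).app N ≪≫ (Scheme.Modules.pullbackCongr (hιt k)).app N
  let Mod : AmpleVan.AdicMod S :=
    ⟨F, fun k => ⟨QCoh.isQCoh_pullback _ hM.1, QCoh.isFT_pullback _ hM.1 hM.2⟩, fun k => ψ M k,
      fun k => S.isLocallyNoetherian hp k⟩
  have ha : CohB1.IsAmple (Ls 0) := by
    have e : J ^ (0 + 1) = J := by rw [zero_add, pow_one]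
    let σ : Spec (CommRingCat.of (A ⧸ J ^ (0 + 1))) ⟶ Spec (CommRingCat.of (A ⧸ J)) :=
      Spec.map (CommRingCat.ofHom (Ideal.Quotient.factor e.ge))
    have hσ : σ ≫ Spec.map (CommRingCat.ofHom (Ideal.Quotient.mk J)) = CohB1.specQuot J 0 := by
      rw [← Spec.map_comp]; rfl
    let g : Xs 0 ⟶ Z := sq.lift (t 0) (p 0 ≫ σ) (by rw [Category.assoc, hσ]; exact pullback.condition)
    have hg : g ≫ i = t 0 := sq.lift_fst _ _ _
    haveI : IsClosedImmersion (t 0) := MorphismProperty.pullback_fst _ _ (hci 0)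
    haveI : IsClosedImmersion i :=
      MorphismProperty.of_isPullback sq.flip (IsClosedImmersion.spec_of_surjective _ Ideal.Quotient.mk_surjective)
    haveI : IsClosedImmersion (g ≫ i) := by rw [hg]; infer_instance
    haveI : IsClosedImmersion g := IsClosedImmersion.of_comp g i
    haveI : CompactSpace (Xs 0) := QuasiCompact.compactSpace_of_compactSpace (t 0)
    exact AmpleX.isAmple_of_iso
      ((Scheme.Modules.pullbackComp g i).app L ≪≫ (Scheme.Modules.pullbackCongr hg).app L)
      (AmpleVan.isAmple_pullback_of_isEmbedding g g.isClosedEmbedding.isEmbedding hamp)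
  obtain ⟨d₀, hd₀⟩ := Mod.exists_vanishing hp Ls (fun k => PicClLib.isInvertible_pullback _ hL)
    (fun k => ⟨ψ L k⟩) ha
  refine ⟨d₀, fun d hd m hm => ?_⟩
  obtain ⟨m, rfl⟩ := Nat.exists_eq_add_of_le' hm
  let N := CohB1.tensorMod M (CohB1.tensorPow L d)
  have hN : Coh.IsCoh N := AmpleVan.isCoh_tensor hM (AmpleVan.isCoh_invertible (H23.PicMul.isInvertible_tensorPow hL d))
  refine subsingleton_HH_of_thickenings A hN (m + 1) fun n => ?_
  obtain ⟨a⟩ := VarInt.nonempty_pullback_tensorPow (t n) L d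
  let b : (Scheme.Modules.pullback (t n)).obj N ≅
      CohB1.tensorMod (F n) (CohB1.tensorPow (Ls n) d) :=
    ((KFlatLib.pullTensorBiIso (t n)).app M).app (CohB1.tensorPow L d) ≪≫ PicGrp.tensorModIso (Iso.refl _) a
  haveI := (hd₀ d hd n m).1
  exact (Coh32.AmpleInt.hhAdd b (m + 1)).toEquiv.subsingleton

/-- The stalk of a higher direct image vanishes with the cohomology over the local ring. -/
theorem isZero_stalk_RpushAb {X Y : Scheme.{u}} (f : X ⟶ Y) [IsProper f] [IsLocallyNoetherian Y]
    {N : X.Modules} (hN : Coh.IsQCoh N) (y : Y) (q : ℕ)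
    (h : Subsingleton (Coh.HH (pullback f (Y.fromSpecStalk y))
      ((Scheme.Modules.pullback (pullback.fst f (Y.fromSpecStalk y))).obj N) (q + 1))) :
    IsZero (TopCat.Presheaf.stalk ((Coh.RpushAb f (q + 1)).obj (Coh.toAb N)).obj y) := by
  haveI : HasInjectiveResolutions X.Modules := KFlatLib.hasInjectiveResolutions_modules
  letI : (pullback f (Y.fromSpecStalk y)).Over (Spec (CommRingCat.of (Y.presheaf.stalk y))) :=
    ⟨pullback.snd f (Y.fromSpecStalk y)⟩
  obtain ⟨l⟩ := QCoh.nonempty_stalk_HH f hN y (q + 1) _ (pullback.fst f (Y.fromSpecStalk y))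
    (IsPullback.of_hasPullback _ _)
  have hst := @Equiv.subsingleton _ _ l.toEquiv h
  obtain ⟨e⟩ := QCoh.nonempty_RpushAb_iso f N q
  obtain ⟨e₂⟩ := QCoh.nonempty_Rpush_iso f N q
  let E : (Coh.RpushAb f (q + 1)).obj (Coh.toAb N) ≅ Coh.toAb ((Coh.Rpush f (q + 1)).obj N) :=
    e ≪≫ (QCoh.toAbFunctor Y).mapIso e₂.symm
  have hz : IsZero (TopCat.Presheaf.stalk (Coh.toAb ((Coh.Rpush f (q + 1)).obj N)).obj y) :=
    @AddCommGrpCat.isZero_of_subsingleton _ hst
  exact hz.of_iso ((TopCat.Presheaf.stalkFunctor AddCommGrpCat y).mapIso ((sheafToPresheaf _ _).mapIso E))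

/-- Higher direct images of high twists vanish at a point with ample fibre. -/
theorem exists_stalk_vanishing {X Y : Scheme.{u}} (f : X ⟶ Y) [IsProper f] [IsLocallyNoetherian Y]
    {L : X.Modules} (hL : PicF.IsInvertible L) {M : X.Modules} (hM : Coh.IsCoh M) (y : Y)
    (hy : CohB1.IsAmple ((Scheme.Modules.pullback (f.fiberι y)).obj L)) :
    ∃ d₀ : ℕ, ∀ d : ℕ, d₀ ≤ d → ∀ p : ℕ, 0 < p →
      IsZero (TopCat.Presheaf.stalk
        ((Coh.RpushAb f p).obj (Coh.toAb (CohB1.tensorMod M (CohB1.tensorPow L d)))).obj y) := by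
  let A := Y.presheaf.stalk y
  haveI : IsNoetherianRing A := inferInstance
  let X₁ := pullback f (Y.fromSpecStalk y)
  letI : X₁.Over (Spec (CommRingCat.of A)) := ⟨pullback.snd f (Y.fromSpecStalk y)⟩
  haveI : IsProper (X₁ ↘ Spec (CommRingCat.of A)) :=
    (inferInstance : IsProper (pullback.snd f (Y.fromSpecStalk y)))
  let g : X₁ ⟶ X := pullback.fst f (Y.fromSpecStalk y)
  let t : Spec (Y.residueField y) ⟶ Spec (CommRingCat.of A) := Spec.map (Y.residue y)
  have ht : t ≫ Y.fromSpecStalk y = Y.fromSpecResidueField y := rfl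
  let i₁ : f.fiber y ⟶ X₁ := pullback.lift (f.fiberι y) (f.fiberToSpecResidueField y ≫ t)
    (by rw [Category.assoc, ht]; exact pullback.condition)
  have hi : i₁ ≫ g = f.fiberι y := pullback.lift_fst _ _ _
  have sq : IsPullback i₁ (f.fiberToSpecResidueField y) (X₁ ↘ Spec (CommRingCat.of A)) t :=
    IsPullback.of_right (by rw [hi, ht]; exact IsPullback.of_hasPullback _ _)
      (pullback.lift_snd _ _ _) (IsPullback.of_hasPullback _ _)
  have hamp : CohB1.IsAmple ((Scheme.Modules.pullback i₁).obj ((Scheme.Modules.pullback g).obj L)) :=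
    AmpleX.isAmple_of_iso
      ((Scheme.Modules.pullbackComp i₁ g).app L ≪≫ (Scheme.Modules.pullbackCongr hi).app L).symm hy
  obtain ⟨d₀, hd₀⟩ := exists_vanishing_local A sq (PicClLib.isInvertible_pullback g hL) hamp
    (M := (Scheme.Modules.pullback g).obj M)
    ⟨QCoh.isQCoh_pullback _ hM.1, QCoh.isFT_pullback _ hM.1 hM.2⟩
  refine ⟨d₀, fun d hd p hp => ?_⟩
  obtain ⟨q, rfl⟩ := Nat.exists_eq_add_of_le' hp
  let N := CohB1.tensorMod M (CohB1.tensorPow L d)
  have hN : Coh.IsQCoh N :=
    KFlatLib.isQCoh_tensor hM.1 (ProjUPX.isQCoh_of_isInvertible (H23.PicMul.isInvertible_tensorPow hL d))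
  obtain ⟨a⟩ := VarInt.nonempty_pullback_tensorPow g L d
  let b : (Scheme.Modules.pullback g).obj N ≅ CohB1.tensorMod ((Scheme.Modules.pullback g).obj M)
      (CohB1.tensorPow ((Scheme.Modules.pullback g).obj L) d) :=
    ((KFlatLib.pullTensorBiIso g).app M).app (CohB1.tensorPow L d) ≪≫ PicGrp.tensorModIso (Iso.refl _) a
  exact isZero_stalk_RpushAb f hN y q
    (@Equiv.subsingleton _ _ (Coh32.AmpleInt.hhAdd b (q + 1)).toEquiv (hd₀ d hd (q + 1) q.succ_pos))

end Groth.Agent.Coh32.FibreVanish
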