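import Groth.Agent.KFlatLib.Scheme.AffineConservative
import Groth.Agent.KFlatLib.Scheme.SheafGen
import Mathlib.Algebra.Category.ModuleCat.Products
import Mathlib.RingTheory.Flat.Basic

/-!
# Quotients of sums of extensions by zero of structure sheaves
-/

universe u

open CategoryTheory CategoryTheory.Limits AlgebraicGeometry TopologicalSpace Opposite DirectSum
open Groth.Agent.KFlatLib

namespace Groth.Agent.Coh32

attribute [local instance] Classical.propDecidable

variable {X : Scheme.{u}}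

theorem isFlat_coprod {ι : Type u} (F : ι → X.Modules) (h : ∀ i, FlatMod.IsFlat (F i)) :
    FlatMod.IsFlat (∐ F) := fun x => by
  classical
  let Φ := DerSch.stalkFunctor X x
  haveI : PreservesColimitsOfSize.{u, u} Φ := (skyAdj x).leftAdjoint_preservesColimits
  let e : Φ.obj (∐ F) ≅ ModuleCat.of (X.presheaf.stalk x) (⨁ i, Φ.obj (F i)) :=
    (asIso (sigmaComparison Φ F)).symm ≪≫ ModuleCat.coprodIsoDirectSum _
  haveI : ∀ i, Module.Flat (X.presheaf.stalk x) (Φ.obj (F i)) := fun i => h i x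
  exact (Module.Flat.equiv_iff e.toLinearEquiv).2 inferInstance

theorem exists_epi_coprod_extZeroUnit (F : X.Modules) :
    ∃ (ι : Type u) (U : ι → X.Opens) (p : (∐ fun i => CxOX.extZeroUnit (U i).ι) ⟶ F),
      Epi p ∧ FlatMod.IsFlat (∐ fun i => CxOX.extZeroUnit (U i).ι) := by
  let e : ∀ i : LshGenIdx F, CxOX.extZeroUnit i.1.ι ≅
      (lsh i.1.ι).obj (Coh.structureModule (i.1 : Scheme.{u})) := fun i =>
    ((CxOX.extZeroAdj i.1.ι).leftAdjointUniq (lshAdj i.1.ι)).app
      (Coh.structureModule (i.1 : Scheme.{u}))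
  let p : (∐ fun i : LshGenIdx F => CxOX.extZeroUnit i.1.ι) ⟶ F :=
    Sigma.desc fun i => (e i).hom ≫
      ((lshAdj i.1.ι).homEquiv _ _).symm (QCoh.homOfTop i.2)
  refine ⟨LshGenIdx F, fun i => i.1, p, ?_, isFlat_coprod _ fun i => ?_⟩
  · refine Preadditive.epi_of_cancel_zero _ fun g h => lshGenMap_zero g (Sigma.hom_ext _ _ fun i => ?_)
    have h1 := congrArg (fun z => (e i).inv ≫ Sigma.ι (fun i : LshGenIdx F => CxOX.extZeroUnit i.1.ι) i ≫ z) h
    simp only [p, Sigma.ι_desc_assoc, Iso.inv_hom_id_assoc, comp_zero, Category.assoc] at h1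
    refine Eq.trans ?_ comp_zero.symm
    erw [← Category.assoc, Sigma.ι_desc]
    exact h1
  · exact isFlat_secObj i.1

end Groth.Agent.Coh32
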