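import Groth.Prelude.Def_CxOX
import Groth.Agent.QCoh.Tilde
import Groth.Agent.QCoh.Qcqs
import Groth.Agent.QCoh.Extension
import Mathlib.RingTheory.Finiteness.Ideal

/-!
# Sections supported in the complement of a quasi-compact open
-/

universe u

open CategoryTheory CategoryTheory.Limits AlgebraicGeometry TopologicalSpace Opposite
open Groth.Agent.QCoh

namespace Groth.Agent.Coh32

variable {U X : Scheme.{u}} (j : U ⟶ X) [IsOpenImmersion j]

theorem isQCoh_gammaZ [QuasiCompact j] {F : X.Modules} (hF : Coh.IsQCoh F) :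
    Coh.IsQCoh ((DCoh.gammaZ j).obj F) :=
  isQCoh_kernel hF (isQCoh_pushforward j (isQCoh_restrict j hF)) _

theorem range_gammaZι (F : X.Modules) (V : X.Opens) (s : Γ(F, V)) :
    (∃ t, ((CxOX.gammaZι j).app F).app V t = s) ↔
      F.presheaf.map (homOfLE (j.image_preimage_le V)).op s = 0 := by
  let ψ := (Scheme.Modules.restrictAdjunction j).unit.app F
  have hψ : ψ.app V s = F.presheaf.map (homOfLE (j.image_preimage_le V)).op s := by
    simp only [ψ, Scheme.Modules.restrictAdjunction_unit_app_app]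
    rfl
  constructor
  · rintro ⟨t, rfl⟩
    refine hψ.symm.trans ?_
    exact congr(($(kernel.condition ψ)).app V t)
  · intro h
    let S : ShortComplex X.Modules :=
      ShortComplex.mk (kernel.ι ψ) (cokernel.π (kernel.ι ψ)) (cokernel.condition _)
    have hS : S.ShortExact :=
      { exact := ShortComplex.exact_of_g_is_cokernel _ (cokernelIsCokernel _) }
    let m := Abelian.factorThruCoimage ψ
    refine exists_app_f_eq hS V s (app_injective m V ?_)
    rw [map_zero]
    have hfac : cokernel.π (kernel.ι ψ) ≫ m = ψ := cokernel.π_desc _ _ _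
    exact (congr(($hfac).app V s)).trans (hψ.trans h)

theorem mem_gammaZ_iff_pow_smul [QuasiCompact j] {F : X.Modules} (hF : Coh.IsQCoh F) {V : X.Opens}
    (hV : IsAffineOpen V) (I : Ideal Γ(X, V)) (hI : I.FG)
    (hZ : ∀ x : X, x ∈ V → (x ∉ Set.range j.base ↔ ∀ f ∈ I, x ∉ X.basicOpen f)) (s : Γ(F, V)) :
    (∃ t, ((CxOX.gammaZι j).app F).app V t = s) ↔ ∃ n : ℕ, ∀ a ∈ I ^ n, a • s = 0 := by
  rw [range_gammaZι]
  have hle : j ''ᵁ (j ⁻¹ᵁ V) = j.opensRange ⊓ V := j.image_preimage_eq_opensRange_inf V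
  constructor
  · intro h
    obtain ⟨T, hT⟩ := hI
    let J : Ideal Γ(X, V) := (Submodule.span Γ(X, V) {s}).annihilator
    have hrad : I ≤ J.radical := by
      rw [← hT, Ideal.span_le]
      intro f hf
      have hsub : X.basicOpen f ≤ j ''ᵁ (j ⁻¹ᵁ V) := by
        rw [hle]
        refine le_inf (fun x hx => ?_) (X.basicOpen_le f)
        by_contra hxU
        exact (hZ x (X.basicOpen_le f hx)).1 hxU f (hT ▸ Ideal.subset_span hf) hx
      obtain ⟨n, hn⟩ := exists_pow_smul_eq_zero hF hV f s (by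
        have := congrArg (F.presheaf.map (homOfLE hsub).op) h
        rw [map_map, map_zero] at this
        exact this)
      exact ⟨n, Submodule.mem_annihilator_span_singleton _ _ |>.2 hn⟩
    obtain ⟨n, hn⟩ := Ideal.exists_pow_le_of_le_radical_of_fg hrad ⟨T, hT⟩
    exact ⟨n, fun a ha => (Submodule.mem_annihilator_span_singleton _ _).1 (hn ha)⟩
  · rintro ⟨n, hn⟩
    refine eq_zero_of_locally _ _ fun x hx => ?_
    have hxV : x ∈ V := j.image_preimage_le V hx
    have hxr : x ∈ Set.range j.base := ((hle ▸ hx : x ∈ j.opensRange ⊓ V)).1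
    obtain ⟨f, hfI, hxf⟩ : ∃ f ∈ I, x ∈ X.basicOpen f := by
      by_contra hh
      exact (hZ x hxV).2 (by simpa using hh) hxr
    let W : X.Opens := j ''ᵁ (j ⁻¹ᵁ V) ⊓ X.basicOpen f
    refine ⟨W, homOfLE inf_le_left, ⟨hx, hxf⟩, ?_⟩
    rw [map_map]
    have hWV : W ≤ V := inf_le_left.trans (j.image_preimage_le V)
    have hu : IsUnit (X.presheaf.map (homOfLE hWV).op (f ^ n)) := by
      rw [map_pow]
      refine IsUnit.pow n ?_
      have hu : IsUnit (X.presheaf.map (homOfLE (X.basicOpen_le f)).op f) :=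
        RingedSpace.isUnit_res_basicOpen X.toRingedSpace f
      have := hu.map (X.presheaf.map (homOfLE (inf_le_right : W ≤ X.basicOpen f)).op).hom
      rwa [← ConcreteCategory.comp_apply, ← X.presheaf.map_comp] at this
    refine hu.smul_left_cancel.1 ?_
    rw [smul_zero]
    refine Eq.trans ?_ ((congrArg (F.presheaf.map (homOfLE hWV).op)
      (hn _ (Ideal.pow_mem_pow hfI n))).trans (map_zero _))
    exact (map_smul' (M := F) _ _ _).symm

end Groth.Agent.Coh32
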