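import Groth.Agent.QCoh.GodRestrict
import Groth.Agent.QCoh.CechMap

/-!
# Composition and linearity of the functoriality of Godement cokernels
-/

noncomputable section

set_option linter.style.haveILetI false
set_option backward.isDefEq.respectTransparency false
set_option backward.isDefEq.respectTransparency.types false

universe u

open CategoryTheory CategoryTheory.Limits AlgebraicGeometry TopologicalSpace Opposite

namespace Groth.Agent.Coh32.GodFunct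

open Groth.Agent Groth.Agent.QCoh

theorem comm_god {X X' : Scheme.{u}} (φ : X' ⟶ X) {M : X.Modules} {M' : X'.Modules}
    (η : M ⟶ (Scheme.Modules.pushforward φ).obj M') (k : ℕ) {V : X.Opens} (a : Γ(God (godQ M k), V)) :
    (godQMap φ η (k + 1)).app V ((godπ M k).app V a) =
      (godπ M' k).app (φ ⁻¹ᵁ V) ((godMap φ (godQMap φ η k)).app V a) :=
  congr(($(godπ_godQMap φ η k)).app V a)

section comp

variable {X X₁ X₂ : Scheme.{u}} {φ : X₂ ⟶ X₁} {ψ : X₁ ⟶ X} {M : X.Modules} {M₁ : X₁.Modules} {M₂ : X₂.Modules}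

/-- The relation between a map and two factors. -/
def IsComp (ηψ : M ⟶ (Scheme.Modules.pushforward ψ).obj M₁) (ηφ : M₁ ⟶ (Scheme.Modules.pushforward φ).obj M₂)
    (ηχ : M ⟶ (Scheme.Modules.pushforward (φ ≫ ψ)).obj M₂) : Prop :=
  ∀ (V : X.Opens) (x : Γ(M, V)),
    (show Γ(M₂, φ ⁻¹ᵁ (ψ ⁻¹ᵁ V)) from ηχ.app V x) = ηφ.app (ψ ⁻¹ᵁ V) (show Γ(M₁, ψ ⁻¹ᵁ V) from ηψ.app V x)

variable {ηψ : M ⟶ (Scheme.Modules.pushforward ψ).obj M₁} {ηφ : M₁ ⟶ (Scheme.Modules.pushforward φ).obj M₂}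
  {ηχ : M ⟶ (Scheme.Modules.pushforward (φ ≫ ψ)).obj M₂}

theorem stkMap_comp (h : IsComp ηψ ηφ ηχ) (y : X₂) (m : stk M ((φ ≫ ψ).base y)) :
    stkMap (φ ≫ ψ) ηχ y m = stkMap φ ηφ y (stkMap ψ ηψ (φ.base y) m) := by
  obtain ⟨V, hV, s, rfl⟩ := exists_germM M m
  refine (stkMap_germM (φ ≫ ψ) ηχ y V hV s).trans ?_
  have e1 : stkMap ψ ηψ (φ.base y) (germM M V hV s) = germM M₁ (ψ ⁻¹ᵁ V) hV (ηψ.app V s) :=
    stkMap_germM ψ ηψ (φ.base y) V hV s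
  refine Eq.trans ?_ ((congrArg (stkMap φ ηφ y) e1).trans (stkMap_germM φ ηφ y (ψ ⁻¹ᵁ V) hV _)).symm
  exact congrArg (germM M₂ (φ ⁻¹ᵁ (ψ ⁻¹ᵁ V)) hV) (h V s)

theorem isComp_godMap (h : IsComp ηψ ηφ ηχ) :
    IsComp (godMap ψ ηψ) (godMap φ ηφ) (godMap (φ ≫ ψ) ηχ) := fun _ x =>
  god_ext fun y hy => stkMap_comp h y (godVal x ((φ ≫ ψ).base y) hy)

/-- The functoriality of the cokernels respects composition. -/
theorem isComp_godQMap (h : IsComp ηψ ηφ ηχ) :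
    ∀ k, IsComp (godQMap ψ ηψ k) (godQMap φ ηφ k) (godQMap (φ ≫ ψ) ηχ k)
  | 0 => h
  | k + 1 => fun V x => by
    haveI : Epi (godπ M k) := inferInstanceAs (Epi (cokernel.π _))
    refine sub_eq_zero.1 (eq_zero_of_locally (M := godQ M₂ (k + 1)) (φ ⁻¹ᵁ (ψ ⁻¹ᵁ V)) _ fun p hp => ?_)
    obtain ⟨V₁, i, hpV, a, ha⟩ := exists_local_preimage (godπ M k) x (show ψ.base (φ.base p) ∈ V from hp)
    refine ⟨φ ⁻¹ᵁ (ψ ⁻¹ᵁ V₁), homOfLE (φ.preimage_mono (ψ.preimage_mono i)), hpV, ?_⟩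
    refine (map_sub ((godQ M₂ (k + 1)).presheaf.map (homOfLE (φ.preimage_mono (ψ.preimage_mono i))).op).hom _ _).trans
      (sub_eq_zero.2 ?_)
    have hl : rs (godQ M₂ (k + 1)) (φ.preimage_mono (ψ.preimage_mono i))
        (show Γ(godQ M₂ (k + 1), φ ⁻¹ᵁ (ψ ⁻¹ᵁ V)) from (godQMap (φ ≫ ψ) ηχ (k + 1)).app V x) =
        (godQMap (φ ≫ ψ) ηχ (k + 1)).app V₁ (rs (godQ M (k + 1)) i x) :=
      (app_rs (godQMap (φ ≫ ψ) ηχ (k + 1)) i x).symm
    have hr : rs (godQ M₂ (k + 1)) (φ.preimage_mono (ψ.preimage_mono i))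
        (show Γ(godQ M₂ (k + 1), φ ⁻¹ᵁ (ψ ⁻¹ᵁ V)) from (godQMap φ ηφ (k + 1)).app (ψ ⁻¹ᵁ V)
          (show Γ(godQ M₁ (k + 1), ψ ⁻¹ᵁ V) from (godQMap ψ ηψ (k + 1)).app V x)) =
        (godQMap φ ηφ (k + 1)).app (ψ ⁻¹ᵁ V₁)
          (show Γ(godQ M₁ (k + 1), ψ ⁻¹ᵁ V₁) from (godQMap ψ ηψ (k + 1)).app V₁ (rs (godQ M (k + 1)) i x)) :=
      ((app_rs (godQMap φ ηφ (k + 1)) (ψ.preimage_mono i) _).symm.trans
        (congrArg ((godQMap φ ηφ (k + 1)).app (ψ ⁻¹ᵁ V₁)) (app_rs (godQMap ψ ηψ (k + 1)) i x).symm) :)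
    refine hl.trans (Eq.trans ?_ hr.symm)
    have ha' : rs (godQ M (k + 1)) i x = (godπ M k).app V₁ a := ha.symm
    rw [ha']
    refine (comm_god (φ ≫ ψ) ηχ k a).trans ?_
    refine Eq.trans ?_ (congrArg ((godQMap φ ηφ (k + 1)).app (ψ ⁻¹ᵁ V₁)) (comm_god ψ ηψ k a)).symm
    refine Eq.trans ?_ (comm_god φ ηφ k (V := ψ ⁻¹ᵁ V₁)
      (show Γ(God (godQ M₁ k), ψ ⁻¹ᵁ V₁) from (godMap ψ (godQMap ψ ηψ k)).app V₁ a)).symm
    exact congrArg ((godπ M₂ k).app (φ ⁻¹ᵁ (ψ ⁻¹ᵁ V₁))) (isComp_godMap (isComp_godQMap h k) V₁ a)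

end comp

section linear

variable {X X' : Scheme.{u}} {φ : X' ⟶ X} {M : X.Modules} {M' : X'.Modules}

/-- Restriction of global functions. -/
abbrev gres (U : X'.Opens) (r : Γ(X', ⊤)) : Γ(X', U) := rf X' (le_top : U ≤ ⊤) r

/-- `η₃` is a combination of `η₁` and `η₂` with global coefficients. -/
def IsComb (r₁ r₂ : Γ(X', ⊤)) (η₁ η₂ η₃ : M ⟶ (Scheme.Modules.pushforward φ).obj M') : Prop :=
  ∀ (V : X.Opens) (x : Γ(M, V)), (show Γ(M', φ ⁻¹ᵁ V) from η₃.app V x) =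
    gres (φ ⁻¹ᵁ V) r₁ • (show Γ(M', φ ⁻¹ᵁ V) from η₁.app V x) +
      gres (φ ⁻¹ᵁ V) r₂ • (show Γ(M', φ ⁻¹ᵁ V) from η₂.app V x)

variable {r₁ r₂ : Γ(X', ⊤)} {η₁ η₂ η₃ : M ⟶ (Scheme.Modules.pushforward φ).obj M'}

theorem rs_resTop (N : X'.Modules) {U V : X'.Opens} (h : V ≤ U) (r : Γ(X', ⊤)) (x : Γ(N, U)) :
    rs N h (gres U r • x) = gres V r • rs N h x := by
  rw [rs_smul]
  exact congrArg (fun c => c • rs N h x) (ringMap_map _ _ _)

theorem germ_resTop {U : X'.Opens} {y : X'} (hy : y ∈ U) (r : Γ(X', ⊤)) :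
    X'.presheaf.germ U y hy (gres U r) = X'.presheaf.germ ⊤ y trivial r :=
  TopCat.Presheaf.germ_res_apply X'.presheaf _ y hy r

theorem stkMap_comb (h : IsComb r₁ r₂ η₁ η₂ η₃) (y : X') (m : stk M (φ.base y)) :
    stkMap φ η₃ y m = X'.presheaf.germ ⊤ y trivial r₁ • stkMap φ η₁ y m +
      X'.presheaf.germ ⊤ y trivial r₂ • stkMap φ η₂ y m := by
  obtain ⟨V, hV, s, rfl⟩ := exists_germM M m
  refine ((stkMap_germM φ η₃ y V hV s).trans (congrArg (germM M' (φ ⁻¹ᵁ V) hV) (h V s))).trans ?_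
  rw [map_add, germM_smul, germM_smul, germ_resTop, germ_resTop, stkMap_germM, stkMap_germM]

theorem isComb_godMap (h : IsComb r₁ r₂ η₁ η₂ η₃) :
    IsComb r₁ r₂ (godMap φ η₁) (godMap φ η₂) (godMap φ η₃) := fun V x =>
  god_ext (U := φ ⁻¹ᵁ V) fun y hy => by
    refine (stkMap_comb h y (godVal x (φ.base y) hy)).trans ?_
    exact congrArg₂ (· + ·)
      (congrArg (· • stkMap φ η₁ y (godVal x (φ.base y) hy)) (germ_resTop (U := φ ⁻¹ᵁ V) hy r₁).symm)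
      (congrArg (· • stkMap φ η₂ y (godVal x (φ.base y) hy)) (germ_resTop (U := φ ⁻¹ᵁ V) hy r₂).symm)

/-- The functoriality of the cokernels is linear. -/
theorem isComb_godQMap (h : IsComb r₁ r₂ η₁ η₂ η₃) :
    ∀ k, IsComb r₁ r₂ (godQMap φ η₁ k) (godQMap φ η₂ k) (godQMap φ η₃ k)
  | 0 => h
  | k + 1 => fun V x => by
    haveI : Epi (godπ M k) := inferInstanceAs (Epi (cokernel.π _))
    refine sub_eq_zero.1 (eq_zero_of_locally (M := godQ M' (k + 1)) (φ ⁻¹ᵁ V) _ fun p hp => ?_)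
    obtain ⟨V₁, i, hpV, a, ha⟩ := exists_local_preimage (godπ M k) x (show φ.base p ∈ V from hp)
    refine ⟨φ ⁻¹ᵁ V₁, homOfLE (φ.preimage_mono i), hpV, ?_⟩
    refine (map_sub ((godQ M' (k + 1)).presheaf.map (homOfLE (φ.preimage_mono i)).op).hom _ _).trans
      (sub_eq_zero.2 ?_)
    have hx : ∀ η : M ⟶ (Scheme.Modules.pushforward φ).obj M', rs (godQ M' (k + 1)) (φ.preimage_mono i)
        (show Γ(godQ M' (k + 1), φ ⁻¹ᵁ V) from (godQMap φ η (k + 1)).app V x) =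
        (godπ M' k).app (φ ⁻¹ᵁ V₁) ((godMap φ (godQMap φ η k)).app V₁ a) := fun η => by
      refine (app_rs (godQMap φ η (k + 1)) i x).symm.trans ?_
      rw [show rs (godQ M (k + 1)) i x = (godπ M k).app V₁ a from ha.symm]
      exact comm_god φ η k a
    refine (hx η₃).trans (Eq.trans ?_ ((rs_add (G := godQ M' (k + 1)) (φ.preimage_mono i) _ _).trans
      (congrArg₂ (· + ·) ((rs_resTop (godQ M' (k + 1)) _ r₁ _).trans (congrArg _ (hx η₁)))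
        ((rs_resTop (godQ M' (k + 1)) _ r₂ _).trans (congrArg _ (hx η₂))))).symm)
    refine (congrArg ((godπ M' k).app (φ ⁻¹ᵁ V₁)) (isComb_godMap (isComb_godQMap h k) V₁ a)).trans ?_
    exact (map_add ((godπ M' k).app (φ ⁻¹ᵁ V₁)).hom _ _).trans
      (congrArg₂ (· + ·) (Scheme.Modules.Hom.app_smul _ _ _) (Scheme.Modules.Hom.app_smul _ _ _))

end linear

end Groth.Agent.Coh32.GodFunct
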