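import Groth.Agent.Coh32.GodFunct
import Groth.Agent.QCoh.GodBC

/-!
# Cohomology and tensor products with flat modules, through the Godement resolution
-/

noncomputable section

set_option linter.style.haveILetI false
set_option backward.isDefEq.respectTransparency false
set_option backward.isDefEq.respectTransparency.types false
set_option maxHeartbeats 800000

universe u

open CategoryTheory CategoryTheory.Limits AlgebraicGeometry TopologicalSpace Opposite
open scoped TensorProduct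

namespace Groth.Agent.Coh32.GodTensor

open Groth.Agent Groth.Agent.QCoh Groth.Agent.Coh32.GodFunct

section algebra

variable (A : Type u) [CommRing A] (T : Type u) [AddCommGroup T] [Module A T]

/-- `N ↦ T ⊗ N`. -/
def tT : ModuleCat.{u} A ⥤ ModuleCat.{u} A where
  obj N := ModuleCat.of A (T ⊗[A] N)
  map f := ModuleCat.ofHom (f.hom.lTensor T)
  map_id N := by ext x; simp
  map_comp f g := by ext x; simp

instance : (tT A T).Additive where
  map_add {M N f g} := ModuleCat.hom_ext (LinearMap.lTensor_add T f.hom g.hom)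

theorem tT_preservesHomology [Module.Flat A T] : (tT A T).PreservesHomology :=
  ((Functor.exact_tfae (tT A T)).out 1 2).1 fun S hS => by
    rw [ShortComplex.ShortExact.moduleCat_exact_iff_function_exact] at hS ⊢
    exact Module.Flat.lTensor_exact T hS

variable {A T}

theorem map_shortExact [Module.Flat A T] {K L N : CochainComplex (ModuleCat.{u} A) ℕ} {f : K ⟶ L} {g : L ⟶ N}
    {w : f ≫ g = 0}
    (w' : ((tT A T).mapHomologicalComplex _).map f ≫ ((tT A T).mapHomologicalComplex _).map g = 0)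
    (h : (ShortComplex.mk f g w).ShortExact) : (ShortComplex.mk _ _ w').ShortExact := by
  refine HomologicalComplex.shortExact_of_degreewise_shortExact _ fun n => ?_
  haveI := tT_preservesHomology A T
  haveI := (tT A T).preservesFiniteLimits_of_preservesHomology
  haveI := (tT A T).preservesFiniteColimits_of_preservesHomology
  exact (h.map_of_exact (HomologicalComplex.eval _ _ n)).map_of_exact (tT A T)

theorem homologyπ_eq_zero {K : CochainComplex (ModuleCat.{u} A) ℕ} {i k : ℕ}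
    (hi : (ComplexShape.up ℕ).prev k = i) (c : K.cycles k) :
    K.homologyπ k c = 0 ↔ ∃ x, K.d i k x = K.iCycles k c := by
  have hex : (ShortComplex.mk (K.toCycles i k) (K.homologyπ k) (K.toCycles_comp_homologyπ i k)).Exact :=
    ShortComplex.exact_of_g_is_cokernel _ (K.homologyIsCokernel i k hi)
  have hinj : Function.Injective (K.iCycles k) := (ModuleCat.mono_iff_injective _).1 inferInstance
  have e : ∀ x, K.iCycles k (K.toCycles i k x) = K.d i k x := fun x => congr($(K.toCycles_i i k) x)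
  constructor
  · intro h
    obtain ⟨x, hx⟩ := (ShortComplex.moduleCat_exact_iff _).1 hex c h
    exact ⟨x, (e x).symm.trans (congrArg (K.iCycles k) hx)⟩
  · rintro ⟨x, hx⟩
    have hc : K.toCycles i k x = c := hinj ((e x).trans hx)
    rw [← hc]
    exact congr($(K.toCycles_comp_homologyπ i k) x)

theorem exists_iCycles_eq {K : CochainComplex (ModuleCat.{u} A) ℕ} {k : ℕ} (y : K.X k)
    (hy : K.d k (k + 1) y = 0) : ∃ c, K.iCycles k c = y := by
  refine ⟨K.liftCycles (ModuleCat.ofHom (LinearMap.toSpanSingleton A (K.X k) y)) (k + 1) (by simp)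
    (ModuleCat.hom_ext (LinearMap.ext_ring ?_)) (1 : A), ?_⟩
  · show K.d k (k + 1) ((1 : A) • y) = 0
    rw [one_smul, hy]
  · exact (congr($(K.liftCycles_i (ModuleCat.ofHom (LinearMap.toSpanSingleton A (K.X k) y)) (k + 1) _ _) (1 : A))).trans
      (one_smul A y)

/-- Quasi-isomorphisms in terms of elements. -/
theorem quasiIsoAt_elements {K K' : CochainComplex (ModuleCat.{u} A) ℕ} (f : K ⟶ K') {i k : ℕ}
    (hi : (ComplexShape.up ℕ).prev k = i) (h : QuasiIsoAt f k) :
    (∀ y, K'.d k (k + 1) y = 0 → ∃ z, K.d k (k + 1) z = 0 ∧ ∃ x, K'.d i k x = f.f k z - y) ∧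
      ∀ z, K.d k (k + 1) z = 0 → (∃ x, K'.d i k x = f.f k z) → ∃ x, K.d i k x = z := by
  have hb : Function.Bijective (HomologicalComplex.homologyMap f k) :=
    (ConcreteCategory.isIso_iff_bijective _).1 ((quasiIsoAt_iff_isIso_homologyMap f k).1 h)
  have hπ : Function.Surjective (K.homologyπ k) := (ModuleCat.epi_iff_surjective _).1 inferInstance
  have hm : ∀ c, K'.iCycles k (HomologicalComplex.cyclesMap f k c) = f.f k (K.iCycles k c) := fun c =>
    congr($(HomologicalComplex.cyclesMap_i f k) c)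
  have hn : ∀ c, HomologicalComplex.homologyMap f k (K.homologyπ k c) =
      K'.homologyπ k (HomologicalComplex.cyclesMap f k c) := fun c =>
    congr($(HomologicalComplex.homologyπ_naturality f k) c)
  refine ⟨fun y hy => ?_, fun z hz ⟨x, hx⟩ => ?_⟩
  · obtain ⟨c', hc'⟩ := exists_iCycles_eq y hy
    obtain ⟨q, hq⟩ := hb.2 (K'.homologyπ k c')
    obtain ⟨c, rfl⟩ := hπ q
    rw [hn, ← sub_eq_zero, ← map_sub, homologyπ_eq_zero hi] at hq
    obtain ⟨x, hx⟩ := hq
    refine ⟨K.iCycles k c, congr($(K.iCycles_d k (k + 1)) c), x, hx.trans ?_⟩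
    rw [map_sub, hm, hc']
  · obtain ⟨c, hc⟩ := exists_iCycles_eq z hz
    have h0 : K.homologyπ k c = 0 := hb.1 (by
      rw [map_zero, hn, homologyπ_eq_zero hi]
      exact ⟨x, by rw [hm, hc, hx]⟩)
    obtain ⟨x', hx'⟩ := (homologyπ_eq_zero hi c).1 h0
    exact ⟨x', hx'.trans hc⟩

end algebra

variable {A : Type u} [CommRing A] {T : Type u} [AddCommGroup T] [Module A T]
  {X X' : Scheme.{u}} {φ : X' ⟶ X} (ρ : A →+* Coh.Γtop X) (ρ' : A →+* Coh.Γtop X')
  (hρ : ∀ a, ρ' a = φ.appTop (ρ a))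

/-- An `A`-linear family of maps to a direct image. -/
structure Fam (T : Type u) [AddCommGroup T] [Module A T] (G : X.Modules) (G' : X'.Modules) where
  map : T → (G ⟶ (Scheme.Modules.pushforward φ).obj G')
  add : ∀ t₁ t₂, IsComb 1 1 (map t₁) (map t₂) (map (t₁ + t₂))
  smul : ∀ (a : A) t, IsComb (ρ' a) 0 (map t) (map t) (map (a • t))

variable {ρ'} {G : X.Modules} {G' : X'.Modules} (ζ : Fam (φ := φ) ρ' T G G')

/-- The family on Godement modules. -/
def Fam.god : Fam (φ := φ) ρ' T (God G) (God G') where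
  map t := godMap φ (ζ.map t)
  add t₁ t₂ := isComb_godMap (ζ.add t₁ t₂)
  smul a t := isComb_godMap (ζ.smul a t)

/-- The family on Godement cokernels. -/
def Fam.godQ (k : ℕ) : Fam (φ := φ) ρ' T (QCoh.godQ G k) (QCoh.godQ G' k) where
  map t := godQMap φ (ζ.map t) k
  add t₁ t₂ := isComb_godQMap (ζ.add t₁ t₂) k
  smul a t := isComb_godQMap (ζ.smul a t) k

theorem gres_one {Y : Scheme.{u}} (U : Y.Opens) : gres U (1 : Γ(Y, ⊤)) = 1 := map_one _

theorem gres_zero {Y : Scheme.{u}} (U : Y.Opens) : gres U (0 : Γ(Y, ⊤)) = 0 := map_zero _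

include hρ in
theorem secMap_linear (t : T) (V : X.Opens) (a : A) (x : Γ(G, V)) :
    letI := secModule ρ G V
    letI := secModule ρ' G' (φ ⁻¹ᵁ V)
    secMap φ (ζ.map t) (le_rfl : φ ⁻¹ᵁ V ≤ _) (a • x) = a • secMap φ (ζ.map t) (le_rfl : φ ⁻¹ᵁ V ≤ _) x :=
  secMap_smul ρ ρ' φ (ζ.map t) le_rfl a x hρ

/-- The pairing of sections. -/
def pairS (V : X.Opens) :
    letI := secModule ρ G V
    letI := secModule ρ' G' (φ ⁻¹ᵁ V)
    T ⊗[A] Γ(G, V) →ₗ[A] Γ(G', φ ⁻¹ᵁ V) :=
  letI := secModule ρ G V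
  letI := secModule ρ' G' (φ ⁻¹ᵁ V)
  TensorProduct.lift (LinearMap.mk₂ A (fun t x => secMap φ (ζ.map t) (le_rfl : φ ⁻¹ᵁ V ≤ _) x)
    (fun t₁ t₂ x => by
      refine (congrArg (fun s => G'.presheaf.map (homOfLE (le_rfl : φ ⁻¹ᵁ V ≤ _)).op s) (ζ.add t₁ t₂ V x)).trans ?_
      rw [gres_one, one_smul, one_smul]
      exact map_add _ _ _)
    (fun a t x => by
      refine (congrArg (fun s => G'.presheaf.map (homOfLE (le_rfl : φ ⁻¹ᵁ V ≤ _)).op s) (ζ.smul a t V x)).trans ?_
      rw [gres_zero, zero_smul, add_zero]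
      refine (rs_smul (G := G') le_rfl (gres (φ ⁻¹ᵁ V) (ρ' a)) _).trans ?_
      exact congrArg (fun c => c • secMap φ (ζ.map t) (le_rfl : φ ⁻¹ᵁ V ≤ _) x) (ringMap_id _ _))
    (fun t x y => secMap_add φ (ζ.map t) le_rfl x y)
    (fun a t x => secMap_linear ρ hρ ζ t V a x))

theorem pairS_tmul (V : X.Opens) (t : T) (x : Γ(G, V)) :
    letI := secModule ρ G V
    letI := secModule ρ' G' (φ ⁻¹ᵁ V)
    pairS ρ hρ ζ V (t ⊗ₜ x) = secMap φ (ζ.map t) (le_rfl : φ ⁻¹ᵁ V ≤ _) x := rfl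

variable {M : X.Modules} {M' : X'.Modules} (η : Fam (φ := φ) ρ' T M M')

/-- The base change map of Godement complexes. -/
def psi (W : X.Opens) :
    ((tT A T).mapHomologicalComplex (ComplexShape.up ℕ)).obj (godCx ρ W M) ⟶ godCx ρ' (φ ⁻¹ᵁ W) M' where
  f n := letI := secModule ρ (God (QCoh.godQ M n)) W
    letI := secModule ρ' (God (QCoh.godQ M' n)) (φ ⁻¹ᵁ W)
    ModuleCat.ofHom (X := T ⊗[A] Γ(God (QCoh.godQ M n), W)) (Y := Γ(God (QCoh.godQ M' n), φ ⁻¹ᵁ W))
      (pairS ρ hρ (η.godQ n).god W)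
  comm' p q hpq := by
    obtain rfl : p + 1 = q := hpq
    refine ModuleCat.hom_ext ?_
    letI := secModule ρ (God (QCoh.godQ M p)) W
    letI := secModule ρ' (God (QCoh.godQ M' p)) (φ ⁻¹ᵁ W)
    letI := secModule ρ' (God (QCoh.godQ M' (p + 1))) (φ ⁻¹ᵁ W)
    refine TensorProduct.ext' fun t (x : Γ(God (QCoh.godQ M p), W)) => ?_
    show (show Γ(God (QCoh.godQ M' (p + 1)), φ ⁻¹ᵁ W) from
        (godCx ρ' (φ ⁻¹ᵁ W) M').d p (p + 1) (secMap φ (godMap φ (godQMap φ (η.map t) p)) le_rfl x)) =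
      secMap φ (godMap φ (godQMap φ (η.map t) (p + 1))) le_rfl
        (show Γ(God (QCoh.godQ M (p + 1)), W) from (godCx ρ W M).d p (p + 1) x)
    rw [godCx_d_apply, godCx_d_apply]
    have e1 : (godπ M p ≫ toGod (QCoh.godQ M (p + 1))) ≫ godMap φ (godQMap φ (η.map t) (p + 1)) =
        godMap φ (godQMap φ (η.map t) p) ≫ (Scheme.Modules.pushforward φ).map
          (godπ M' p ≫ toGod (QCoh.godQ M' (p + 1))) := by
      rw [Category.assoc, toGod_godMap, ← Category.assoc, godπ_godQMap, Category.assoc, Functor.map_comp]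
    unfold secMap
    rw [map_app_comm, map_app_comm]
    exact congrArg ((God (QCoh.godQ M' (p + 1))).presheaf.map (homOfLE (le_rfl : φ ⁻¹ᵁ W ≤ _)).op)
      (congrArg (fun f => f.app W x) e1).symm

theorem psi_res {V W : X.Opens} (h : V ≤ W) :
    ((tT A T).mapHomologicalComplex _).map (godRes ρ M h) ≫ psi ρ hρ η V =
      psi ρ hρ η W ≫ godRes ρ' M' (φ.preimage_mono h) := by
  ext n : 1
  refine ModuleCat.hom_ext ?_
  letI := secModule ρ (God (QCoh.godQ M n)) W
  letI := secModule ρ' (God (QCoh.godQ M' n)) (φ ⁻¹ᵁ V)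
  refine TensorProduct.ext' fun t (x : Γ(God (QCoh.godQ M n), W)) => ?_
  show secMap φ (godMap φ (godQMap φ (η.map t) n)) (le_rfl : φ ⁻¹ᵁ V ≤ φ ⁻¹ᵁ V)
      ((God (QCoh.godQ M n)).presheaf.map (homOfLE h).op x) =
    (God (QCoh.godQ M' n)).presheaf.map (homOfLE (φ.preimage_mono h)).op
      (secMap φ (godMap φ (godQMap φ (η.map t) n)) (le_rfl : φ ⁻¹ᵁ W ≤ φ ⁻¹ᵁ W) x)
  rw [secMap_map, map_secMap]

variable [Module.Flat A T]

theorem quasiIso_psi_sup (U V : X.Opens) (hU : QuasiIso (psi ρ hρ η U)) (hV : QuasiIso (psi ρ hρ η V))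
    (hUV : QuasiIso (psi ρ hρ η (U ⊓ V))) : QuasiIso (psi ρ hρ η (U ⊔ V)) := by
  let E := (tT A T).mapHomologicalComplex (ComplexShape.up ℕ)
  have z₀ : E.map (biprod.lift (godRes ρ M (le_sup_left : U ≤ U ⊔ V)) (godRes ρ M (le_sup_right : V ≤ U ⊔ V))) ≫
      E.map (biprod.fst ≫ godRes ρ M (inf_le_left : U ⊓ V ≤ U) - biprod.snd ≫ godRes ρ M (inf_le_right : U ⊓ V ≤ V)) = 0 := by
    rw [← Functor.map_comp, mvZero, Functor.map_zero]
  have hS := map_shortExact (T := T) z₀ (mvSC_shortExact' ρ M (U := U) (V := V) (W := U ⊔ V) (P := U ⊓ V) rfl rfl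
    le_sup_left le_sup_right inf_le_left inf_le_right)
  have hS' := mvSC_shortExact' ρ' M' (U := φ ⁻¹ᵁ U) (V := φ ⁻¹ᵁ V) (W := φ ⁻¹ᵁ (U ⊔ V)) (P := φ ⁻¹ᵁ (U ⊓ V))
    (Opens.ext Set.preimage_union) (Opens.ext Set.preimage_inter) (φ.preimage_mono le_sup_left)
    (φ.preimage_mono le_sup_right) (φ.preimage_mono inf_le_left) (φ.preimage_mono inf_le_right)
  exact quasiIso_mv E _ _ _ _ z₀ _ (psi_res ρ hρ η (le_sup_left : U ≤ U ⊔ V)).symm
    (psi_res ρ hρ η (le_sup_right : V ≤ U ⊔ V)).symm (psi_res ρ hρ η (inf_le_left : U ⊓ V ≤ U))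
    (psi_res ρ hρ η (inf_le_right : U ⊓ V ≤ V)) hS hS' hU hV hUV

/-- The sections on affine opens are tensor products. -/
def IsAffineTensor : Prop :=
  ∀ V : X.Opens, IsAffineOpen V → Function.Bijective (pairS ρ hρ η V)

variable [IsAffineHom φ] {η} (hM : Coh.IsQCoh M) (hM' : Coh.IsQCoh M') (hη : IsAffineTensor ρ hρ η)

include hM hM' hη in
theorem quasiIso_psi_affine {V : X.Opens} (hV : IsAffineOpen V) : QuasiIso (psi ρ hρ η V) := by
  rw [quasiIso_iff]
  haveI := tT_preservesHomology A T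
  intro i
  cases i with
  | succ n =>
    rw [quasiIsoAt_iff_exactAt']
    · exact (godCx_exactAt ρ (subsingleton_HU_of_isAffineOpen hM hV n)).map (tT A T)
    · exact godCx_exactAt ρ' (subsingleton_HU_of_isAffineOpen hM' (hV.preimage φ) n)
  | zero =>
    letI := secModule ρ M V
    letI := secModule ρ' M' (φ ⁻¹ᵁ V)
    letI := secModule ρ (God (QCoh.godQ M 0)) V
    letI := secModule ρ' (God (QCoh.godQ M' 0)) (φ ⁻¹ᵁ V)
    let a₀ : ModuleCat.of A Γ(M, V) ⟶ (godCx ρ V M).X 0 := ModuleCat.ofHom (godAug ρ V M)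
    let a' : ModuleCat.of A Γ(M', φ ⁻¹ᵁ V) ⟶ (godCx ρ' (φ ⁻¹ᵁ V) M').X 0 := ModuleCat.ofHom (godAug ρ' (φ ⁻¹ᵁ V) M')
    let b : (tT A T).obj (ModuleCat.of A Γ(M, V)) ⟶ ModuleCat.of A Γ(M', φ ⁻¹ᵁ V) :=
      ModuleCat.ofHom (pairS ρ hρ η V)
    haveI : IsIso b := (ConcreteCategory.isIso_iff_bijective _).2 (hη V hV)
    have hexact : Function.Exact a₀.hom ((godCx ρ V M).d 0 1).hom := fun y =>
      ⟨fun hy => (godAug_bijective ρ V M).2 y hy, by rintro ⟨x, rfl⟩; exact godAug_d ρ V M x⟩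
    refine quasiIsoAt_zero_of_aug _ ((tT A T).map a₀) a' b ?_ (godAug_bijective ρ' (φ ⁻¹ᵁ V) M').1
      ?_ ?_ ?_ (godAug_bijective ρ' (φ ⁻¹ᵁ V) M').2 ?_
    · exact Module.Flat.lTensor_preserves_injective_linearMap (M := T) a₀.hom (godAug_bijective ρ V M).1
    · show (tT A T).map a₀ ≫ (tT A T).map ((godCx ρ V M).d 0 1) = 0
      rw [← Functor.map_comp, show a₀ ≫ (godCx ρ V M).d 0 1 = 0 from
        ModuleCat.hom_ext (LinearMap.ext (godAug_d ρ V M)), Functor.map_zero]
    · exact ModuleCat.hom_ext (LinearMap.ext (godAug_d ρ' (φ ⁻¹ᵁ V) M'))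
    · intro y hy
      exact (Module.Flat.lTensor_exact T hexact y).1 hy
    · refine ModuleCat.hom_ext (TensorProduct.ext' fun t (m : Γ(M, V)) => ?_)
      show secMap φ (godMap φ (η.map t)) (le_rfl : φ ⁻¹ᵁ V ≤ _) ((toGod M).app V m) =
        (toGod M').app (φ ⁻¹ᵁ V) (secMap φ (η.map t) (le_rfl : φ ⁻¹ᵁ V ≤ _) m)
      unfold secMap
      rw [map_app_comm]
      exact congrArg _ (congrArg (fun f => f.app V m) (toGod_godMap φ (η.map t)))

include hM hM' hη in
theorem quasiIso_psi_basic {V : X.Opens} (hV : IsAffineOpen V) :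
    ∀ (t : ℕ) (g : Fin t → Γ(X, V)), QuasiIso (psi ρ hρ η (⨆ i, X.basicOpen (g i))) := by
  intro t
  induction t with
  | zero =>
    intro g
    rw [iSup_of_empty]
    exact quasiIso_psi_affine ρ hρ hM hM' hη (isAffineOpen_bot X)
  | succ t ih =>
    intro g
    rw [show (⨆ i, X.basicOpen (g i)) = X.basicOpen (g 0) ⊔ ⨆ i : Fin t, X.basicOpen (g i.succ) from
      le_antisymm (iSup_le fun i => Fin.cases le_sup_left
        (fun j => le_sup_of_le_right (le_iSup (fun i : Fin t => X.basicOpen (g i.succ)) j)) i)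
        (sup_le (le_iSup (fun i => X.basicOpen (g i)) 0) (iSup_le fun i => le_iSup (fun i => X.basicOpen (g i)) i.succ))]
    refine quasiIso_psi_sup ρ hρ η _ _
      (quasiIso_psi_affine ρ hρ hM hM' hη (hV.basicOpen (g 0))) (ih fun i => g i.succ) ?_
    rw [inf_iSup_eq, show (fun i : Fin t => X.basicOpen (g 0) ⊓ X.basicOpen (g i.succ)) =
      fun i : Fin t => X.basicOpen (g 0 * g i.succ) from funext fun i => (X.basicOpen_mul _ _).symm]
    exact ih _

include hM hM' hη in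
theorem quasiIso_psi_of_le {V W : X.Opens} (hV : IsAffineOpen V) (hW : IsCompact (W : Set X)) (hWV : W ≤ V) :
    QuasiIso (psi ρ hρ η W) := by
  have h : ∀ x : W, ∃ g : Γ(X, V), X.basicOpen g ≤ W ∧ x.1 ∈ X.basicOpen g := fun x =>
    hV.exists_basicOpen_le ⟨x.1, x.2⟩ (hWV x.2)
  choose g hg hxg using h
  obtain ⟨s, hs⟩ := hW.elim_finite_subcover (fun x : W => (X.basicOpen (g x) : Set X))
    (fun x => (X.basicOpen (g x)).2) (fun x hx => Set.mem_iUnion.2 ⟨⟨x, hx⟩, hxg ⟨x, hx⟩⟩)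
  have e : (⨆ i, X.basicOpen (g (s.equivFin.symm i).1)) = W := by
    refine le_antisymm (iSup_le fun i => hg _) fun x hx => ?_
    obtain ⟨y, hy, hxy⟩ := Set.mem_iUnion₂.1 (hs hx)
    exact Opens.mem_iSup.2 ⟨s.equivFin ⟨y, hy⟩, by rw [Equiv.symm_apply_apply]; exact hxy⟩
  rw [← e]
  exact quasiIso_psi_basic ρ hρ hM hM' hη hV _ _

include hM hM' hη in
theorem quasiIso_psi_qc [QuasiSeparatedSpace X] :
    ∀ (t : ℕ) (U : Fin t → X.Opens), (∀ i, IsAffineOpen (U i)) → QuasiIso (psi ρ hρ η (⨆ i, U i)) := by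
  intro t
  induction t with
  | zero =>
    intro U _
    rw [iSup_of_empty]
    exact quasiIso_psi_affine ρ hρ hM hM' hη (isAffineOpen_bot X)
  | succ t ih =>
    intro U hU
    rw [show (⨆ i, U i) = U 0 ⊔ ⨆ i : Fin t, U i.succ from
      le_antisymm (iSup_le fun i => Fin.cases le_sup_left
        (fun j => le_sup_of_le_right (le_iSup (fun i : Fin t => U i.succ) j)) i)
        (sup_le (le_iSup _ _) (iSup_le fun i => le_iSup _ _))]
    refine quasiIso_psi_sup ρ hρ η _ _ (quasiIso_psi_affine ρ hρ hM hM' hη (hU 0))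
      (ih _ fun i => hU i.succ) (quasiIso_psi_of_le ρ hρ hM hM' hη (hU 0) ?_ inf_le_left)
    rw [Opens.coe_inf, Opens.coe_iSup, Set.inter_iUnion]
    exact isCompact_iUnion fun i =>
      QuasiSeparatedSpace.inter_isCompact _ _ (U 0).2 (hU 0).isCompact (U i.succ).2 (hU i.succ).isCompact

include hM hM' hη in
theorem quasiIso_psi_of_isCompact [QuasiSeparatedSpace X] {W : X.Opens} (hW : IsCompact (W : Set X)) :
    QuasiIso (psi ρ hρ η W) := by
  obtain ⟨s, hs, hcov⟩ := isCompact_iff_finite_and_eq_biUnion_affineOpens.mp hW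
  let U : Fin hs.toFinset.card → X.Opens := fun i => (hs.toFinset.equivFin.symm i).1.1
  have hU : (⨆ i, U i) = W := by
    rw [hcov]
    refine le_antisymm (iSup_le fun i => ?_) (iSup₂_le fun V hV => ?_)
    · exact le_iSup₂ (f := fun (V : X.affineOpens) (_ : V ∈ s) => V.1) _
        (hs.mem_toFinset.1 (hs.toFinset.equivFin.symm i).2)
    · refine le_trans ?_ (le_iSup U (hs.toFinset.equivFin ⟨V, hs.mem_toFinset.2 hV⟩))
      simp [U]
  rw [← hU]
  exact quasiIso_psi_qc ρ hρ hM hM' hη _ U fun i => (hs.toFinset.equivFin.symm i).1.2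

/-- The pairing preserves coboundaries. -/
theorem secMap_mem_bd (t : T) : ∀ (k : ℕ) {W : X.Opens} (x : Γ(QCoh.godQ M k, W)), x ∈ bd M k W →
    secMap φ (godQMap φ (η.map t) k) (le_rfl : φ ⁻¹ᵁ W ≤ _) x ∈ bd M' k (φ ⁻¹ᵁ W)
  | 0, W, x, hx => by
    rw [(Submodule.mem_bot _).1 hx]
    refine (Submodule.mem_bot _).2 ?_
    exact (congrArg (rs (QCoh.godQ M' 0) (le_rfl : φ ⁻¹ᵁ W ≤ _)) (map_zero ((godQMap φ (η.map t) 0).app W).hom)).trans
      (rs_zero _)
  | k + 1, W, x, ⟨b, hb⟩ => by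
    rw [← hb]
    refine rs_mem_bd M' (k + 1) le_rfl ⟨(godMap φ (godQMap φ (η.map t) k)).app W b, ?_⟩
    exact (comm_god φ (η.map t) k b).symm

include hM hM' hη in
/-- Cohomology classes of sections over quasi-compact opens are tensor products. -/
theorem exists_bij [QuasiSeparatedSpace X] {W : X.Opens} (hW : IsCompact (W : Set X)) (k : ℕ)
    {H H' : Type u} [AddCommGroup H] [Module A H] [AddCommGroup H'] [Module A H'] :
    letI := secModule ρ (QCoh.godQ M k) W
    letI := secModule ρ' (QCoh.godQ M' k) (φ ⁻¹ᵁ W)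
    ∀ (a : Γ(QCoh.godQ M k, W) →ₗ[A] H) (a' : Γ(QCoh.godQ M' k, φ ⁻¹ᵁ W) →ₗ[A] H'),
      Function.Surjective a → (∀ z, a z = 0 ↔ z ∈ bd M k W) →
      Function.Surjective a' → (∀ z, a' z = 0 ↔ z ∈ bd M' k (φ ⁻¹ᵁ W)) →
      ∃ L : T ⊗[A] H →ₗ[A] H', Function.Bijective L ∧
        ∀ t z, L (t ⊗ₜ a z) = a' (secMap φ (godQMap φ (η.map t) k) (le_rfl : φ ⁻¹ᵁ W ≤ _) z) := by
  letI := secModule ρ (QCoh.godQ M k) W
  letI := secModule ρ' (QCoh.godQ M' k) (φ ⁻¹ᵁ W)
  intro a a' ha hka ha' hka'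
  let P := pairS ρ hρ (η.godQ k) W
  have hs : Function.Surjective (a.lTensor T) := LinearMap.lTensor_surjective T ha
  have hk : LinearMap.ker (a.lTensor T) ≤ LinearMap.ker (a'.comp P) := by
    intro w hw
    obtain ⟨v, rfl⟩ := ((lTensor_exact T (f := (LinearMap.ker a).subtype) (g := a)
      (LinearMap.exact_subtype_ker_map a) ha) w).1 hw
    clear hw
    rw [LinearMap.mem_ker]
    induction v using TensorProduct.induction_on with
    | zero => rw [map_zero, map_zero]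
    | tmul t z =>
      show a' (secMap φ (godQMap φ (η.map t) k) (le_rfl : φ ⁻¹ᵁ W ≤ _) z.1) = 0
      exact (hka' _).2 (secMap_mem_bd t k z.1 ((hka z.1).1 z.2))
    | add v₁ v₂ h₁ h₂ => rw [map_add, map_add, h₁, h₂, add_zero]
  let L : T ⊗[A] H →ₗ[A] H' := (Submodule.liftQ _ (a'.comp P) hk).comp
    ((a.lTensor T).quotKerEquivOfSurjective hs).symm.toLinearMap
  have hL : ∀ w, L (a.lTensor T w) = a' (P w) := fun w => by
    show Submodule.liftQ _ (a'.comp P) hk (((a.lTensor T).quotKerEquivOfSurjective hs).symm (a.lTensor T w)) = _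
    rw [show ((a.lTensor T).quotKerEquivOfSurjective hs).symm (a.lTensor T w) = Submodule.Quotient.mk w from
      (LinearEquiv.symm_apply_eq _).2 rfl]
    rfl
  refine ⟨L, ?_, fun t z => hL (t ⊗ₜ z)⟩
  -- the complexes
  letI := secModule ρ (God (QCoh.godQ M k)) W
  letI := secModule ρ' (God (QCoh.godQ M' k)) (φ ⁻¹ᵁ W)
  let c := appHom ρ (toGod (QCoh.godQ M k)) W
  let c' := appHom ρ' (toGod (QCoh.godQ M' k)) (φ ⁻¹ᵁ W)
  have hqi : QuasiIsoAt (psi ρ hρ η W) k := by
    haveI := quasiIso_psi_of_isCompact ρ hρ hM hM' hη hW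
    infer_instance
  have hc : ∀ w : T ⊗[A] Γ(QCoh.godQ M k, W), (psi ρ hρ η W).f k (c.lTensor T w) = c' (P w) := by
    intro w
    induction w using TensorProduct.induction_on with
    | zero => simp only [map_zero]
    | tmul t z =>
      show secMap φ (godMap φ (godQMap φ (η.map t) k)) (le_rfl : φ ⁻¹ᵁ W ≤ _) ((toGod (QCoh.godQ M k)).app W z) =
        (toGod (QCoh.godQ M' k)).app (φ ⁻¹ᵁ W) (secMap φ (godQMap φ (η.map t) k) (le_rfl : φ ⁻¹ᵁ W ≤ _) z)
      unfold secMap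
      rw [map_app_comm]
      exact congrArg _ (congrArg (fun f => f.app W z) (toGod_godMap φ (godQMap φ (η.map t) k)))
    | add x y hx hy =>
      refine ((congrArg ((psi ρ hρ η W).f k).hom (map_add (c.lTensor T) x y)).trans
        (map_add ((psi ρ hρ η W).f k).hom _ _)).trans ?_
      rw [map_add, map_add]
      exact congrArg₂ (· + ·) hx hy
  letI := secModule ρ (QCoh.godQ M (k + 1)) W
  letI := secModule ρ (God (QCoh.godQ M (k + 1))) W
  have hinj : Function.Injective (c.lTensor T) :=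
    Module.Flat.lTensor_preserves_injective_linearMap c (toGod_app_injective _ W)
  -- cycles come from sections
  have hcyc : ∀ w : T ⊗[A] Γ(God (QCoh.godQ M k), W),
      ((((tT A T).mapHomologicalComplex _).obj (godCx ρ W M)).d k (k + 1) w) = 0 → ∃ v, c.lTensor T v = w := by
    intro w hw
    have e : ((godCx ρ W M).d k (k + 1)).hom =
        (appHom ρ (toGod (QCoh.godQ M (k + 1))) W).comp (appHom ρ (godπ M k) W) :=
      LinearMap.ext fun x => godCx_d_apply ρ W M k x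
    replace hw : ((godCx ρ W M).d k (k + 1)).hom.lTensor T w = 0 := hw
    rw [e, LinearMap.lTensor_comp, LinearMap.comp_apply] at hw
    have h1 := (map_eq_zero_iff _ (Module.Flat.lTensor_preserves_injective_linearMap (M := T)
      (appHom ρ (toGod (QCoh.godQ M (k + 1))) W) (toGod_app_injective _ W))).1 hw
    exact (Module.Flat.lTensor_exact T (f := c) (g := appHom ρ (godπ M k) W) (fun x =>
      ⟨fun hx => exists_of_godπ_app_eq_zero k x hx, by rintro ⟨z, rfl⟩; exact godπ_toGod_app M k z⟩) w).1 h1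
  have hcyc' : ∀ y : Γ(QCoh.godQ M' k, φ ⁻¹ᵁ W), (godCx ρ' (φ ⁻¹ᵁ W) M').d k (k + 1) (c' y) = 0 := fun y => by
    refine (godCx_d_apply ρ' (φ ⁻¹ᵁ W) M' k (c' y)).trans ?_
    show (toGod (QCoh.godQ M' (k + 1))).app (φ ⁻¹ᵁ W) ((godπ M' k).app (φ ⁻¹ᵁ W) ((toGod (QCoh.godQ M' k)).app (φ ⁻¹ᵁ W) y)) = 0
    rw [godπ_toGod_app, map_zero]
  have hcz : ∀ w, (((tT A T).mapHomologicalComplex _).obj (godCx ρ W M)).d k (k + 1) (c.lTensor T w) = 0 := by
    intro w
    show ((godCx ρ W M).d k (k + 1)).hom.lTensor T (c.lTensor T w) = 0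
    induction w using TensorProduct.induction_on with
    | zero => rw [map_zero]; exact map_zero _
    | tmul t x =>
      refine (congrArg (t ⊗ₜ[A] ·) ?_).trans (TensorProduct.tmul_zero _ t)
      refine (godCx_d_apply ρ W M k (c x)).trans ?_
      show (toGod (QCoh.godQ M (k + 1))).app W ((godπ M k).app W ((toGod (QCoh.godQ M k)).app W x)) = 0
      rw [godπ_toGod_app, map_zero]
    | add x y hx hy =>
      refine (congrArg _ (map_add (c.lTensor T) x y)).trans ((map_add _ _ _).trans ?_)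
      exact (congrArg₂ (· + ·) hx hy).trans (add_zero 0)
  -- boundaries
  have key : (∀ y, ∃ w, P w - y ∈ bd M' k (φ ⁻¹ᵁ W)) ∧
      ∀ w, P w ∈ bd M' k (φ ⁻¹ᵁ W) → a.lTensor T w = 0 := by
    cases k with
    | zero =>
      obtain ⟨hS, hI⟩ := quasiIsoAt_elements (psi ρ hρ η W) (i := 0) CochainComplex.prev_nat_zero hqi
      refine ⟨fun y => ?_, fun w hw => ?_⟩
      · obtain ⟨z, hz, x, hx⟩ := hS (c' y) (hcyc' y)
        obtain ⟨w, rfl⟩ := hcyc z hz
        rw [HomologicalComplex.shape _ 0 0 (by simp)] at hx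
        refine ⟨w, (Submodule.mem_bot _).2 (sub_eq_zero.2 (toGod_app_injective _ _ ?_))⟩
        exact (hc w).symm.trans (sub_eq_zero.1 hx.symm)
      · have hPw : P w = 0 := (Submodule.mem_bot _).1 hw
        obtain ⟨x, hx⟩ := hI _ (hcz w) ⟨0, by rw [map_zero, hc, hPw, map_zero]⟩
        rw [HomologicalComplex.shape _ 0 0 (by simp)] at hx
        rw [hinj (hx.symm.trans (map_zero (c.lTensor T)).symm), map_zero]
    | succ n =>
      obtain ⟨hS, hI⟩ := quasiIsoAt_elements (psi ρ hρ η W) (i := n) (CochainComplex.prev_nat_succ n) hqi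
      refine ⟨fun y => ?_, fun w hw => ?_⟩
      · obtain ⟨z, hz, x, hx⟩ := hS (c' y) (hcyc' y)
        obtain ⟨w, rfl⟩ := hcyc z hz
        refine ⟨w, x, toGod_app_injective _ _ ?_⟩
        exact (godCx_d_apply ρ' (φ ⁻¹ᵁ W) M' n x).symm.trans
          (hx.trans ((congrArg (· - c' y) (hc w)).trans (map_sub c' _ _).symm))
      · obtain ⟨b, hb⟩ := hw
        obtain ⟨v, hv⟩ := hI _ (hcz w) ⟨b,
          (godCx_d_apply ρ' (φ ⁻¹ᵁ W) M' n b).trans ((congrArg c' hb).trans (hc w).symm)⟩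
        letI := secModule ρ (God (QCoh.godQ M n)) W
        have e : ((godCx ρ W M).d n (n + 1)).hom = c.comp (appHom ρ (godπ M n) W) :=
          LinearMap.ext fun x => godCx_d_apply ρ W M n x
        replace hv : ((godCx ρ W M).d n (n + 1)).hom.lTensor T v = c.lTensor T w := hv
        rw [e, LinearMap.lTensor_comp, LinearMap.comp_apply] at hv
        rw [← hinj hv, ← LinearMap.lTensor_comp_apply, show a.comp (appHom ρ (godπ M n) W) = 0 from
          LinearMap.ext fun x => (hka _).2 ⟨x, rfl⟩, LinearMap.lTensor_zero, LinearMap.zero_apply]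
  refine ⟨(injective_iff_map_eq_zero L).2 fun q hq => ?_, fun h' => ?_⟩
  · obtain ⟨w, rfl⟩ := hs q
    rw [hL] at hq
    exact key.2 w ((hka' _).1 hq)
  · obtain ⟨y, rfl⟩ := ha' h'
    obtain ⟨w, hw⟩ := key.1 y
    exact ⟨a.lTensor T w, (hL w).trans (sub_eq_zero.1 ((map_sub a' _ _).symm.trans ((hka' _).2 hw)))⟩

end Groth.Agent.Coh32.GodTensor
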