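import Groth.Agent.QCoh.Qcqs
import Mathlib.RingTheory.Filtration
import Mathlib.Algebra.Module.Injective

/-!
# Quasi-coherent modules with injective global sections on affine Noetherian schemes are flasque
-/

universe u

open CategoryTheory CategoryTheory.Limits AlgebraicGeometry TopologicalSpace Opposite
open Groth.Agent.QCoh

namespace Groth.Agent.Coh32

variable {X : Scheme.{u}}

theorem res_top_surjective_of_baer [IsAffine X] [IsNoetherianRing Γ(X, ⊤)] [NoetherianSpace X] {M : X.Modules}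
    (hM : Coh.IsQCoh M) (hB : Module.Baer Γ(X, ⊤) Γ(M, ⊤)) (U : X.Opens) :
    Function.Surjective (M.presheaf.map (homOfLE (le_top : U ≤ ⊤)).op) := by
  classical
  intro s
  let rX := X.presheaf.map (homOfLE (le_top : U ≤ ⊤)).op
  let rM := M.presheaf.map (homOfLE (le_top : U ≤ ⊤)).op
  have rM_smul : ∀ (r : Γ(X, ⊤)) (m : Γ(M, ⊤)), rM (r • m) = rX r • rM m := fun r m => map_smul' _ r m
  -- cover `U` by basic opens
  obtain ⟨T, hTfin, hT⟩ : ∃ T : Set Γ(X, ⊤), T.Finite ∧
      (∀ f ∈ T, X.basicOpen f ≤ U) ∧ ∀ x ∈ U, ∃ f ∈ T, x ∈ X.basicOpen f := by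
    have hc : IsCompact (U : Set X) := NoetherianSpace.isCompact _
    choose f hfle hxf using fun x : U => (isAffineOpen_top X).exists_basicOpen_le x (Set.mem_univ x.1)
    obtain ⟨t, ht⟩ := hc.elim_finite_subcover (fun x : U => (X.basicOpen (f x) : Set X))
      (fun x => (X.basicOpen (f x)).2) fun x hx => Set.mem_iUnion.2 ⟨⟨x, hx⟩, hxf _⟩
    refine ⟨↑(t.image f), Finset.finite_toSet _, ?_, fun x hx => ?_⟩
    · intro g hg
      obtain ⟨y, -, rfl⟩ := Finset.mem_image.1 (Finset.mem_coe.1 hg)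
      exact hfle y
    · obtain ⟨y, hy, hxy⟩ := Set.mem_iUnion₂.1 (ht hx)
      exact ⟨f y, Finset.mem_coe.2 (Finset.mem_image.2 ⟨y, hy, rfl⟩), hxy⟩
  obtain ⟨hTU, hTcov⟩ := hT
  let a : Ideal Γ(X, ⊤) := Ideal.span T
  have haFG : a.FG := IsNoetherian.noetherian a
  -- sections vanishing on `U` are killed by powers of `a`
  have htors : ∀ m : Γ(M, ⊤), rM m = 0 → ∀ f ∈ T, ∃ n : ℕ, f ^ n • m = 0 := fun m hm f hf => by
    refine exists_pow_smul_eq_zero hM (isAffineOpen_top X) f m ?_
    have := congrArg (M.presheaf.map (homOfLE (hTU f hf)).op) hm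
    rw [map_zero, map_map] at this
    exact this
  let J : Ideal Γ(X, ⊤) :=
    { carrier := {r | ∃ m, rM m = rX r • s}
      add_mem' := by
        rintro r r' ⟨m, hm⟩ ⟨m', hm'⟩
        exact ⟨m + m', by rw [map_add, hm, hm', map_add, add_smul]⟩
      zero_mem' := ⟨0, by rw [map_zero, map_zero, zero_smul]⟩
      smul_mem' := by
        rintro c r ⟨m, hm⟩
        exact ⟨c • m, by rw [rM_smul, hm, smul_eq_mul, map_mul, mul_smul]⟩ }
  have hJrad : a ≤ J.radical := Ideal.span_le.2 fun f hf => by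
    obtain ⟨n, t, ht⟩ := exists_pow_smul_eq_map hM (isAffineOpen_top X) f
      (M.presheaf.map (homOfLE (hTU f hf)).op s)
    -- `f ^ n • s - t` vanishes on `D(f)`
    obtain ⟨k, hk⟩ := exists_pow_smul_eq_zero_of_isCompact hM (NoetherianSpace.isCompact (U : Set X))
      (rX f) (rX f ^ n • s - rM t) (by
        have hb : X.basicOpen (rX f) ≤ X.basicOpen f := by
          rw [show X.basicOpen (rX f) = U ⊓ X.basicOpen f from Scheme.basicOpen_res _ _ _]
          exact inf_le_right
        rw [map_sub, map_map, map_smul', map_pow]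
        have h1 := congrArg (M.presheaf.map (homOfLE hb).op) ht
        rw [map_map, map_smul', map_map, map_pow] at h1
        refine sub_eq_zero.2 (Eq.trans ?_ h1.symm)
        congr 1
        congr 1
        rw [← CommRingCat.comp_apply, ← X.presheaf.map_comp, ← CommRingCat.comp_apply,
          ← X.presheaf.map_comp]
        rfl)
    refine ⟨k + n, f ^ k • t, ?_⟩
    rw [smul_sub, sub_eq_zero] at hk
    rw [rM_smul, map_pow, map_pow, pow_add, mul_smul, hk]
  obtain ⟨N₁, hN₁⟩ := Ideal.exists_pow_le_of_le_radical_of_fg hJrad haFG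
  -- a linear map on a free module over generators of `J`
  obtain ⟨S, hS⟩ := IsNoetherian.noetherian J
  have hSJ : ∀ r : S, ∃ m, rM m = rX r.1 • s := fun r =>
    (show r.1 ∈ J from hS ▸ Submodule.subset_span r.2)
  choose m hm using hSJ
  let π : (S → Γ(X, ⊤)) →ₗ[Γ(X, ⊤)] Γ(X, ⊤) := Fintype.linearCombination Γ(X, ⊤) fun r : S => (r.1 : Γ(X, ⊤))
  let g : (S → Γ(X, ⊤)) →ₗ[Γ(X, ⊤)] Γ(M, ⊤) := Fintype.linearCombination Γ(X, ⊤) m
  have hπg : ∀ v, rM (g v) = rX (π v) • s := fun v => by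
    simp only [g, π, Fintype.linearCombination_apply, map_sum, Finset.sum_smul]
    refine Finset.sum_congr rfl fun r _ => ?_
    rw [rM_smul, hm, smul_eq_mul, map_mul, mul_smul]
  have hrange : LinearMap.range π = J := by
    rw [Fintype.range_linearCombination, ← hS]
    simp
  -- relations are killed by a power of `a`
  obtain ⟨k, hk⟩ : ∃ k : ℕ, ∀ c ∈ a ^ k, ∀ v ∈ LinearMap.ker π, c • g v = 0 := by
    let A' : Ideal Γ(X, ⊤) := ((LinearMap.ker π).map g).annihilator
    have hrad : a ≤ A'.radical := Ideal.span_le.2 fun f hf => by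
      obtain ⟨G, hG⟩ := Submodule.FG.map g (IsNoetherian.noetherian (LinearMap.ker π))
      choose n hn using fun x : G => htors x.1 (by
        have hx : x.1 ∈ (LinearMap.ker π).map g := hG ▸ Submodule.subset_span x.2
        obtain ⟨v, hv, hvx⟩ := hx
        rw [← hvx, hπg, show π v = 0 from hv, map_zero, zero_smul]) f hf
      refine ⟨∑ x, n x, ?_⟩
      show f ^ (∑ x, n x) ∈ ((LinearMap.ker π).map g).annihilator
      rw [← hG, Submodule.mem_annihilator_span]
      intro x
      obtain ⟨l, hl⟩ := Nat.exists_eq_add_of_le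
        (Finset.single_le_sum (f := n) (fun _ _ => Nat.zero_le _) (Finset.mem_univ x))
      rw [hl, pow_add, mul_comm, mul_smul, hn x, smul_zero]
    obtain ⟨k, hk⟩ := Ideal.exists_pow_le_of_le_radical_of_fg hrad haFG
    exact ⟨k, fun c hc v hv => (Submodule.mem_annihilator.1 (hk hc)) _ ⟨v, hv, rfl⟩⟩
  -- Artin-Rees
  obtain ⟨c, hc⟩ := Ideal.exists_pow_inf_eq_pow_smul a (LinearMap.ker π)
  let P : Submodule Γ(X, ⊤) (S → Γ(X, ⊤)) := a ^ (k + c) • ⊤
  have hP : ∀ v ∈ P, π v = 0 → g v = 0 := fun v hv h0 => by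
    have hmem : v ∈ a ^ (k + c - c) • (a ^ c • ⊤ ⊓ LinearMap.ker π) :=
      (hc (k + c) (Nat.le_add_left c k)) ▸ (⟨hv, h0⟩ : v ∈ a ^ (k + c) • ⊤ ⊓ LinearMap.ker π)
    rw [Nat.add_sub_cancel] at hmem
    refine Submodule.smul_induction_on hmem (fun r hr w hw => ?_) fun x y hx hy => ?_
    · rw [map_smul]; exact hk r hr w hw.2
    · rw [map_add, hx, hy, add_zero]
  let πP := π.domRestrict P
  let gP : (LinearMap.range πP) →ₗ[Γ(X, ⊤)] Γ(M, ⊤) :=
    ((LinearMap.ker πP).liftQ (g.domRestrict P) fun v hv => hP v.1 v.2 hv).comp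
      πP.quotKerEquivRange.symm.toLinearMap
  obtain ⟨G, hG⟩ := hB (LinearMap.range πP) gP
  refine ⟨G 1, sub_eq_zero.1 (eq_zero_of_locally U _ fun x hx => ?_)⟩
  obtain ⟨f, hf, hxf⟩ := hTcov x hx
  refine ⟨X.basicOpen f, homOfLE (hTU f hf), hxf, ?_⟩
  -- `f ^ (k + c + N₁)` lies in the range
  have hfN : f ^ (k + c + N₁) ∈ LinearMap.range πP := by
    obtain ⟨v, hv⟩ : f ^ N₁ ∈ LinearMap.range π :=
      hrange ▸ hN₁ (Ideal.pow_mem_pow (Ideal.subset_span hf) N₁)
    refine ⟨⟨f ^ (k + c) • v, Submodule.smul_mem_smul (Ideal.pow_mem_pow (Ideal.subset_span hf) _)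
      trivial⟩, ?_⟩
    show π (f ^ (k + c) • v) = _
    rw [map_smul, hv, smul_eq_mul, ← pow_add]
  have key : ∀ r (hr : r ∈ LinearMap.range πP), rM (gP ⟨r, hr⟩) = rX r • s := fun r hr => by
    obtain ⟨v, hv⟩ := hr
    have : gP ⟨r, ⟨v, hv⟩⟩ = g v.1 := by
      have hq : πP.quotKerEquivRange.symm ⟨r, ⟨v, hv⟩⟩ = Submodule.Quotient.mk v := by
        rw [LinearEquiv.symm_apply_eq]
        exact Subtype.ext hv.symm
      show (LinearMap.ker πP).liftQ (g.domRestrict P) (fun v hv => hP v.1 v.2 hv)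
        (πP.quotKerEquivRange.symm ⟨r, ⟨v, hv⟩⟩) = _
      rw [hq]
      rfl
    rw [this, hπg]
    rw [show π v.1 = r from hv]
  have h1 : rM (f ^ (k + c + N₁) • G 1) = rX (f ^ (k + c + N₁)) • s := by
    rw [← key _ hfN, ← hG _ hfN, ← map_smul, smul_eq_mul, mul_one]
  rw [rM_smul] at h1
  have h2 : rX (f ^ (k + c + N₁)) • (rM (G 1) - s) = 0 := by rw [smul_sub, h1, sub_self]
  have h3 := congrArg (M.presheaf.map (homOfLE (hTU f hf)).op) h2
  rw [map_smul', map_zero] at h3
  refine (IsUnit.smul_left_cancel ?_).1 (h3.trans (smul_zero _).symm)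
  rw [← CommRingCat.comp_apply, ← X.presheaf.map_comp, map_pow]
  exact (RingedSpace.isUnit_res_basicOpen X.toRingedSpace f).pow _

theorem res_surjective_of_baer [IsAffine X] [IsNoetherianRing Γ(X, ⊤)] [NoetherianSpace X] {M : X.Modules}
    (hM : Coh.IsQCoh M) (hB : Module.Baer Γ(X, ⊤) Γ(M, ⊤)) {U V : X.Opens} (hUV : U ≤ V) :
    Function.Surjective (M.presheaf.map (homOfLE hUV).op) := fun s => by
  obtain ⟨t, ht⟩ := res_top_surjective_of_baer hM hB U s
  refine ⟨M.presheaf.map (homOfLE (le_top : V ≤ ⊤)).op t, ?_⟩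
  rw [map_map]
  exact ht

theorem baer_of_semilinearEquiv {A B : Type u} [CommRing A] [CommRing B] (σ : B ≃+* A) {P Q : Type u}
    [AddCommGroup P] [Module A P] [AddCommGroup Q] [Module B Q] (e : P ≃+ Q)
    (he : ∀ (b : B) (p : P), e (σ b • p) = b • e p) (h : Module.Baer A P) : Module.Baer B Q := by
  intro J g
  let J' : Ideal A := J.comap σ.symm.toRingHom
  let g' : J' →ₗ[A] P :=
    { toFun := fun a => e.symm (g ⟨σ.symm a.1, a.2⟩)
      map_add' := fun a b => by
        rw [← map_add, ← map_add]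
        exact congrArg e.symm (congrArg g (Subtype.ext (map_add σ.symm _ _)))
      map_smul' := fun r a => by
        apply e.injective
        rw [RingHom.id_apply, AddEquiv.apply_symm_apply]
        conv_rhs => rw [← σ.apply_symm_apply r, he, AddEquiv.apply_symm_apply, ← map_smul]
        exact congrArg g (Subtype.ext (map_mul σ.symm _ _)) }
  obtain ⟨G, hG⟩ := h J' g'
  refine ⟨{ toFun := fun b => e (G (σ b))
            map_add' := fun a b => by rw [map_add, map_add, map_add]
            map_smul' := fun r a => by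
              rw [smul_eq_mul, map_mul, ← smul_eq_mul, map_smul, he]; rfl }, fun b hb => ?_⟩
  show e (G (σ b)) = _
  have hb' : σ b ∈ J' := by
    show σ.symm (σ b) ∈ J
    rwa [σ.symm_apply_apply]
  rw [hG _ hb']
  show e (e.symm (g ⟨σ.symm (σ b), _⟩)) = _
  rw [AddEquiv.apply_symm_apply]
  exact congrArg g (Subtype.ext (σ.symm_apply_apply b))

end Groth.Agent.Coh32

namespace Groth.Agent.Coh32

theorem ringMap_top {R : CommRingCat.{u}} (a : Γ(Spec R, ⊤)) :
    (Spec R).presheaf.map (homOfLE (le_top : (⊤ : (Spec R).Opens) ≤ ⊤)).op a = a := ringMap_id _ _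

theorem baer_tilde_top {R : CommRingCat.{u}} (M : ModuleCat.{u} R) (h : Module.Baer R M) :
    Module.Baer Γ(Spec R, ⊤) Γ(tilde M, ⊤) := by
  let T : ModuleCat.{u} R := (modulesSpecToSheaf.obj (tilde M)).presheaf.obj (op ⊤)
  let f : M →ₗ[R] T := (tilde.toOpen M ⊤).hom
  have hbij : Function.Bijective f := ConcreteCategory.bijective_of_isIso (tilde.toOpen M ⊤)
  refine baer_of_semilinearEquiv (Scheme.ΓSpecIso R).commRingCatIsoToRingEquiv
    (P := M) (Q := Γ(tilde M, ⊤)) (AddEquiv.ofBijective f.toAddMonoidHom hbij) (fun b p => ?_) h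
  refine (f.map_smul _ p).trans ?_
  refine (Scheme.Modules.smul_Spec_def (M := tilde M) _ (f p)).trans ?_
  refine congrArg (fun c : Γ(Spec R, ⊤) => c • (show Γ(tilde M, ⊤) from f p)) ?_
  exact (ringMap_top _).trans (Iso.hom_inv_id_apply (Scheme.ΓSpecIso R) b)

theorem noetherian_top {R : CommRingCat.{u}} [IsNoetherianRing R] : IsNoetherianRing Γ(Spec R, ⊤) :=
  isNoetherianRing_of_ringEquiv R (Scheme.ΓSpecIso R).symm.commRingCatIsoToRingEquiv

theorem tilde_res_surjective_of_injective (A : Type u) [CommRing A] [IsNoetherianRing A]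
    (I : Type u) [AddCommGroup I] [Module A I] [Module.Injective A I]
    {U V : (Spec (CommRingCat.of A)).Opens} (hUV : U ≤ V) :
    Function.Surjective ((tilde (ModuleCat.of A I)).presheaf.map (homOfLE hUV).op) := by
  haveI : IsNoetherianRing (CommRingCat.of A) := ‹IsNoetherianRing A›
  haveI := noetherian_top (R := CommRingCat.of A)
  haveI : NoetherianSpace (Spec (CommRingCat.of A)) := by
    exact (inferInstance : NoetherianSpace (Spec (CommRingCat.of A)))
  have hB : Module.Baer (CommRingCat.of A) (ModuleCat.of A I) :=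
    @Module.Baer.of_injective A _ I _ _ _ ‹_›
  have hq : Coh.IsQCoh (tilde (R := CommRingCat.of A) (ModuleCat.of A I)) := inferInstanceAs ((tilde (R := CommRingCat.of A) (ModuleCat.of A I)).IsQuasicoherent)
  exact res_surjective_of_baer hq (baer_tilde_top (R := CommRingCat.of A) _ hB) hUV

end Groth.Agent.Coh32
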