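import Groth.Agent.Coh32.BaerPieces
import Groth.Agent.Coh32.TildeFlasque
import Groth.Agent.InjLocal.Noeth
import Groth.Agent.QCoh.Devissage

/-!
# Quasi-coherent modules with injective sections on a Noetherian affine scheme are injective

By the Baer criterion for the generators `j_! O_V` one has to extend a map from a subsheaf of `O_V`;
such a subsheaf has finitely many generating sections, and the extension is a solution of the system
of equations they give (`exists_solution`).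
-/

set_option linter.style.haveILetI false
set_option backward.isDefEq.respectTransparency false
set_option backward.isDefEq.respectTransparency.types false
set_option maxHeartbeats 2000000

universe u

open CategoryTheory CategoryTheory.Limits AlgebraicGeometry TopologicalSpace Opposite Groth.Agent
open Groth.Agent.QCoh Groth.Agent.KFlatLib

namespace Groth.Agent.Coh32

variable {X : Scheme.{u}} [IsAffine X] [IsNoetherianRing Γ(X, ⊤)] {M : X.Modules}

/-- Restriction of functions from the whole scheme. -/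
noncomputable abbrev rX (W : X.Opens) : Γ(X, ⊤) →+* Γ(X, W) :=
  (X.presheaf.map (homOfLE (le_top : W ≤ ⊤)).op).hom

/-- Restriction of sections from the whole scheme. -/
noncomputable abbrev rM (M : X.Modules) (W : X.Opens) : Γ(M, ⊤) →+ Γ(M, W) :=
  (M.presheaf.map (homOfLE (le_top : W ≤ ⊤)).op).hom

omit [IsAffine X] [IsNoetherianRing Γ(X, ⊤)] in
theorem rM_smul (W : X.Opens) (r : Γ(X, ⊤)) (m : Γ(M, ⊤)) : rM M W (r • m) = rX W r • rM M W m :=
  QCoh.map_smul' _ r m

omit [IsAffine X] [IsNoetherianRing Γ(X, ⊤)] in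
theorem res_rX {W W' : X.Opens} (h : W' ≤ W) (r : Γ(X, ⊤)) :
    X.presheaf.map (homOfLE h).op (rX W r) = rX W' r := by
  show (X.presheaf.map _ ≫ X.presheaf.map _) r = _
  rw [← X.presheaf.map_comp]
  rfl

omit [IsAffine X] [IsNoetherianRing Γ(X, ⊤)] in
theorem res_rM {W W' : X.Opens} (h : W' ≤ W) (m : Γ(M, ⊤)) :
    M.presheaf.map (homOfLE h).op (rM M W m) = rM M W' m :=
  QCoh.map_map _ _ m

omit [IsAffine X] [IsNoetherianRing Γ(X, ⊤)] in
theorem restrict_smul_eq {V : X.Opens} (W : (V : Scheme.{u}).Opens) (r : Γ((V : Scheme.{u}), W))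
    (m : Γ(M.restrict V.ι, W)) :
    r • m = (show Γ(M.restrict V.ι, W) from
      ((show Γ(X, V.ι ''ᵁ W) from r) • (show Γ(M, V.ι ''ᵁ W) from m) : Γ(M, V.ι ''ᵁ W))) := by
  refine (show r • m = ((V.ι.appIso W).inv r) • (show Γ(M, V.ι ''ᵁ W) from m) from rfl).trans ?_
  rw [Scheme.Opens.ι_appIso]
  rfl

omit [IsAffine X] [IsNoetherianRing Γ(X, ⊤)] in
theorem isUnit_rX {W : X.Opens} {f : Γ(X, ⊤)} (h : W ≤ X.basicOpen f) : IsUnit (rX W f) := by
  have h1 := (RingedSpace.isUnit_res_basicOpen X.toRingedSpace f).map (X.presheaf.map (homOfLE h).op).hom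
  convert h1 using 1
  exact (res_rX h f).symm

/-- Data over one basic open: numerators of a function and of a section. -/
theorem exists_numerators (hM : Coh.IsQCoh M) {W : X.Opens} {f : Γ(X, ⊤)} (h : X.basicOpen f ≤ W)
    (c : Γ(X, W)) (z : Γ(M, W)) :
    ∃ (n : ℕ) (a : Γ(X, ⊤)) (m : Γ(M, ⊤)),
      rX (X.basicOpen f) a = rX (X.basicOpen f) f ^ n * X.presheaf.map (homOfLE h).op c ∧
      rM M (X.basicOpen f) m = rX (X.basicOpen f) f ^ n • M.presheaf.map (homOfLE h).op z := by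
  haveI := (isAffineOpen_top X).isLocalization_basicOpen f
  obtain ⟨⟨a, _, n, rfl⟩, ha⟩ := IsLocalization.surj (Submonoid.powers f)
    (X.presheaf.map (homOfLE h).op c)
  replace ha : X.presheaf.map (homOfLE h).op c * rX _ (f ^ n) = rX _ a := ha
  obtain ⟨l, t, ht⟩ := exists_pow_smul_eq_map hM (isAffineOpen_top X) f
    (rX (X.basicOpen f) f ^ n • M.presheaf.map (homOfLE h).op z)
  refine ⟨l + n, f ^ l * a, t, ?_, ?_⟩
  · rw [map_mul, map_pow, pow_add, ← ha, map_pow, mul_assoc, mul_comm _ (rX _ f ^ n)]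
  · refine ht.trans ?_
    rw [pow_add, mul_smul]

/-- Maps from subsheaves of the structure sheaf of an open into `M` extend. -/
theorem exists_extend_sub (hM : Coh.IsQCoh M) (hB : Module.Baer Γ(X, ⊤) Γ(M, ⊤)) (V : X.Opens)
    [IsNoetherian (V : Scheme.{u})] (G : (V : Scheme.{u}).Modules)
    (ι : G ⟶ Coh.structureModule (V : Scheme.{u})) [Mono ι] (φ : G ⟶ M.restrict V.ι) :
    ∃ e : Coh.structureModule (V : Scheme.{u}) ⟶ M.restrict V.ι, ι ≫ e = φ := by
  classical
  obtain ⟨S, hS⟩ := IdealSub.exists_finset_gen G ι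
  let W : {p // p ∈ S} → X.Opens := fun p => V.ι ''ᵁ p.1.1
  let c : ∀ p, Γ(X, W p) := fun p => ι.app p.1.1 p.1.2
  let z : ∀ p, Γ(M, W p) := fun p => φ.app p.1.1 p.1.2
  have hcov : ∀ p, ∃ T : Finset Γ(X, ⊤), (∀ f ∈ T, X.basicOpen f ≤ W p) ∧
      ∀ x ∈ W p, ∃ f ∈ T, x ∈ X.basicOpen f := by
    intro p
    haveI : NoetherianSpace X := by
      haveI : IsLocallyNoetherian X :=
        isLocallyNoetherian_of_affine_cover (S := fun _ : Unit => ⟨(⊤ : X.Opens), isAffineOpen_top X⟩)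
          (by simp) fun _ => ‹_›
      haveI : IsNoetherian X := {}
      infer_instance
    have hc : IsCompact (W p : Set X) := NoetherianSpace.isCompact _
    choose f hfle hxf using fun x : W p => (isAffineOpen_top X).exists_basicOpen_le x (Set.mem_univ x.1)
    obtain ⟨t, ht⟩ := hc.elim_finite_subcover (fun x : W p => (X.basicOpen (f x) : Set X))
      (fun x => (X.basicOpen (f x)).2) fun x hx => Set.mem_iUnion.2 ⟨⟨x, hx⟩, hxf _⟩
    refine ⟨t.image f, fun g hg => ?_, fun x hx => ?_⟩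
    · obtain ⟨y, -, rfl⟩ := Finset.mem_image.1 hg
      exact hfle y
    · obtain ⟨y, hy, hxy⟩ := Set.mem_iUnion₂.1 (ht hx)
      exact ⟨f y, Finset.mem_image_of_mem f hy, hxy⟩
  choose T hTle hTcov using hcov
  let I := Σ p : {p // p ∈ S}, {f // f ∈ T p}
  let F : I → Γ(X, ⊤) := fun i => i.2.1
  choose n a m ha hm using fun i : I => exists_numerators hM (hTle i.1 i.2.1 i.2.2) (c i.1) (z i.1)
  have hrel : ∀ (ε : Finset I) (b : I → Γ(X, ⊤)), ∑ i ∈ ε, b i * a i = 0 →
      ∃ N : ℕ, (∏ i ∈ ε, F i) ^ N • ∑ i ∈ ε, b i • m i = 0 := by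
    intro ε b hb
    rcases ε.eq_empty_or_nonempty with rfl | ⟨i₀, hi₀⟩
    · exact ⟨0, by simp⟩
    refine exists_pow_smul_eq_zero hM (isAffineOpen_top X) _ _ ?_
    let g := ∏ i ∈ ε, F i
    have hg : ∀ i ∈ ε, X.basicOpen g ≤ X.basicOpen (F i) := fun i hi => by
      obtain ⟨d, hd⟩ := Finset.dvd_prod_of_mem F hi
      show X.basicOpen (∏ i ∈ ε, F i) ≤ _
      rw [hd, Scheme.basicOpen_mul]
      exact inf_le_left
    let O' : (V : Scheme.{u}).Opens := V.ι ⁻¹ᵁ X.basicOpen g
    have hgW : ∀ i ∈ ε, X.basicOpen g ≤ W i.1 := fun i hi => (hg i hi).trans (hTle _ _ i.2.2)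
    have hO' : ∀ i ∈ ε, O' ≤ i.1.1.1 := fun i hi => by
      exact (V.ι.preimage_mono (hgW i hi)).trans (V.ι.preimage_image_eq _).le
    have hO : X.basicOpen g ≤ V.ι ''ᵁ O' := by
      intro x hx
      have hxV : x ∈ V := by
        have h1 : W i₀.1 ≤ V := by
          rintro _ ⟨y, -, rfl⟩
          exact y.2
        exact h1 (hgW i₀ hi₀ hx)
      exact ⟨⟨x, hxV⟩, hx, rfl⟩
    have hOg : V.ι ''ᵁ O' ≤ X.basicOpen g := by
      rintro _ ⟨y, hy, rfl⟩
      exact hy
    let O := V.ι ''ᵁ O'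
    let τ : Γ(G, O') := ∑ i ∈ ε.attach,
      (show Γ((V : Scheme.{u}), O') from rX O (b i.1 * F i.1 ^ n i.1)) •
        G.presheaf.map (homOfLE (hO' i.1 i.2)).op i.1.1.1.2
    have hle : ∀ i ∈ ε, O ≤ W i.1 := fun i hi => hOg.trans (hgW i hi)
    have hιτ : ι.app O' τ = 0 := by
      have h1 : ι.app O' τ = (show Γ(X, O) from ∑ i ∈ ε.attach,
          rX O (b i.1 * F i.1 ^ n i.1) * X.presheaf.map (homOfLE (hle i.1 i.2)).op (c i.1.1)) := by
        erw [map_sum]
        refine Finset.sum_congr rfl fun i _ => ?_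
        erw [Scheme.Modules.Hom.app_smul, QCoh.map_app_comm]
        rfl
      rw [h1]
      have h2 : ∀ i : {i // i ∈ ε}, rX O (b i.1 * F i.1 ^ n i.1) *
          X.presheaf.map (homOfLE (hle i.1 i.2)).op (c i.1.1) = rX O (b i.1 * a i.1) := fun i => by
        have h3 := congrArg (X.presheaf.map (homOfLE (hOg.trans (hg i.1 i.2))).op) (ha i.1)
        rw [map_mul, map_pow, res_rX, res_rX] at h3
        rw [map_mul, map_mul, h3, map_pow, mul_assoc]
        rw [QCoh.ringMap_map]
        rfl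
      rw [Finset.sum_congr rfl fun i _ => h2 i, ← map_sum, Finset.sum_attach ε fun i => b i * a i, hb,
        map_zero]
    have hτ : τ = 0 := QCoh.app_injective ι O' (hιτ.trans (map_zero _).symm)
    have h4 := congrArg (φ.app O') hτ
    rw [map_zero] at h4
    have h5 : φ.app O' τ = (show Γ(M, O) from ∑ i ∈ ε.attach,
        rX O (b i.1 * F i.1 ^ n i.1) • M.presheaf.map (homOfLE (hle i.1 i.2)).op (z i.1.1)) := by
      erw [map_sum]
      refine Finset.sum_congr rfl fun i _ => ?_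
      erw [Scheme.Modules.Hom.app_smul, QCoh.map_app_comm, restrict_smul_eq]
      rfl
    have h6 : rM M O (∑ i ∈ ε, b i • m i) = 0 := by
      refine Eq.trans ?_ (h5.symm.trans h4)
      rw [← Finset.sum_attach, map_sum]
      refine Finset.sum_congr rfl fun i _ => ?_
      have h3 := congrArg (M.presheaf.map (homOfLE (hOg.trans (hg i.1 i.2))).op) (hm i.1)
      rw [res_rM, QCoh.map_smul', map_pow, res_rX, QCoh.map_map] at h3
      rw [rM_smul, h3, map_mul, map_pow, mul_smul]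
      rfl
    have h7 := congrArg (M.presheaf.map (homOfLE hO).op) h6
    rw [map_zero, res_rM] at h7
    exact h7
  obtain ⟨y, hy⟩ := exists_solution hB a F m hrel
  let t : Γ(M.restrict V.ι, ⊤) := rM M (V.ι ''ᵁ ⊤) y
  refine ⟨homOfTop t, sub_eq_zero.1 (InjLocal.eq_zero_of_stalk _ fun x => ?_)⟩
  refine ModuleCat.hom_ext (LinearMap.ext_on (hS x trivial) ?_)
  rintro _ ⟨⟨p, hp, hxp⟩, rfl⟩
  show (DerSch.stalkFunctor _ x).map (ι ≫ homOfTop t - φ) _ = _
  erw [DerSch.stalkFunctor_map_germ]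
  refine (congrArg _ ?_).trans (map_zero _)
  refine QCoh.eq_zero_of_locally _ _ fun q hq => ?_
  obtain ⟨f, hf, hqf⟩ := hTcov ⟨p, hp⟩ (V.ι q) ⟨q, hq, rfl⟩
  let i : I := ⟨⟨p, hp⟩, ⟨f, hf⟩⟩
  let O' : (V : Scheme.{u}).Opens := V.ι ⁻¹ᵁ X.basicOpen f
  have hO' : O' ≤ p.1 := (V.ι.preimage_mono (hTle ⟨p, hp⟩ f hf)).trans (V.ι.preimage_image_eq _).le
  let O := V.ι ''ᵁ O'
  have hOf : O ≤ X.basicOpen f := by
    rintro _ ⟨y, hy, rfl⟩
    exact hy
  refine ⟨O', homOfLE hO', hqf, ?_⟩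
  have hle : O ≤ W ⟨p, hp⟩ := hOf.trans (hTle ⟨p, hp⟩ f hf)
  have h1 : (M.restrict V.ι).presheaf.map (homOfLE hO').op ((ι ≫ homOfTop t - φ).app p.1 p.2) =
      (show Γ(M, O) from X.presheaf.map (homOfLE hle).op (c ⟨p, hp⟩) • rM M O y -
        M.presheaf.map (homOfLE hle).op (z ⟨p, hp⟩)) := by
    erw [← QCoh.map_app_comm]
    show (homOfTop t).app O' (ι.app O' _) - φ.app O' _ = _
    erw [homOfTop_app, QCoh.map_app_comm, QCoh.map_app_comm, restrict_smul_eq]
    congr 1
    refine congrArg (HSMul.hSMul (X.presheaf.map (homOfLE hle).op (c ⟨p, hp⟩))) ?_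
    have key : M.presheaf.map (homOfLE (V.ι.image_mono (le_top : O' ≤ ⊤))).op (rM M (V.ι ''ᵁ ⊤) y) =
        rM M O y := res_rM (M := M) (W := V.ι ''ᵁ ⊤) (W' := O) (V.ι.image_mono (le_top : O' ≤ ⊤)) y
    exact key
  rw [h1]
  obtain ⟨N, hN⟩ := hy i
  have h2 := congrArg (rM M O) hN
  rw [rM_smul, map_sub, rM_smul, map_zero, map_pow] at h2
  have h3 := congrArg (X.presheaf.map (homOfLE hOf).op) (ha i)
  rw [map_mul, map_pow, res_rX, res_rX] at h3
  have h4 := congrArg (M.presheaf.map (homOfLE hOf).op) (hm i)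
  rw [res_rM, QCoh.map_smul', map_pow, res_rX, QCoh.map_map] at h4
  rw [h3, h4, mul_smul, ← smul_sub, ← mul_smul, ← pow_add] at h2
  have h5 := ((isUnit_rX hOf).pow (N + n i)).smul_left_cancel.1 (h2.trans (smul_zero _).symm)
  refine Eq.trans ?_ h5
  rw [QCoh.ringMap_map]
  rfl

/-- **Injectivity on Noetherian affine schemes.** -/
theorem injective_of_baer_top (hM : Coh.IsQCoh M) (hB : Module.Baer Γ(X, ⊤) Γ(M, ⊤)) : Injective M := by
  haveI : IsLocallyNoetherian X :=
    isLocallyNoetherian_of_affine_cover (S := fun _ : Unit => ⟨(⊤ : X.Opens), isAffineOpen_top X⟩)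
      (by simp) fun _ => ‹_›
  refine InjLocal.injective_of_step _ fun B S g hne => ?_
  have hq : cokernel.π S.arrow ≠ 0 := fun h0 => hne (by
    haveI : Epi S.arrow := Preadditive.epi_of_isZero_cokernel _
      ((IsZero.iff_id_eq_zero _).2 (by rw [← cancel_epi (cokernel.π S.arrow), h0]; simp))
    haveI : IsIso S.arrow := isIso_of_mono_of_epi _
    exact Subobject.eq_top_of_isIso_arrow S)
  obtain ⟨V, hV, h, hh⟩ := InjLocal.exists_affine_gen_ne_zero _ hq
  haveI : IsAffine (V : Scheme.{u}) := hV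
  haveI : IsLocallyNoetherian (V : Scheme.{u}) := isLocallyNoetherian_of_isOpenImmersion V.ι
  haveI : IsNoetherian (V : Scheme.{u}) := {}
  let R := Scheme.Modules.restrictFunctor V.ι
  let L := (lsh V.ι).obj (Coh.structureModule (V : Scheme.{u}))
  let adj := lshAdj V.ι
  haveI hu : IsIso (adj.unit.app (Coh.structureModule (V : Scheme.{u}))) := inferInstance
  let k := pullback.snd S.arrow h
  let v := adj.unit.app (Coh.structureModule (V : Scheme.{u}))
  haveI : Mono (R.map k) := inferInstance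
  obtain ⟨e₀, he₀⟩ := exists_extend_sub hM hB V (R.obj (pullback S.arrow h)) (R.map k ≫ inv v)
    (R.map (pullback.fst S.arrow h ≫ g))
  let e : L ⟶ M := (adj.homEquiv _ _).symm e₀
  have he : R.map e = inv v ≫ e₀ := by
    rw [IsIso.eq_inv_comp]
    exact (adj.homEquiv_unit _ _ _).symm.trans ((adj.homEquiv _ _).apply_symm_apply e₀)
  refine InjLocal.exists_step S g h e (sub_eq_zero.1 (InjLocal.eq_zero_of_stalk _ fun x => ?_))
    fun ⟨l, hl⟩ => hh (by rw [← hl, Category.assoc, cokernel.condition, comp_zero])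
  by_cases hx : x ∈ V
  · refine InjLocal.stalk_zero_of_restrict V _ ?_ x hx
    show R.map _ = 0
    rw [Functor.map_sub, Functor.map_comp _ k e, he, ← Category.assoc, he₀, sub_self]
  · haveI : Mono ((DerSch.stalkFunctor X x).map k) := inferInstance
    refine IsZero.eq_of_src ?_ _ _
    exact IsZero.of_mono ((DerSch.stalkFunctor X x).map k)
      (isZero_stalk_lsh V.ι x (by simpa using hx) _)

end Groth.Agent.Coh32
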