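import Groth.Agent.Coh32.GodFunct
import Groth.Agent.QCoh.RpushCoh

/-!
# Maps defined on an open subscheme, and the Godement cokernels
-/

noncomputable section

set_option linter.style.haveILetI false
set_option backward.isDefEq.respectTransparency false
set_option backward.isDefEq.respectTransparency.types false

universe u

open CategoryTheory CategoryTheory.Limits AlgebraicGeometry TopologicalSpace Opposite

namespace Groth.Agent.Coh32.LocHom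

open Groth.Agent Groth.Agent.QCoh Groth.Agent.Coh32.GodFunct

/-- Semilinear maps of sections over the opens contained in a given open. -/
structure LocData {X X' : Scheme.{u}} (g' : X' ⟶ X) (M : X.Modules) (N : X'.Modules) (V : X.Opens)
    (V' : X'.Opens) where
  map : ∀ O : X.Opens, O ≤ V → (Γ(M, O) →+ Γ(N, g' ⁻¹ᵁ O ⊓ V'))
  nat : ∀ {O O₁ : X.Opens} (i : O₁ ≤ O) (hO : O ≤ V) (x : Γ(M, O)),
    map O₁ (i.trans hO) (rs M i x) = rs N (inf_le_inf_right V' (g'.preimage_mono i)) (map O hO x)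
  smul : ∀ (O : X.Opens) (hO : O ≤ V) (r : Γ(X, O)) (x : Γ(M, O)),
    map O hO (r • x) = g'.appLE O (g' ⁻¹ᵁ O ⊓ V') inf_le_left r • map O hO x

variable {X X' : Scheme.{u}} {g' : X' ⟶ X} {M : X.Modules} {N : X'.Modules} {V : X.Opens} {V' : X'.Opens}
  (ℓ : LocData g' M N V V') (h : V' ≤ g' ⁻¹ᵁ V)

theorem image_preimage_resLE_le (O' : V.toScheme.Opens) :
    V'.ι ''ᵁ ((g'.resLE V V' h) ⁻¹ᵁ O') ≤ g' ⁻¹ᵁ (V.ι ''ᵁ O') ⊓ V' :=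
  le_inf ((Scheme.Hom.le_resLE_preimage_iff g' h O' _).mp le_rfl) (V'.ι_image_le _)

theorem restrict_smul_ι {Y : Scheme.{u}} {P : Y.Modules} {O : Y.Opens} {W : O.toScheme.Opens}
    (r : Γ(O.toScheme, W)) (x : Γ(P.restrict O.ι, W)) :
    (show Γ(P, O.ι ''ᵁ W) from r • x) = (show Γ(Y, O.ι ''ᵁ W) from r) • (show Γ(P, O.ι ''ᵁ W) from x) := by
  have h : (show Γ(P, O.ι ''ᵁ W) from r • x) = (O.ι.appIso W).inv r • (show Γ(P, O.ι ''ᵁ W) from x) := rfl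
  rw [h, Scheme.Opens.ι_appIso]
  rfl

/-- The map on sections. -/
def homFun (O' : V.toScheme.Opens) :
    Γ(M.restrict V.ι, O') →+ Γ(N.restrict V'.ι, (g'.resLE V V' h) ⁻¹ᵁ O') :=
  AddMonoidHom.mk' (fun x => rs N (image_preimage_resLE_le h O')
    (ℓ.map (V.ι ''ᵁ O') (V.ι_image_le O') (show Γ(M, V.ι ''ᵁ O') from x))) fun x y => by
      rw [map_add]
      exact rs_add _ _ _

theorem homFun_smul (O' : V.toScheme.Opens) (r : Γ(V.toScheme, O')) (x : Γ(M.restrict V.ι, O')) :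
    homFun ℓ h O' (r • x) = (g'.resLE V V' h).app O' r • homFun ℓ h O' x := by
  show rs N (image_preimage_resLE_le h O') (ℓ.map (V.ι ''ᵁ O') (V.ι_image_le O')
    (show Γ(M, V.ι ''ᵁ O') from r • x)) = _
  rw [restrict_smul_ι, ℓ.smul, rs_smul]
  refine Eq.trans ?_ (restrict_smul_ι (P := N) ((g'.resLE V V' h).app O' r) (homFun ℓ h O' x)).symm
  refine congrArg (fun c => c • (show Γ(N, V'.ι ''ᵁ ((g'.resLE V V' h) ⁻¹ᵁ O')) from homFun ℓ h O' x)) ?_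
  rw [Scheme.Hom.app_eq_appLE, Scheme.Hom.resLE_appLE]
  exact congr($(g'.appLE_map (inf_le_left : g' ⁻¹ᵁ (V.ι ''ᵁ O') ⊓ V' ≤ _)
    (homOfLE (image_preimage_resLE_le h O')).op) r)

/-- The morphism of modules on the open subschemes. -/
def hom : M.restrict V.ι ⟶ (Scheme.Modules.pushforward (g'.resLE V V' h)).obj (N.restrict V'.ι) :=
  ⟨PresheafOfModules.homMk
    { app := fun O' => AddCommGrpCat.ofHom (homFun ℓ h O'.unop)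
      naturality := fun O₁ O₂ i => AddCommGrpCat.ext fun x => by
        have hle : (g'.resLE V V' h) ⁻¹ᵁ O₂.unop ≤ (g'.resLE V V' h) ⁻¹ᵁ O₁.unop :=
          (g'.resLE V V' h).preimage_mono i.unop.le
        refine ((congrArg (rs N (image_preimage_resLE_le h O₂.unop))
          (ℓ.nat (V.ι.image_mono i.unop.le) (V.ι_image_le O₁.unop) (show Γ(M, V.ι ''ᵁ O₁.unop) from x))).trans
          (rs_rs _ _ _)).trans ?_
        exact (rs_rs (G := N) (image_preimage_resLE_le h O₁.unop) (V'.ι.image_mono hle) _).symm }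
    fun O' r x => homFun_smul ℓ h O'.unop r x⟩

theorem hom_app (O' : V.toScheme.Opens) (x : Γ(M.restrict V.ι, O')) :
    (show Γ(N, V'.ι ''ᵁ ((g'.resLE V V' h) ⁻¹ᵁ O')) from (hom ℓ h).app O' x) =
      rs N (image_preimage_resLE_le h O') (ℓ.map _ (V.ι_image_le O') (show Γ(M, V.ι ''ᵁ O') from x)) := rfl

/-- The restriction of a module from an open to a smaller one. -/
def resData (M : X.Modules) (V V₁ : X.Opens) : LocData (𝟙 X) M M V V₁ where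
  map O _ := AddMonoidHom.mk' (fun x => rs M (inf_le_left : (𝟙 X : X ⟶ X) ⁻¹ᵁ O ⊓ V₁ ≤ O) x)
    fun x y => rs_add _ _ _
  nat i _ x := by
    show rs M _ (rs M i x) = rs M _ (rs M _ x)
    rw [rs_rs, rs_rs]
  smul O _ r x := by
    show rs M _ (r • x) = _ • rs M _ x
    rw [rs_smul]
    refine congrArg (fun c => c • rs M (inf_le_left : (𝟙 X : X ⟶ X) ⁻¹ᵁ O ⊓ V₁ ≤ O) x) ?_
    simp [Scheme.Hom.appLE, rf]

section transfer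

variable {X₁ X₂ : Scheme.{u}} {φ : X₂ ⟶ X₁} {ψ : X₁ ⟶ X} {χ : X₂ ⟶ X} {M₁ : X₁.Modules} {M₂ : X₂.Modules}
  {ηψ : M ⟶ (Scheme.Modules.pushforward ψ).obj M₁} {ηφ : M₁ ⟶ (Scheme.Modules.pushforward φ).obj M₂}
  {ηχ : M ⟶ (Scheme.Modules.pushforward χ).obj M₂}

/-- Composition of the maps induced on Godement cokernels, on sections. -/
theorem secMap_godQMap_comp (e : φ ≫ ψ = χ)
    (hc : ∀ (O : X.Opens) (x : Γ(M, O)) (h₃ : φ ⁻¹ᵁ (ψ ⁻¹ᵁ O) ≤ χ ⁻¹ᵁ O),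
      secMap χ ηχ h₃ x = secMap φ ηφ le_rfl (secMap ψ ηψ (le_rfl : ψ ⁻¹ᵁ O ≤ _) x))
    (k : ℕ) {O : X.Opens} {O₁ : X₁.Opens} {O₂ : X₂.Opens} (h₁ : O₁ ≤ ψ ⁻¹ᵁ O) (h₂ : O₂ ≤ φ ⁻¹ᵁ O₁)
    (h₃ : O₂ ≤ χ ⁻¹ᵁ O) (x : Γ(godQ M k, O)) :
    secMap φ (godQMap φ ηφ k) h₂ (secMap ψ (godQMap ψ ηψ k) h₁ x) = secMap χ (godQMap χ ηχ k) h₃ x := by
  subst e
  have hcomp : IsComp ηψ ηφ ηχ := fun U y => by
    have := hc U y le_rfl
    unfold secMap at this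
    refine (rs_self (G := M₂) le_rfl _).symm.trans (this.trans ?_)
    exact (rs_self (G := M₂) le_rfl _).trans (congrArg (ηφ.app (ψ ⁻¹ᵁ U)) (rs_self (G := M₁) le_rfl _))
  have hk : (show Γ(godQ M₂ k, φ ⁻¹ᵁ (ψ ⁻¹ᵁ O)) from (godQMap (φ ≫ ψ) ηχ k).app O x) =
      (godQMap φ ηφ k).app (ψ ⁻¹ᵁ O) ((godQMap ψ ηψ k).app O x) := isComp_godQMap hcomp k O x
  show rs (godQ M₂ k) h₂ ((godQMap φ ηφ k).app O₁ (rs (godQ M₁ k) h₁ ((godQMap ψ ηψ k).app O x))) =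
    rs (godQ M₂ k) h₃ ((godQMap (φ ≫ ψ) ηχ k).app O x)
  refine (congrArg (rs (godQ M₂ k) h₂) (app_rs (godQMap φ ηφ k) h₁ _)).trans ?_
  refine (rs_rs (G := godQ M₂ k) (φ.preimage_mono h₁) h₂ _).trans ?_
  exact congrArg (rs (godQ M₂ k) h₃) hk.symm

end transfer

theorem secMap_le_rfl {Y Y' : Scheme.{u}} (φ : Y' ⟶ Y) {M : Y.Modules} {M' : Y'.Modules}
    (η : M ⟶ (Scheme.Modules.pushforward φ).obj M') (O : Y.Opens) (x : Γ(M, O)) :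
    secMap φ η (le_rfl : φ ⁻¹ᵁ O ≤ _) x = η.app O x :=
  rs_self le_rfl _

section homComp

variable {X'' : Scheme.{u}} {g₂ : X'' ⟶ X'} {g₃ : X'' ⟶ X} {V'' : X''.Opens} {P : X''.Modules}
  {ℓ₂ : LocData g₂ N P V' V''} {ℓ₃ : LocData g₃ M P V V''}

include ℓ h in
/-- Composition of the maps attached to semilinear maps, on sections. -/
theorem secMap_hom_comp (h₂ : V'' ≤ g₂ ⁻¹ᵁ V') (h₃ : V'' ≤ g₃ ⁻¹ᵁ V)
    (e : g₂ ≫ g' = g₃)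
    (hm : ∀ (O : X.Opens) (hO : O ≤ V) (x : Γ(M, O))
      (q : g₂ ⁻¹ᵁ (g' ⁻¹ᵁ O ⊓ V') ⊓ V'' ≤ g₃ ⁻¹ᵁ O ⊓ V''),
      rs P q (ℓ₃.map O hO x) = ℓ₂.map (g' ⁻¹ᵁ O ⊓ V') inf_le_right (ℓ.map O hO x))
    (k : ℕ) {O : V.toScheme.Opens} {O₁ : V'.toScheme.Opens} {O₂ : V''.toScheme.Opens}
    (k₁ : O₁ ≤ (g'.resLE V V' h) ⁻¹ᵁ O) (k₂ : O₂ ≤ (g₂.resLE V' V'' h₂) ⁻¹ᵁ O₁)
    (k₃ : O₂ ≤ (g₃.resLE V V'' h₃) ⁻¹ᵁ O) (x : Γ(godQ (M.restrict V.ι) k, O)) :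
    secMap (g₂.resLE V' V'' h₂) (godQMap _ (hom ℓ₂ h₂) k) k₂
        (secMap (g'.resLE V V' h) (godQMap _ (hom ℓ h) k) k₁ x) =
      secMap (g₃.resLE V V'' h₃) (godQMap _ (hom ℓ₃ h₃) k) k₃ x := by
  refine secMap_godQMap_comp (by subst e; rw [← cancel_mono V.ι]; simp) (fun Q y q₃ => ?_) k _ _ k₃ x
  let O' : X.Opens := V.ι ''ᵁ Q
  have hO' : O' ≤ V := V.ι_image_le Q
  let y' : Γ(M, O') := y
  let T := (g₂.resLE V' V'' h₂) ⁻¹ᵁ ((g'.resLE V V' h) ⁻¹ᵁ Q)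
  have q : g₂ ⁻¹ᵁ (g' ⁻¹ᵁ O' ⊓ V') ⊓ V'' ≤ g₃ ⁻¹ᵁ O' ⊓ V'' := by
    subst e
    exact inf_le_inf_right _ (g₂.preimage_mono inf_le_left)
  have j₁ : V'.ι ''ᵁ ((g'.resLE V V' h) ⁻¹ᵁ Q) ≤ g' ⁻¹ᵁ O' ⊓ V' := image_preimage_resLE_le h Q
  have j₂ : V''.ι ''ᵁ T ≤ g₂ ⁻¹ᵁ (V'.ι ''ᵁ ((g'.resLE V V' h) ⁻¹ᵁ Q)) ⊓ V'' := image_preimage_resLE_le h₂ _
  have j₃ : V''.ι ''ᵁ T ≤ g₂ ⁻¹ᵁ (g' ⁻¹ᵁ O' ⊓ V') ⊓ V'' :=
    j₂.trans (inf_le_inf_right _ (g₂.preimage_mono j₁))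
  have hl : (show Γ(P, V''.ι ''ᵁ T) from secMap (g₃.resLE V V'' h₃) (hom ℓ₃ h₃) q₃ y) =
      rs P (j₃.trans q) (ℓ₃.map O' hO' y') :=
    rs_rs (G := P) (image_preimage_resLE_le h₃ Q) (V''.ι.image_mono q₃) (ℓ₃.map O' hO' y')
  have hr : (show Γ(P, V''.ι ''ᵁ T) from (hom ℓ₂ h₂).app ((g'.resLE V V' h) ⁻¹ᵁ Q) ((hom ℓ h).app Q y)) =
      rs P j₂ (ℓ₂.map _ (V'.ι_image_le _) (rs N j₁ (ℓ.map O' hO' y'))) := rfl
  rw [secMap_le_rfl, secMap_le_rfl]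
  refine hl.trans (Eq.trans ?_ hr.symm)
  rw [ℓ₂.nat j₁ inf_le_right, rs_rs, ← hm O' hO' y' q, rs_rs]

end homComp

end Groth.Agent.Coh32.LocHom
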