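import Groth.Agent.KFlatLib.Scheme.ExtZero
import Groth.Agent.QCoh.Sections
import Groth.Agent.QCoh.Localize

/-!
# Sections as morphisms from extensions by zero of the structure sheaf
-/

universe u

open CategoryTheory CategoryTheory.Limits AlgebraicGeometry TopologicalSpace Opposite MonoidalCategory
open Groth.Agent.KFlatLib

namespace Groth.Agent.Coh32

variable {X : Scheme.{u}}

/-- `j_! O_U`. -/
noncomputable def lshOne (U : X.Opens) : X.Modules := (lsh U.ι).obj (Coh.structureModule U.toScheme)

theorem image_top_ι (U : X.Opens) : U.ι ''ᵁ ⊤ = U := by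
  rw [Scheme.Hom.image_top_eq_opensRange, Scheme.Opens.opensRange_ι]

/-- Sections over the top of `U` as sections over `U`. -/
theorem bijective_res_top (U : X.Opens) (M : X.Modules) :
    Function.Bijective (M.presheaf.map (homOfLE (image_top_ι U).ge).op) := by
  haveI : IsIso (homOfLE (image_top_ι U).ge).op := by
    refine ⟨(homOfLE (image_top_ι U).le).op, ?_, ?_⟩ <;> exact Subsingleton.elim _ _
  exact ConcreteCategory.bijective_of_isIso _

/-- The tautological section of `j_! O_U` over `U`. -/
noncomputable def lshSec (U : X.Opens) : Γ(lshOne U, U) :=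
  (lshOne U).presheaf.map (homOfLE (image_top_ι U).ge).op
    (((lshAdj U.ι).unit.app (Coh.structureModule U.toScheme)).app ⊤ (show Γ(Coh.structureModule U.toScheme, ⊤) from (1 : Γ(U.toScheme, ⊤))))

theorem bijective_app_top_one {Y : Scheme.{u}} (N : Y.Modules) :
    Function.Bijective (fun φ : Coh.structureModule Y ⟶ N =>
      φ.app ⊤ (show Γ(Coh.structureModule Y, ⊤) from (1 : Γ(Y, ⊤)))) := by
  have h : ∀ φ : Coh.structureModule Y ⟶ N, φ.app ⊤ (show Γ(Coh.structureModule Y, ⊤) from (1 : Γ(Y, ⊤))) =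
      (N.unitHomEquiv φ).val (op ⊤) := fun φ => rfl
  have hres : Function.Bijective (fun s : N.sections => s.val (op ⊤)) := by
    refine ⟨fun a b hab => Subtype.ext (funext fun V => ?_), fun x => ?_⟩
    · rw [← a.property (homOfLE (le_top : V.unop ≤ ⊤)).op, ← b.property (homOfLE (le_top : V.unop ≤ ⊤)).op]
      exact congrArg _ hab
    · refine ⟨⟨fun V => N.val.map (homOfLE (le_top : V.unop ≤ ⊤)).op x, fun {V W} i => ?_⟩, ?_⟩
      · exact (QCoh.map_map (M := N) i.unop (homOfLE le_top) x).trans rfl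
      · exact QCoh.map_id' _ _
  exact hres.comp N.unitHomEquiv.bijective

/-- Morphisms out of `j_! O_U` are sections over `U`. -/
theorem bijective_app_lshSec (U : X.Opens) (M : X.Modules) :
    Function.Bijective (fun φ : lshOne U ⟶ M => φ.app U (lshSec U)) := by
  have h : (fun φ : lshOne U ⟶ M => φ.app U (lshSec U)) =
      (fun y : Γ(M, U.ι ''ᵁ ⊤) => M.presheaf.map (homOfLE (image_top_ι U).ge).op y) ∘
      (fun ψ : Coh.structureModule U.toScheme ⟶ M.restrict U.ι =>
        ψ.app ⊤ (show Γ(Coh.structureModule U.toScheme, ⊤) from (1 : Γ(U.toScheme, ⊤)))) ∘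
      ((lshAdj U.ι).homEquiv (Coh.structureModule U.toScheme) M) := by
    funext φ
    refine (QCoh.map_app_comm φ _ _).trans ?_
    exact congrArg (fun q : Coh.structureModule U.toScheme ⟶ M.restrict U.ι =>
      M.presheaf.map (homOfLE (image_top_ι U).ge).op
        (q.app ⊤ (show Γ(Coh.structureModule U.toScheme, ⊤) from (1 : Γ(U.toScheme, ⊤)))))
      (((lshAdj U.ι).homEquiv_unit _ _ φ).symm)
  rw [h]
  exact (bijective_res_top U M).comp ((bijective_app_top_one _).comp
    ((lshAdj U.ι).homEquiv _ M).bijective)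

/-- The map `j_{U!} O_U ⟶ j_{V!} O_V` for `U ≤ V`. -/
noncomputable def lshOneMap {U V : X.Opens} (h : U ≤ V) : lshOne U ⟶ lshOne V :=
  ((bijective_app_lshSec U (lshOne V)).2 ((lshOne V).presheaf.map (homOfLE h).op (lshSec V))).choose

theorem lshOneMap_comp_app {U V : X.Opens} (h : U ≤ V) {M : X.Modules} (φ : lshOne V ⟶ M) :
    (lshOneMap h ≫ φ).app U (lshSec U) = M.presheaf.map (homOfLE h).op (φ.app V (lshSec V)) := by
  refine (congrArg (φ.app U) ((bijective_app_lshSec U (lshOne V)).2
    ((lshOne V).presheaf.map (homOfLE h).op (lshSec V))).choose_spec).trans ?_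
  exact QCoh.map_app_comm φ _ _

theorem bijective_push_res {U V : X.Opens} (h : U ≤ V) (N : U.toScheme.Modules) :
    Function.Bijective (((Scheme.Modules.pushforward U.ι).obj N).presheaf.map (homOfLE h).op) := by
  have he : U.ι ⁻¹ᵁ U = U.ι ⁻¹ᵁ V :=
    le_antisymm ((Opens.map U.ι.base).map (homOfLE h)).le fun x _ => x.2
  show Function.Bijective (N.presheaf.map ((Opens.map U.ι.base).map (homOfLE h)).op)
  haveI : IsIso ((Opens.map U.ι.base).map (homOfLE h)).op := by
    refine ⟨(homOfLE he.ge).op, ?_, ?_⟩ <;> exact Subsingleton.elim _ _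
  exact ConcreteCategory.bijective_of_isIso _

theorem isIso_restrict_lshOneMap {U V : X.Opens} (h : U ≤ V) :
    IsIso ((Scheme.Modules.restrictFunctor U.ι).map (lshOneMap h)) := by
  let adj := Scheme.Modules.restrictAdjunction U.ι
  have key : ∀ N : U.toScheme.Modules, Function.Bijective
      (fun ψ : (Scheme.Modules.restrictFunctor U.ι).obj (lshOne V) ⟶ N =>
        (Scheme.Modules.restrictFunctor U.ι).map (lshOneMap h) ≫ ψ) := fun N => by
    let P := (Scheme.Modules.pushforward U.ι).obj N
    have hb : Function.Bijective (fun φ : lshOne V ⟶ P => lshOneMap h ≫ φ) := by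
      rw [← Function.Bijective.of_comp_iff' (bijective_app_lshSec U P)]
      rw [show ((fun φ : lshOne U ⟶ P => φ.app U (lshSec U)) ∘ fun φ : lshOne V ⟶ P => lshOneMap h ≫ φ) =
        (fun y : Γ(P, V) => P.presheaf.map (homOfLE h).op y) ∘ fun φ : lshOne V ⟶ P => φ.app V (lshSec V) from
        funext fun φ => lshOneMap_comp_app h φ]
      exact (bijective_push_res h N).comp (bijective_app_lshSec V P)
    rw [show (fun ψ : (Scheme.Modules.restrictFunctor U.ι).obj (lshOne V) ⟶ N =>
        (Scheme.Modules.restrictFunctor U.ι).map (lshOneMap h) ≫ ψ) =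
      (adj.homEquiv _ N).symm ∘ (fun φ => lshOneMap h ≫ φ) ∘ (adj.homEquiv _ N) from
      funext fun ψ => ((Equiv.eq_symm_apply _).2 (adj.homEquiv_naturality_left _ _))]
    exact (adj.homEquiv _ N).symm.bijective.comp (hb.comp (adj.homEquiv _ N).bijective)
  obtain ⟨g, hg⟩ := (key _).2 (𝟙 _)
  exact ⟨g, hg, (key _).1 (by
    show _ ≫ g ≫ _ = _ ≫ 𝟙 _
    rw [← Category.assoc, show _ ≫ g = 𝟙 _ from hg, Category.id_comp, Category.comp_id])⟩

theorem mono_of_stalk_injective {M N : X.Modules} (f : M ⟶ N)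
    (h : ∀ x : X, Function.Injective ((DerSch.stalkFunctor X x).map f)) : Mono f := by
  refine (ShortComplex.exact_iff_mono (ShortComplex.mk (0 : M ⟶ M) f zero_comp) rfl).1 ?_
  refine (exact_iff_stalk _).2 fun x => ((ShortComplex.mk (0 : M ⟶ M) f zero_comp).map
    (DerSch.stalkFunctor X x)).exact_iff_mono ((DerSch.stalkFunctor X x).map_zero _ _) |>.2 ?_
  exact (ModuleCat.mono_iff_injective _).2 (h x)

theorem mono_tensor_lshOneMap (F : X.Modules) {U V : X.Opens} (h : U ≤ V) :
    Mono ((DCoh.tensorBi.obj F).map (lshOneMap h)) := by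
  refine mono_of_stalk_injective _ fun x => ?_
  by_cases hx : x ∈ Set.range U.ι.base
  · obtain ⟨u, rfl⟩ := hx
    refine injective_stalk_of_restrict U.ι _ u ?_
    haveI := isIso_restrict_lshOneMap h
    haveI : IsIso ((Scheme.Modules.restrictFunctor U.ι).map ((DCoh.tensorBi.obj F).map (lshOneMap h))) :=
      (NatIso.isIso_map_iff ((restrictTensorBiIso U.ι).app F) (lshOneMap h)).2
        (inferInstanceAs (IsIso ((DCoh.tensorBi.obj ((Scheme.Modules.restrictFunctor U.ι).obj F)).map
          ((Scheme.Modules.restrictFunctor U.ι).map (lshOneMap h)))))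
    exact (ConcreteCategory.bijective_of_isIso
      ((DerSch.stalkFunctor U.toScheme u).map ((Scheme.Modules.restrictFunctor U.ι).map
        ((DCoh.tensorBi.obj F).map (lshOneMap h))))).1
  · have hz : IsZero ((DerSch.stalkFunctor X x).obj ((DCoh.tensorBi.obj F).obj (lshOne U))) :=
      IsZero.of_iso ((tensorLeft _).map_isZero (isZero_stalk_lsh U.ι x hx _))
        (stalkTensorIso x F (lshOne U)).symm
    intro a b _
    exact (ModuleCat.isZero_iff_subsingleton.1 hz).elim a b

theorem sheafHom_restriction_surjective (F I : X.Modules) [DCoh.HasSheafHom F] [Injective I]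
    {U V : X.Opens} (hUV : U ≤ V) :
    Function.Surjective (((DCoh.sheafHom F).obj I).presheaf.map (homOfLE hUV).op) := by
  intro s
  let H := (DCoh.sheafHom F).obj I
  obtain ⟨φ, hφ⟩ := (bijective_app_lshSec U H).2 s
  let adj := DCoh.sheafHomAdj F
  haveI := mono_tensor_lshOneMap F hUV
  let ψ := Injective.factorThru ((adj.homEquiv (lshOne U) I).symm φ)
    ((DCoh.tensorBi.obj F).map (lshOneMap hUV))
  refine ⟨(adj.homEquiv (lshOne V) I ψ).app V (lshSec V), ?_⟩
  rw [← lshOneMap_comp_app, ← hφ]
  refine congrArg (fun q : lshOne U ⟶ H => q.app U (lshSec U)) ?_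
  rw [← adj.homEquiv_naturality_left, Injective.comp_factorThru]
  exact Equiv.apply_symm_apply _ _

end Groth.Agent.Coh32
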