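import Groth.Agent.S10865
import Groth.Agent.QCoh.Support
import Groth.Agent.QCoh.Serre
import Groth.Agent.QCoh.RpushGod

/-!
# Coherence of direct images by dévissage
-/

universe u

open CategoryTheory CategoryTheory.Limits AlgebraicGeometry TopologicalSpace Opposite
open Groth.Agent.QCoh

namespace Groth.Agent.Coh32

variable {X Y : Scheme.{u}}

theorem isCoh_extension [IsLocallyNoetherian Y] {A B C : Y.Modules} (a : A ⟶ B) (b : B ⟶ C) [Mono a]
    (hab : a ≫ b = 0) (hex : (ShortComplex.mk a b hab).Exact) (hA : Coh.IsCoh A) (hC : Coh.IsCoh C)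
    (hB : Coh.IsQCoh B) : Coh.IsCoh B := by
  let j : cokernel a ⟶ C := cokernel.desc a b hab
  haveI : Mono j := hex.mono_cokernelDesc
  have hQ : Coh.IsCoh (cokernel a) := isCoh_of_mono j hC (isQCoh_cokernel hA.1 hB a)
  let S : ShortComplex Y.Modules := ShortComplex.mk a (cokernel.π a) (cokernel.condition a)
  have hS : S.ShortExact :=
    { exact := ShortComplex.exact_of_g_is_cokernel _ (cokernelIsCokernel a) }
  refine isCoh_iff.2 ⟨hB, fun U => ?_⟩
  have := finite_sections hA U.2
  have := finite_sections hQ U.2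
  let f : Γ(A, U.1) →ₗ[Γ(Y, U.1)] Γ(B, U.1) :=
    { toFun := a.app U.1, map_add' := map_add _, map_smul' := fun r m => a.app_smul r m }
  let g : Γ(B, U.1) →ₗ[Γ(Y, U.1)] Γ(cokernel a, U.1) :=
    { toFun := (cokernel.π a).app U.1, map_add' := map_add _,
      map_smul' := fun r m => (cokernel.π a).app_smul r m }
  exact Module.Finite.of_exact (f := f) (g := g) (fun x => ⟨fun hx => exists_app_f_eq hS U.1 x hx, by
      rintro ⟨y, rfl⟩; exact app_g_f (S := S) U.1 y⟩)
    (app_surjective_of_epi hB hQ.1 (cokernel.π a) U.2)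

theorem isCoh_push_of_generic_witness [IsNoetherian X] [IsNoetherian Y] (f : X ⟶ Y)
    (hgen : ∀ (Z : Scheme.{u}) (i : Z ⟶ X) [IsClosedImmersion i] [IsIntegral Z],
      ∃ H : Z.Modules, Coh.IsCoh H ∧ Nontrivial (H.presheaf.stalk (genericPoint Z)) ∧
        Coh.IsCoh ((Scheme.Modules.pushforward (i ≫ f)).obj H))
    (F : X.Modules) (hF : Coh.IsCoh F) : Coh.IsCoh ((Scheme.Modules.pushforward f).obj F) := by
  by_cases hX : Nonempty X
  · let K : ObjectProperty X.Modules := fun G => Coh.IsCoh ((Scheme.Modules.pushforward f).obj G)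
    haveI : K.IsClosedUnderIsomorphisms := ⟨fun e h =>
      isCoh_of_mono ((Scheme.Modules.pushforward f).mapIso e).inv h
        ((isQCoh_iff_iso ((Scheme.Modules.pushforward f).mapIso e)).1 h.1)⟩
    haveI : PreservesFiniteLimits (Scheme.Modules.pushforward f) :=
      have := (Scheme.Modules.pullbackPushforwardAdjunction f).rightAdjoint_preservesLimits
      inferInstance
    refine S10865.result X K (fun S hS a b c => ?_) (fun G d hd hG hK => ?_) (fun Z i _ _ => ?_) F hF
    · haveI := hS.mono_f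
      have q : ∀ {G : X.Modules}, Coh.IsCoh G → Coh.IsQCoh ((Scheme.Modules.pushforward f).obj G) :=
        fun h => isQCoh_pushforward f h.1
      refine ⟨fun h2 _ => isCoh_of_mono ((Scheme.Modules.pushforward f).map S.f) h2 (q a),
        fun h1 h3 => ?_⟩
      exact isCoh_extension ((Scheme.Modules.pushforward f).map S.f)
        ((Scheme.Modules.pushforward f).map S.g) _
        (hS.exact.map_of_mono_of_preservesKernel (Scheme.Modules.pushforward f) hS.mono_f inferInstance)
        h1 h3 (q b)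
    · let i : G ⟶ ∐ fun _ : Fin d => G := Sigma.ι (fun _ : Fin d => G) ⟨0, hd⟩
      haveI : Mono i := SplitMono.mono ⟨Sigma.desc fun _ => 𝟙 G, by simp [i]⟩
      exact isCoh_of_mono ((Scheme.Modules.pushforward f).map i) hK (isQCoh_pushforward f hG.1)
    · obtain ⟨H, hH, hne, hp⟩ := hgen Z i
      refine ⟨H, hH, hne, ?_⟩
      exact isCoh_of_mono ((Scheme.Modules.pushforwardComp i f).app H).hom hp
        ((isQCoh_iff_iso ((Scheme.Modules.pushforwardComp i f).app H)).2 hp.1)
  · refine isCoh_iff.2 ⟨isQCoh_pushforward f hF.1, fun U => ?_⟩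
    have hsub : Subsingleton Γ(F, f ⁻¹ᵁ U.1) := subsingleton_of_forall_eq 0 fun s =>
      eq_zero_of_locally _ s fun x _ => absurd ⟨x⟩ hX
    exact Module.Finite.of_surjective (0 : (Fin 0 → Γ(Y, U.1)) →ₗ[Γ(Y, U.1)]
      Γ((Scheme.Modules.pushforward f).obj F, U.1)) fun y => ⟨0, hsub.elim _ _⟩

end Groth.Agent.Coh32
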