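import Groth.Agent.RelTildeX.SheafCrit
import Groth.Agent.QCoh.Support
import Groth.Agent.QCoh.Serre

/-!
# Direct image from an open of a module whose support is closed in the whole scheme
-/

universe u

open CategoryTheory CategoryTheory.Limits AlgebraicGeometry TopologicalSpace Opposite
open Groth.Agent.QCoh
open scoped ZeroObject

namespace Groth.Agent.Coh32

variable {X : Scheme.{u}}

theorem isZero_of_app_subsingleton {M : X.Modules} (h : ∀ V, Subsingleton Γ(M, V)) : IsZero M :=
  (IsZero.iff_id_eq_zero M).2 (by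
    apply Scheme.Modules.hom_ext
    intro V
    ext s
    exact (h V).elim _ _)

theorem eq_zero_of_notMem_support {M : X.Modules} {V : X.Opens}
    (h : ∀ x ∈ V, x ∉ CohB1.support M) (s : Γ(M, V)) : s = 0 := by
  refine eq_zero_of_locally V s fun x hx => ?_
  have hsub : Subsingleton (M.presheaf.stalk x) := not_not.1 (h x hx)
  obtain ⟨W, hxW, i, j, e⟩ := M.presheaf.germ_eq x hx hx s 0 (hsub.elim _ _)
  exact ⟨W, i, hxW, by rw [e, map_zero]⟩

/-- Sections of a morphism as a linear map. -/
noncomputable def appLinMap {Y : Scheme.{u}} {M N : Y.Modules} (φ : M ⟶ N) (O : Y.Opens) :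
    Γ(M, O) →ₗ[Γ(Y, O)] Γ(N, O) where
  toFun := φ.app O
  map_add' := map_add _
  map_smul' := fun r m => Scheme.Modules.Hom.app_smul φ r m

theorem isCoh_push_of_supported {U : X.Opens} {T : Set X} (hT : IsClosed T) (hTU : T ⊆ (U : Set X))
    {F : U.toScheme.Modules} (hF : Coh.IsCoh F)
    (hs : ∀ x : U.toScheme, x ∈ CohB1.support F → U.ι x ∈ T) :
    Coh.IsCoh ((Coh.push U.ι).obj F) := by
  let W : ULift.{u} Bool → X.Opens := fun b => cond b.down U ⟨Tᶜ, hT.isOpen_compl⟩
  have hW : IsOpenCover W := TopologicalSpace.IsOpenCover.mk (top_le_iff.1 fun x _ => by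
    by_cases hx : x ∈ T
    · exact Opens.mem_iSup.2 ⟨⟨true⟩, hTU hx⟩
    · exact Opens.mem_iSup.2 ⟨⟨false⟩, hx⟩)
  have key : ∀ b, Coh.IsQCoh (((Coh.push U.ι).obj F).restrict (W b).ι) ∧
      CohB1.IsFT (((Coh.push U.ι).obj F).restrict (W b).ι) := by
    rintro ⟨_ | _⟩
    · let V : X.Opens := ⟨Tᶜ, hT.isOpen_compl⟩
      have hz : IsZero (((Coh.push U.ι).obj F).restrict V.ι) := isZero_of_app_subsingleton fun O => by
        refine subsingleton_of_forall_eq 0 fun s => ?_
        refine eq_zero_of_notMem_support (M := F) (fun x hx hxF => ?_) s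
        have hle : V.ι ''ᵁ O ≤ V := V.ι_image_le O
        exact hle hx (hs x hxF)
      refine ⟨isQCoh_of_isZero hz, isFT_of_finite (isQCoh_of_isZero hz)
        (fun O : V.toScheme.affineOpens => O.1) (iSup_affineOpens_eq_top _) (fun O => O.2) fun O => ?_⟩
      have : Subsingleton Γ(((Coh.push U.ι).obj F).restrict V.ι, O.1) :=
        subsingleton_of_forall_eq 0 fun x => by
          simpa using congrArg (fun φ : ((Coh.push U.ι).obj F).restrict V.ι ⟶ _ => φ.app O.1 x)
            (hz.eq_of_src (𝟙 _) 0)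
      exact Module.Finite.of_surjective (0 : (Fin 0 → Γ(V.toScheme, O.1)) →ₗ[Γ(V.toScheme, O.1)] _) fun y => ⟨0, this.elim _ _⟩
    · have e : ((Coh.push U.ι).obj F).restrict U.ι ≅ F :=
        asIso ((Scheme.Modules.restrictAdjunction U.ι).counit.app F)
      refine ⟨(isQCoh_iff_iso e).2 hF.1, ?_⟩
      have hq := (isQCoh_iff_iso e).2 hF.1
      refine (isFT_iff hq).2 fun O => ?_
      have := (isFT_iff hF.1).1 hF.2 O
      exact Module.Finite.of_surjective (appLinMap e.inv O.1) fun y => ⟨e.hom.app O.1 y,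
        congr(($(e.hom_inv_id)).app O.1 y)⟩
  have hq := isQCoh_of_isOpenCover W hW fun b => (key b).1
  exact ⟨hq, RelTildeX.isFT_of_openCover (X.openCoverOfIsOpenCover W hW) hq fun b => (key b).2⟩

end Groth.Agent.Coh32
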