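import Groth.Agent.QCoh.RpushModel

/-!
# Godement sections as classes in higher direct images
-/

noncomputable section

set_option linter.style.haveILetI false
set_option backward.isDefEq.respectTransparency false
set_option backward.isDefEq.respectTransparency.types false

universe u

open CategoryTheory CategoryTheory.Limits AlgebraicGeometry TopologicalSpace Opposite

namespace Groth.Agent.Coh32.RpushProj

open Groth.Agent Groth.Agent.QCoh

variable {X S : Scheme.{u}} (f : X ⟶ S) {M : X.Modules}

/-- `π` presents the sections of `R` as sections modulo coboundaries. -/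
def IsProj (k : ℕ) {R : S.Modules} (π : (Scheme.Modules.pushforward f).obj (godQ M k) ⟶ R) : Prop :=
  ∀ V : S.Opens, IsAffineOpen V → Function.Surjective (π.app V) ∧
    ∀ z : Γ((Scheme.Modules.pushforward f).obj (godQ M k), V), π.app V z = 0 ↔
      (show Γ(godQ M k, f ⁻¹ᵁ V) from z) ∈ bd M k (f ⁻¹ᵁ V)

/-- Higher direct images are quotients of direct images of Godement cokernels. -/
theorem exists_proj [QuasiCompact f] [QuasiSeparated f] [HasInjectiveResolutions X.Modules]
    (hM : Coh.IsQCoh M) (k : ℕ) :
    ∃ π : (Scheme.Modules.pushforward f).obj (godQ M k) ⟶ (Coh.Rpush f k).obj M, IsProj f k π := by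
  cases k with
  | zero =>
    haveI := SpObjSS.enoughInjectives_of_hasInjectiveResolutions (C := X.Modules)
    haveI := preservesFiniteLimits_push f
    let e := (Scheme.Modules.pushforward f).rightDerivedZeroIsoSelf.app M
    refine ⟨e.inv, fun V _ => ?_⟩
    have hb : Function.Bijective (e.inv.app V) := ConcreteCategory.bijective_of_isIso (e.inv.app V)
    exact ⟨hb.2, fun z => ⟨fun h => (Submodule.mem_bot Γ(X, f ⁻¹ᵁ V) (M := Γ(M, f ⁻¹ᵁ V))).2 (hb.1 (h.trans (map_zero (e.inv.app V).hom).symm)),
      fun h => (congrArg (e.inv.app V) ((Submodule.mem_bot Γ(X, f ⁻¹ᵁ V) (M := Γ(M, f ⁻¹ᵁ V))).1 h)).trans (map_zero (e.inv.app V).hom)⟩⟩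
  | succ q =>
    obtain ⟨e⟩ := nonempty_Rpush_iso f M q
    let α := (Scheme.Modules.pushforward f).map (godπ M q)
    have hq := locRange_rpushModel f hM q
    refine ⟨cokernel.π α ≫ e.inv, fun V hV => ?_⟩
    have hb : Function.Bijective (e.inv.app V) := ConcreteCategory.bijective_of_isIso (e.inv.app V)
    refine ⟨hb.2.comp (hq.surjective hV), fun z => ?_⟩
    show e.inv.app V ((cokernel.π α).app V z) = 0 ↔ _
    rw [map_eq_zero_iff _ hb.1]
    constructor
    · intro hz
      obtain ⟨a, ha⟩ := hq.mem_range hV z hz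
      exact ⟨a, ha⟩
    · rintro ⟨b, hb'⟩
      rw [show z = α.app V b from hb'.symm]
      exact cokernel_π_app_app (α := α) (U := V) b

end Groth.Agent.Coh32.RpushProj
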