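import Groth.Agent.Coh32.BCAlgebra
import Groth.Agent.QCoh.PullbackBC
import Groth.Agent.QCoh.FlatBC
import Mathlib.AlgebraicGeometry.Morphisms.Flat

/-!
# Sections of inverse images under flat base change, on quasi-compact opens
-/

noncomputable section

set_option linter.style.haveILetI false
set_option backward.isDefEq.respectTransparency false
set_option backward.isDefEq.respectTransparency.types false
set_option maxHeartbeats 800000

universe u

open CategoryTheory CategoryTheory.Limits AlgebraicGeometry TopologicalSpace Opposite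

namespace Groth.Agent.Coh32.SectionsBC

open Groth.Agent Groth.Agent.QCoh Groth.Agent.Coh32.BCAlgebra

variable {X S X' S' : Scheme.{u}} {f : X ⟶ S} {g : S' ⟶ S} {g' : X' ⟶ X} {f' : X' ⟶ S'}
  (h : IsPullback g' f' f g) (M : X.Modules) {U : S.Opens} {W : S'.Opens} (hle : W ≤ g ⁻¹ᵁ U)

/-- The open of `X'` over `O` and `W`. -/
abbrev pre (g' : X' ⟶ X) (f' : X' ⟶ S') (O : X.Opens) (W : S'.Opens) : X'.Opens := g' ⁻¹ᵁ O ⊓ f' ⁻¹ᵁ W

variable (g' f') in
/-- The inverse image. -/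
abbrev PM : X'.Modules := (Scheme.Modules.pullback g').obj M

variable (f) in
/-- The module structure on sections over `O`. -/
@[reducible] def srcMod (O : X.Opens) (hO : O ≤ f ⁻¹ᵁ U) : Module Γ(S, U) Γ(M, O) :=
  Module.compHom _ (f.appLE U O hO).hom

variable (g' f' W) in
/-- The module structure on sections upstairs. -/
@[reducible] def tgtMod (O : X.Opens) : Module Γ(S', W) Γ(PM g' M, pre g' f' O W) :=
  Module.compHom _ (f'.appLE W (pre g' f' O W) inf_le_right).hom

variable (g' f') in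
/-- The composite module structure. -/
@[reducible] def tgtMod' (O : X.Opens) : Module Γ(S, U) Γ(PM g' M, pre g' f' O W) :=
  Module.compHom _ (g.appLE U W hle ≫ f'.appLE W (pre g' f' O W) inf_le_right).hom

include h in
theorem appLE_comm (O : X.Opens) (hO : O ≤ f ⁻¹ᵁ U) :
    f.appLE U O hO ≫ g'.appLE O (pre g' f' O W) inf_le_left =
      g.appLE U W hle ≫ f'.appLE W (pre g' f' O W) inf_le_right := by
  simp only [Scheme.Hom.appLE_comp_appLE, h.w]

/-- Pulling back sections, linearly. -/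
def secHom (O : X.Opens) (hO : O ≤ f ⁻¹ᵁ U) :
    letI := srcMod f M O hO
    letI := tgtMod' g' f' M hle O
    Γ(M, O) →ₗ[Γ(S, U)] Γ(PM g' M, pre g' f' O W) :=
  letI := srcMod f M O hO
  letI := tgtMod' g' f' M hle O
  { toFun := pullSec g' M inf_le_left
    map_add' := pullSec_add g' M inf_le_left
    map_smul' := fun r x => by
      refine (pullSec_smul g' M inf_le_left (f.appLE U O hO r) x).trans ?_
      exact congrArg (· • pullSec g' M inf_le_left x) congr($(appLE_comm h hle O hO) r) }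

/-- The comparison is bijective. -/
def Bij (O : X.Opens) : Prop :=
  ∀ hO : O ≤ f ⁻¹ᵁ U,
    letI := (g.appLE U W hle).hom.toAlgebra
    letI := srcMod f M O hO
    letI := tgtMod g' f' M W O
    letI := tgtMod' g' f' M hle O
    haveI : IsScalarTower Γ(S, U) Γ(S', W) Γ(PM g' M, pre g' f' O W) := .of_algebraMap_smul fun _ _ => rfl
    Function.Bijective (liftB Γ(S', W) (secHom h M hle O hO))

/-- The comparison is injective. -/
def Inj (O : X.Opens) : Prop :=
  ∀ hO : O ≤ f ⁻¹ᵁ U,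
    letI := (g.appLE U W hle).hom.toAlgebra
    letI := srcMod f M O hO
    letI := tgtMod g' f' M W O
    letI := tgtMod' g' f' M hle O
    haveI : IsScalarTower Γ(S, U) Γ(S', W) Γ(PM g' M, pre g' f' O W) := .of_algebraMap_smul fun _ _ => rfl
    Function.Injective (liftB Γ(S', W) (secHom h M hle O hO))

variable {M}

theorem bij_affine (hU : IsAffineOpen U) (hW : IsAffineOpen W) (hM : Coh.IsQCoh M) {O : X.Opens}
    (hOa : IsAffineOpen O) : Bij h M hle O := by
  intro hO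
  let O' := pre g' f' O W
  have hpo := (isIso_pushoutSection_iff h hle hO (rfl : O' = _)).1
    (isIso_pushoutSection_of_isAffineOpen h hle hO (rfl : O' = _) hU hW hOa)
  have hO' : IsAffineOpen O' := by
    haveI : IsAffine _ := hU
    haveI : IsAffine _ := hW
    haveI : IsAffine _ := hOa
    exact .of_isIso (Scheme.Hom.isPullback_resLE h hle hO (rfl : O' = _)).isoPullback.hom
  letI := (g.appLE U W hle).hom.toAlgebra
  letI := srcMod f M O hO
  letI := tgtMod g' f' M W O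
  letI := tgtMod' g' f' M hle O
  haveI : IsScalarTower Γ(S, U) Γ(S', W) Γ(PM g' M, O') := .of_algebraMap_smul fun _ _ => rfl
  letI : Algebra Γ(S, U) Γ(X, O) := (f.appLE U O hO).hom.toAlgebra
  letI : Algebra Γ(S', W) Γ(X', O') := (f'.appLE W O' inf_le_right).hom.toAlgebra
  letI : Algebra Γ(X, O) Γ(X', O') := (g'.appLE O O' inf_le_left).hom.toAlgebra
  letI : Algebra Γ(S, U) Γ(X', O') := (g.appLE U W hle ≫ f'.appLE W O' inf_le_right).hom.toAlgebra
  haveI : IsScalarTower Γ(S, U) Γ(S', W) Γ(X', O') := .of_algebraMap_eq fun _ => rfl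
  haveI : IsScalarTower Γ(S, U) Γ(X, O) Γ(X', O') := .of_algebraMap_eq fun r =>
    congr($((appLE_comm h hle O hO).symm) r)
  haveI : Algebra.IsPushout Γ(S, U) Γ(S', W) Γ(X, O) Γ(X', O') :=
    (CommRingCat.isPushout_iff_isPushout).1 hpo.flip
  haveI : IsScalarTower Γ(S, U) Γ(X, O) Γ(M, O) := .of_algebraMap_smul fun _ _ => rfl
  letI : Module Γ(X, O) Γ(PM g' M, O') := Module.compHom _ (g'.appLE O O' inf_le_left).hom
  haveI : IsScalarTower Γ(X, O) Γ(X', O') Γ(PM g' M, O') := .of_algebraMap_smul fun _ _ => rfl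
  haveI : IsScalarTower Γ(S', W) Γ(X', O') Γ(PM g' M, O') := .of_algebraMap_smul fun _ _ => rfl
  let l : Γ(M, O) →ₗ[Γ(X, O)] Γ(PM g' M, O') :=
    { toFun := pullSec g' M inf_le_left
      map_add' := pullSec_add g' M inf_le_left
      map_smul' := fun r x => pullSec_smul g' M inf_le_left r x }
  exact (isBaseChange_iff _).1 (isBaseChange_of_isPushout l
    (isBaseChange_pullback hOa g' hO' hM inf_le_left (fun _ => rfl) l fun _ => rfl)
    (secHom h M hle O hO) fun _ => rfl)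

/-- Restriction downstairs. -/
def resM {O O₁ : X.Opens} (i : O₁ ≤ O) (hO : O ≤ f ⁻¹ᵁ U) :
    letI := srcMod f M O hO
    letI := srcMod f M O₁ (i.trans hO)
    Γ(M, O) →ₗ[Γ(S, U)] Γ(M, O₁) :=
  letI := srcMod f M O hO
  letI := srcMod f M O₁ (i.trans hO)
  { toFun := M.presheaf.map (homOfLE i).op
    map_add' := map_add (M.presheaf.map (homOfLE i).op).hom
    map_smul' := fun r x => by
      refine (map_smul' (homOfLE i) (f.appLE U O hO r) x).trans ?_
      refine congrArg (· • M.presheaf.map (homOfLE i).op x) ?_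
      exact congr($(f.appLE_map hO (homOfLE i).op) r) }

/-- Restriction upstairs. -/
def resP {O O₁ : X.Opens} (i : O₁ ≤ O) :
    letI := tgtMod g' f' M W O
    letI := tgtMod g' f' M W O₁
    Γ(PM g' M, pre g' f' O W) →ₗ[Γ(S', W)] Γ(PM g' M, pre g' f' O₁ W) :=
  letI := tgtMod g' f' M W O
  letI := tgtMod g' f' M W O₁
  { toFun := (PM g' M).presheaf.map (homOfLE (inf_le_inf_right _ (g'.preimage_mono i))).op
    map_add' := map_add ((PM g' M).presheaf.map _).hom
    map_smul' := fun r x => by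
      refine (map_smul' _ (f'.appLE W (pre g' f' O W) inf_le_right r) x).trans ?_
      refine congrArg (· • (PM g' M).presheaf.map _ x) ?_
      exact congr($(f'.appLE_map (inf_le_right : pre g' f' O W ≤ _)
        (homOfLE (inf_le_inf_right (f' ⁻¹ᵁ W) (g'.preimage_mono i))).op) r) }

theorem resP_secHom {O O₁ : X.Opens} (i : O₁ ≤ O) (hO : O ≤ f ⁻¹ᵁ U) (x : Γ(M, O)) :
    resP (g' := g') (f' := f') (W := W) (M := M) i (secHom h M hle O hO x) =
      secHom h M hle O₁ (i.trans hO) (resM i hO x) := by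
  show (PM g' M).presheaf.map _ ((PM g' M).presheaf.map _
      (((Scheme.Modules.pullbackPushforwardAdjunction g').unit.app M).app O x)) =
    (PM g' M).presheaf.map _
      (((Scheme.Modules.pullbackPushforwardAdjunction g').unit.app M).app O₁ (M.presheaf.map (homOfLE i).op x))
  refine Eq.trans ?_ (congrArg _ (map_app_comm ((Scheme.Modules.pullbackPushforwardAdjunction g').unit.app M)
    (homOfLE i) x)).symm
  exact (map_map (M := PM g' M) _ _ _).trans (map_map (M := PM g' M) (homOfLE inf_le_left)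
    ((Opens.map g'.base).map (homOfLE i)) _).symm

theorem sup_injective {Y : Scheme.{u}} {N : Y.Modules} {V₁ V₂ V : Y.Opens} (i₁ : V₁ ≤ V) (i₂ : V₂ ≤ V)
    (hc : V ≤ V₁ ⊔ V₂) {s t : Γ(N, V)}
    (h₁ : N.presheaf.map (homOfLE i₁).op s = N.presheaf.map (homOfLE i₁).op t)
    (h₂ : N.presheaf.map (homOfLE i₂).op s = N.presheaf.map (homOfLE i₂).op t) : s = t :=
  TopCat.Sheaf.eq_of_locally_eq₂ ⟨N.presheaf, N.isSheaf⟩ (homOfLE i₁) (homOfLE i₂) hc s t h₁ h₂

theorem sup_glue {Y : Scheme.{u}} {N : Y.Modules} {V₁ V₂ : Y.Opens} (s₁ : Γ(N, V₁)) (s₂ : Γ(N, V₂))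
    (h12 : N.presheaf.map (homOfLE (inf_le_left : V₁ ⊓ V₂ ≤ V₁)).op s₁ =
      N.presheaf.map (homOfLE (inf_le_right : V₁ ⊓ V₂ ≤ V₂)).op s₂) :
    ∃ s : Γ(N, V₁ ⊔ V₂), N.presheaf.map (homOfLE le_sup_left).op s = s₁ ∧
      N.presheaf.map (homOfLE le_sup_right).op s = s₂ := by
  let V : Bool → Y.Opens := fun b => Bool.rec V₁ V₂ b
  let sf : ∀ b, Γ(N, V b) := fun b => Bool.rec (motive := fun b => Γ(N, V b)) s₁ s₂ b
  obtain ⟨s, hs, -⟩ := TopCat.Sheaf.existsUnique_gluing' ⟨N.presheaf, N.isSheaf⟩ V (V₁ ⊔ V₂)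
    (fun b => Bool.rec (motive := fun b => V b ⟶ V₁ ⊔ V₂) (homOfLE le_sup_left) (homOfLE le_sup_right) b)
    (sup_le (le_iSup V false) (le_iSup V true)) sf (fun a b => by
      cases a <;> cases b
      · rfl
      · exact h12
      · have := congrArg (N.presheaf.map (homOfLE (le_inf inf_le_right inf_le_left : V₂ ⊓ V₁ ≤ V₁ ⊓ V₂)).op) h12
        exact ((map_map (M := N) _ _ _).symm.trans (this.trans (map_map (M := N) _ _ _))).symm
      · rfl)
  exact ⟨s, hs false, hs true⟩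

variable [Flat g]

theorem inj_sup (hU : IsAffineOpen U) (hW : IsAffineOpen W) {O₁ O₂ : X.Opens}
    (h₁ : Inj h M hle O₁) (h₂ : Inj h M hle O₂) : Inj h M hle (O₁ ⊔ O₂) := by
  intro hO
  letI := (g.appLE U W hle).hom.toAlgebra
  haveI : Module.Flat Γ(S, U) Γ(S', W) := g.flat_appLE hU hW hle
  letI := srcMod f M (O₁ ⊔ O₂) hO
  letI := srcMod f M O₁ (le_sup_left.trans hO)
  letI := srcMod f M O₂ (le_sup_right.trans hO)
  letI := tgtMod g' f' M W (O₁ ⊔ O₂)
  letI := tgtMod g' f' M W O₁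
  letI := tgtMod g' f' M W O₂
  letI := tgtMod' g' f' M hle (O₁ ⊔ O₂)
  letI := tgtMod' g' f' M hle O₁
  letI := tgtMod' g' f' M hle O₂
  haveI : IsScalarTower Γ(S, U) Γ(S', W) Γ(PM g' M, pre g' f' O₁ W) := .of_algebraMap_smul fun _ _ => rfl
  haveI : IsScalarTower Γ(S, U) Γ(S', W) Γ(PM g' M, pre g' f' O₂ W) := .of_algebraMap_smul fun _ _ => rfl
  haveI : IsScalarTower Γ(S, U) Γ(S', W) Γ(PM g' M, pre g' f' (O₁ ⊔ O₂) W) := .of_algebraMap_smul fun _ _ => rfl
  refine injective_of_mono ((resM (M := M) (le_sup_left (b := O₂)) hO).prod (resM (le_sup_right (a := O₁)) hO))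
    ((resP (le_sup_left (b := O₂))).prod (resP (le_sup_right (a := O₁))))
    (v := (secHom h M hle O₁ (le_sup_left.trans hO)).prodMap (secHom h M hle O₂ (le_sup_right.trans hO)))
    (fun m => Prod.ext (resP_secHom h hle le_sup_left hO m) (resP_secHom h hle le_sup_right hO m))
    (fun s t e => sup_injective le_sup_left le_sup_right le_rfl (congrArg Prod.fst e) (congrArg Prod.snd e))
    (injective_prodMap (h₁ _) (h₂ _))

theorem bij_sup (hU : IsAffineOpen U) (hW : IsAffineOpen W) {O₁ O₂ : X.Opens}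
    (h₁ : Bij h M hle O₁) (h₂ : Bij h M hle O₂) (h₁₂ : Inj h M hle (O₁ ⊓ O₂)) : Bij h M hle (O₁ ⊔ O₂) := by
  intro hO
  letI := (g.appLE U W hle).hom.toAlgebra
  haveI : Module.Flat Γ(S, U) Γ(S', W) := g.flat_appLE hU hW hle
  have hO₁ : O₁ ≤ f ⁻¹ᵁ U := le_sup_left.trans hO
  have hO₂ : O₂ ≤ f ⁻¹ᵁ U := le_sup_right.trans hO
  letI := srcMod f M (O₁ ⊔ O₂) hO
  letI := srcMod f M O₁ hO₁
  letI := srcMod f M O₂ hO₂
  letI := srcMod f M (O₁ ⊓ O₂) (inf_le_left.trans hO₁)
  letI := tgtMod g' f' M W (O₁ ⊔ O₂)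
  letI := tgtMod g' f' M W O₁
  letI := tgtMod g' f' M W O₂
  letI := tgtMod g' f' M W (O₁ ⊓ O₂)
  letI := tgtMod' g' f' M hle (O₁ ⊔ O₂)
  letI := tgtMod' g' f' M hle O₁
  letI := tgtMod' g' f' M hle O₂
  letI := tgtMod' g' f' M hle (O₁ ⊓ O₂)
  haveI : IsScalarTower Γ(S, U) Γ(S', W) Γ(PM g' M, pre g' f' O₁ W) := .of_algebraMap_smul fun _ _ => rfl
  haveI : IsScalarTower Γ(S, U) Γ(S', W) Γ(PM g' M, pre g' f' O₂ W) := .of_algebraMap_smul fun _ _ => rfl
  haveI : IsScalarTower Γ(S, U) Γ(S', W) Γ(PM g' M, pre g' f' (O₁ ⊔ O₂) W) := .of_algebraMap_smul fun _ _ => rfl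
  haveI : IsScalarTower Γ(S, U) Γ(S', W) Γ(PM g' M, pre g' f' (O₁ ⊓ O₂) W) := .of_algebraMap_smul fun _ _ => rfl
  let l₁ := resM (M := M) (le_sup_left (b := O₂)) hO
  let l₂ := resM (M := M) (le_sup_right (a := O₁)) hO
  let a₁ := resM (M := M) (inf_le_left (b := O₂)) hO₁
  let a₂ := resM (M := M) (inf_le_right (a := O₁)) hO₂
  let p₁ := resP (g' := g') (f' := f') (W := W) (M := M) (le_sup_left : O₁ ≤ O₁ ⊔ O₂)
  let p₂ := resP (g' := g') (f' := f') (W := W) (M := M) (le_sup_right : O₂ ≤ O₁ ⊔ O₂)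
  let q₁ := resP (g' := g') (f' := f') (W := W) (M := M) (inf_le_left : O₁ ⊓ O₂ ≤ O₁)
  let q₂ := resP (g' := g') (f' := f') (W := W) (M := M) (inf_le_right : O₁ ⊓ O₂ ≤ O₂)
  refine bijective_of_exact (l₁.prod l₂) (a₁.coprod (-a₂)) (p₁.prod p₂) (q₁.coprod (-q₂))
    (v := (secHom h M hle O₁ hO₁).prodMap (secHom h M hle O₂ hO₂))
    (w := secHom h M hle (O₁ ⊓ O₂) (inf_le_left.trans hO₁))
    (fun m => Prod.ext (resP_secHom h hle le_sup_left hO m) (resP_secHom h hle le_sup_right hO m))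
    ?_ (fun s t e => sup_injective le_sup_left le_sup_right le_rfl (congrArg Prod.fst e) (congrArg Prod.snd e))
    ?_ ?_ ?_ (bijective_prodMap (h₁ _) (h₂ _)) (h₁₂ _)
  · rintro ⟨x, y⟩
    show q₁ (secHom h M hle O₁ hO₁ x) + -(q₂ (secHom h M hle O₂ hO₂ y)) = secHom h M hle _ _ (a₁ x + -(a₂ y))
    rw [map_add, map_neg]
    exact congrArg₂ (fun s t => s + -t) (resP_secHom h hle inf_le_left hO₁ x) (resP_secHom h hle inf_le_right hO₂ y)
  · rintro ⟨x, y⟩
    constructor
    · intro e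
      have e' : a₁ x = a₂ y := add_neg_eq_zero.1 e
      obtain ⟨s, hs₁, hs₂⟩ := sup_glue x y e'
      exact ⟨s, Prod.ext hs₁ hs₂⟩
    · rintro ⟨s, hs⟩
      rw [← hs]
      show a₁ (l₁ s) + -(a₂ (l₂ s)) = 0
      refine add_neg_eq_zero.2 ?_
      show M.presheaf.map (homOfLE (inf_le_left : O₁ ⊓ O₂ ≤ O₁)).op
          (M.presheaf.map (homOfLE (le_sup_left : O₁ ≤ O₁ ⊔ O₂)).op s) =
        M.presheaf.map (homOfLE (inf_le_right : O₁ ⊓ O₂ ≤ O₂)).op
          (M.presheaf.map (homOfLE (le_sup_right : O₂ ≤ O₁ ⊔ O₂)).op s)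
      rw [map_map, map_map]
      rfl
  · refine fun s t e => sup_injective (N := PM g' M) (inf_le_inf_right _ (g'.preimage_mono le_sup_left))
      (inf_le_inf_right _ (g'.preimage_mono le_sup_right)) ?_ (congrArg Prod.fst e) (congrArg Prod.snd e)
    exact fun z hz => hz.1.imp (fun a => ⟨a, hz.2⟩) (fun a => ⟨a, hz.2⟩)
  · intro s
    show q₁ (p₁ s) + -(q₂ (p₂ s)) = 0
    refine add_neg_eq_zero.2 ?_
    show (PM g' M).presheaf.map (homOfLE (inf_le_inf_right (f' ⁻¹ᵁ W) (g'.preimage_mono (inf_le_left : O₁ ⊓ O₂ ≤ O₁)))).op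
        ((PM g' M).presheaf.map (homOfLE (inf_le_inf_right (f' ⁻¹ᵁ W) (g'.preimage_mono (le_sup_left : O₁ ≤ O₁ ⊔ O₂)))).op s) =
      (PM g' M).presheaf.map (homOfLE (inf_le_inf_right (f' ⁻¹ᵁ W) (g'.preimage_mono (inf_le_right : O₁ ⊓ O₂ ≤ O₂)))).op
        ((PM g' M).presheaf.map (homOfLE (inf_le_inf_right (f' ⁻¹ᵁ W) (g'.preimage_mono (le_sup_right : O₂ ≤ O₁ ⊔ O₂)))).op s)
    rw [map_map, map_map]
    rfl

theorem exists_finset_sup {O : X.Opens} (hO : IsCompact (O : Set X)) :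
    ∃ s : Finset X.affineOpens, O = s.sup fun V => V.1 := by
  obtain ⟨t, ht, e⟩ := isCompact_iff_finite_and_eq_biUnion_affineOpens.1 hO
  refine ⟨ht.toFinset, ?_⟩
  rw [Finset.sup_eq_iSup, e]
  simp only [Set.Finite.mem_toFinset]

theorem inj_sup_finset (hU : IsAffineOpen U) (hW : IsAffineOpen W) (hM : Coh.IsQCoh M)
    (s : Finset X.affineOpens) : Inj h M hle (s.sup fun V => V.1) := by
  classical
  induction s using Finset.induction with
  | empty =>
    rw [Finset.sup_empty]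
    exact fun hO => (bij_affine h hle hU hW hM (isAffineOpen_bot X) hO).1
  | insert V s _ ih =>
    rw [Finset.sup_insert]
    exact inj_sup h hle hU hW (fun hO => (bij_affine h hle hU hW hM V.2 hO).1) ih

/-- Flat base change for sections over quasi-compact quasi-separated opens. -/
theorem bij_of_isQuasiSeparated (hU : IsAffineOpen U) (hW : IsAffineOpen W) (hM : Coh.IsQCoh M) {O : X.Opens}
    (hO : IsCompact (O : Set X)) (hqs : IsQuasiSeparated (O : Set X)) : Bij h M hle O := by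
  classical
  obtain ⟨s, rfl⟩ := exists_finset_sup hO
  clear hO
  induction s using Finset.induction with
  | empty =>
    rw [Finset.sup_empty]
    exact bij_affine h hle hU hW hM (isAffineOpen_bot X)
  | insert V s _ ih =>
    rw [Finset.sup_insert] at hqs ⊢
    have hV : (V.1 : Set X) ⊆ ((V.1 ⊔ s.sup fun V => V.1 : X.Opens) : Set X) := fun z hz => Or.inl hz
    have hs : ((s.sup fun V => V.1 : X.Opens) : Set X) ⊆ ((V.1 ⊔ s.sup fun V => V.1 : X.Opens) : Set X) :=
      fun z hz => Or.inr hz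
    have hsc : IsCompact ((s.sup fun V => V.1 : X.Opens) : Set X) := by
      rw [Finset.sup_eq_iSup, Opens.coe_iSup]
      simp only [Opens.coe_iSup]
      exact s.finite_toSet.isCompact_biUnion fun W _ => W.2.isCompact
    obtain ⟨t, ht⟩ := exists_finset_sup (O := V.1 ⊓ s.sup fun V => V.1)
      (hqs _ _ hV V.1.2 V.2.isCompact hs (s.sup fun V => V.1).2 hsc)
    exact bij_sup h hle hU hW (bij_affine h hle hU hW hM V.2)
      (ih (hqs.of_subset hs)) (ht ▸ inj_sup_finset h hle hU hW hM t)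

end Groth.Agent.Coh32.SectionsBC
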