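import Groth.Agent.Coh32.TensorClass
import Groth.Agent.QCoh.FlatOver
import Groth.Agent.LimitsH94.GlueHom
import Groth.Agent.QCoh.ClosedPush

/-!
# Base change of higher direct images with a flat tensor factor
-/

noncomputable section

set_option linter.style.haveILetI false
set_option backward.isDefEq.respectTransparency false
set_option backward.isDefEq.respectTransparency.types false
set_option maxHeartbeats 800000

universe u

open CategoryTheory CategoryTheory.Limits AlgebraicGeometry TopologicalSpace Opposite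
open scoped TensorProduct

namespace Groth.Agent.Coh32.TensorBC

open Groth.Agent Groth.Agent.QCoh Groth.Agent.Coh32 Groth.Agent.Coh32.TensorLocal Groth.Agent.Coh32.TensorClass
  Groth.Agent.Coh32.RpushProj

variable {X S X' S' : Scheme.{u}} {f : X ⟶ S} {g : S' ⟶ S} {g' : X' ⟶ X} {f' : X' ⟶ S'} {F : X.Modules}
  {G : S'.Modules}

/-- The source of the base change map. -/
abbrev Src (g : S' ⟶ S) (G : S'.Modules) (R : S.Modules) : S'.Modules :=
  (DCoh.tensorBi.obj G).obj ((Scheme.Modules.pullback g).obj R)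

variable (G) in
/-- The generators of the sections of the source. -/
theorem exists_gen {R : S.Modules} (hR : Coh.IsQCoh R) (hG : Coh.IsQCoh G) {U : S.Opens} {W : S'.Opens}
    (hle : W ≤ g ⁻¹ᵁ U) (hU : IsAffineOpen U) (hW : IsAffineOpen W) :
    letI : Module Γ(S, U) Γ(G, W) := Module.compHom _ (g.appLE U W hle).hom
    ∃ E : Γ(G, W) ⊗[Γ(S, U)] Γ(R, U) →+ Γ(Src g G R, W), Function.Bijective E ∧
      ∀ t r, E (t ⊗ₜ r) = tmS G _ t (pullSec g R hle r) := by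
  letI := (g.appLE U W hle).hom.toAlgebra
  letI : Module Γ(S, U) Γ(G, W) := Module.compHom _ (g.appLE U W hle).hom
  haveI : IsScalarTower Γ(S, U) Γ(S', W) Γ(G, W) := .of_algebraMap_smul fun _ _ => rfl
  let P := (Scheme.Modules.pullback g).obj R
  letI : Module Γ(S, U) Γ(P, W) := Module.compHom _ (g.appLE U W hle).hom
  haveI : IsScalarTower Γ(S, U) Γ(S', W) Γ(P, W) := .of_algebraMap_smul fun _ _ => rfl
  let l : Γ(R, U) →ₗ[Γ(S, U)] Γ(P, W) :=
    { toFun := pullSec g R hle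
      map_add' := pullSec_add g R hle
      map_smul' := fun r x => pullSec_smul g R hle r x }
  have hl : IsBaseChange Γ(S', W) l := isBaseChange_pullback hU g hW hR hle (fun _ => rfl) l fun _ => rfl
  let e : Γ(G, W) ⊗[Γ(S, U)] Γ(R, U) ≃ₗ[Γ(S', W)] Γ(G, W) ⊗[Γ(S', W)] Γ(P, W) :=
    (TensorProduct.AlgebraTensorModule.cancelBaseChange Γ(S, U) Γ(S', W) Γ(S', W) Γ(G, W) Γ(R, U)).symm.trans
      (hl.equiv.lTensor Γ(G, W))
  refine ⟨(tmLin G P W).toAddMonoidHom.comp e.toLinearMap.toAddMonoidHom,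
    (bijective_tmLin hG (isQCoh_pullback g hR) hW).comp e.bijective, fun t r => ?_⟩
  show tmLin G P W (t ⊗ₜ hl.equiv ((1 : Γ(S', W)) ⊗ₜ r)) = _
  rw [IsBaseChange.equiv_tmul, one_smul, tmLin_tmul]
  rfl

variable (h : IsPullback g' f' f g) (k : ℕ) [QuasiCompact f] [QuasiSeparated f]
  {R : S.Modules} {R' : S'.Modules} {π : (Scheme.Modules.pushforward f).obj (godQ F k) ⟶ R}
  {π' : (Scheme.Modules.pushforward f').obj (godQ (TM g' f' F G) k) ⟶ R'}

/-- The base change map over a pair of affine opens, characterised on generators. -/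
def IsTheta {U : S.Opens} {W : S'.Opens} (hle : W ≤ g ⁻¹ᵁ U) (π : (Scheme.Modules.pushforward f).obj (godQ F k) ⟶ R)
    (π' : (Scheme.Modules.pushforward f').obj (godQ (TM g' f' F G) k) ⟶ R')
    (θ : Γ(Src g G R, W) → Γ(R', W)) : Prop :=
  ∀ t z, θ (tmS G _ t (pullSec g R hle (π.app U z))) = π'.app W (prodSec F G h hle k t z)

theorem exists_theta (hR : Coh.IsQCoh R) (hF : Coh.IsQCoh F) (hG : Coh.IsQCoh G)
    (hfl : FlatMod.IsFlatOver g G) (hπ : IsProj f k π) (hπ' : IsProj f' k π') {U : S.Opens} {W : S'.Opens}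
    (hle : W ≤ g ⁻¹ᵁ U) (hU : IsAffineOpen U) (hW : IsAffineOpen W) :
    ∃ θ : Γ(Src g G R, W) →ₗ[Γ(S', W)] Γ(R', W), Function.Bijective θ ∧ IsTheta h k hle π π' θ := by
  letI : Module Γ(S, U) Γ(G, W) := Module.compHom _ (g.appLE U W hle).hom
  letI : Module Γ(S, U) Γ(R', W) := Module.compHom _ (g.appLE U W hle).hom
  obtain ⟨L, hL, hLf⟩ := exists_local_equiv h hle k hU hW hF hG
    ((isFlatOver_iff g hG).1 hfl W U hle hW hU) hπ hπ'
  obtain ⟨E, hE, hEf⟩ := exists_gen G hR hG hle hU hW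
  let e := AddEquiv.ofBijective E hE
  let θ : Γ(Src g G R, W) →+ Γ(R', W) := L.toAddMonoidHom.comp e.symm.toAddMonoidHom
  have hθ : ∀ t r, θ (tmS G _ t (pullSec g R hle r)) = L (t ⊗ₜ r) := fun t r => by
    refine congrArg L ?_
    rw [← hEf]
    exact e.symm_apply_apply _
  refine ⟨{ θ with map_smul' := fun b s => ?_ }, hL.comp e.symm.bijective, fun t z => (hθ t _).trans (hLf t z)⟩
  show θ (b • s) = b • θ s
  obtain ⟨w, rfl⟩ := hE.2 s
  induction w using TensorProduct.induction_on with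
  | zero => rw [map_zero, smul_zero, map_zero, smul_zero]
  | tmul t r =>
    obtain ⟨z, rfl⟩ := (hπ U hU).1 r
    rw [hEf, ← tmS_smul_left, hθ, hθ, hLf, hLf, prodSec_smul_left, Scheme.Modules.Hom.app_smul]
  | add x y hx hy => rw [map_add, smul_add, map_add, hx, hy, map_add, smul_add]

theorem theta_rs (hR : Coh.IsQCoh R) (hG : Coh.IsQCoh G) (hπ : IsProj f k π) {U U₁ : S.Opens} {W W₁ : S'.Opens}
    (hle : W ≤ g ⁻¹ᵁ U) (hle₁ : W₁ ≤ g ⁻¹ᵁ U₁) (hU : IsAffineOpen U) (hW : IsAffineOpen W)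
    (iU : U₁ ≤ U) (iW : W₁ ≤ W) {θ : Γ(Src g G R, W) →ₗ[Γ(S', W)] Γ(R', W)}
    {θ₁ : Γ(Src g G R, W₁) →ₗ[Γ(S', W₁)] Γ(R', W₁)}
    (hθ : IsTheta h k hle π π' θ) (hθ₁ : IsTheta h k hle₁ π π' θ₁) (s : Γ(Src g G R, W)) :
    rs R' iW (θ s) = θ₁ (rs (Src g G R) iW s) := by
  letI : Module Γ(S, U) Γ(G, W) := Module.compHom _ (g.appLE U W hle).hom
  obtain ⟨E, hE, hEf⟩ := exists_gen G hR hG hle hU hW
  obtain ⟨w, rfl⟩ := hE.2 s
  induction w using TensorProduct.induction_on with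
  | zero => rw [map_zero, map_zero, rs_zero, rs_zero, map_zero]
  | tmul t r =>
    obtain ⟨z, rfl⟩ := (hπ U hU).1 r
    rw [hEf, hθ, ← app_rs π' iW, rs_prodSec h hle k hle₁ iU iW t z, ← hθ₁, app_rs π iU]
    refine congrArg θ₁ ?_
    refine Eq.trans ?_ (map_tmS G _ (homOfLE iW) _ _).symm
    exact congrArg (tmS G _ (rs G iW t)) ((pullSec_rs iU hle₁ _).trans (rs_pullSec _ _ _).symm)
  | add x y hx hy => rw [map_add, map_add, rs_add, rs_add, map_add, hx, hy]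

include h in
/-- `G ⊗ g^* R^k f_* F ≅ R^k f'_* (f'^* G ⊗ g'^* F)` for `G` flat over the base. -/
theorem nonempty_iso (hF : Coh.IsQCoh F) (hG : Coh.IsQCoh G) (hfl : FlatMod.IsFlatOver g G)
    [HasInjectiveResolutions X.Modules] [HasInjectiveResolutions X'.Modules] :
    Nonempty (Src g G ((Coh.Rpush f k).obj F) ≅ (Coh.Rpush f' k).obj (TM g' f' F G)) := by
  haveI : QuasiCompact f' := MorphismProperty.of_isPullback h inferInstance
  haveI : QuasiSeparated f' := MorphismProperty.of_isPullback h inferInstance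
  let R := (Coh.Rpush f k).obj F
  let R' := (Coh.Rpush f' k).obj (TM g' f' F G)
  have hTM := isQCoh_TM g' f' F G hF hG
  obtain ⟨π, hπ⟩ := exists_proj f hF k
  obtain ⟨π', hπ'⟩ := exists_proj f' hTM k
  have hR : Coh.IsQCoh R := isQCoh_Rpush f hF k
  let p : S'.affineOpens → Prop := fun W => ∃ U : S.affineOpens, W.1 ≤ g ⁻¹ᵁ U.1
  choose Uc hUc using fun (W : S'.affineOpens) (hW : p W) => hW
  choose θ hθb hθ using fun (W : S'.affineOpens) (hW : p W) =>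
    exists_theta h k hR hF hG hfl hπ hπ' (hUc W hW) (Uc W hW).2 W.2
  have hcov : ∀ x : S', ∃ W, p W ∧ x ∈ W.1 := fun x => by
    obtain ⟨U, hU, hxU, -⟩ := exists_isAffineOpen_mem_and_subset (x := g x) (U := ⊤) trivial
    obtain ⟨W, hW, hxW, hWle⟩ := exists_isAffineOpen_mem_and_subset (x := x) (U := g ⁻¹ᵁ U) hxU
    exact ⟨⟨W, hW⟩, ⟨⟨U, hU⟩, hWle⟩, hxW⟩
  obtain ⟨Φ, hΦ⟩ := LimitsH94.GlueHom.exists_hom_of_basis (M := Src g G R) (N := R') p
    (fun V W hWV ⟨U, hU⟩ => ⟨U, hWV.trans hU⟩) hcov θ (fun V W hv hw i s => by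
      refine TopCat.Sheaf.eq_of_locally_eq' ⟨R'.presheaf, R'.isSheaf⟩
        (fun j : {P : S'.affineOpens × S.affineOpens // P.1.1 ≤ W.1 ∧ P.2.1 ≤ (Uc V hv).1 ⊓ (Uc W hw).1 ∧
          P.1.1 ≤ g ⁻¹ᵁ P.2.1} => j.1.1.1) W.1 (fun j => homOfLE j.2.1) (fun x hx => ?_) _ _ fun j => ?_
      · obtain ⟨U₂, hU₂, hxU₂, hU₂le⟩ := exists_isAffineOpen_mem_and_subset (x := g x)
          (U := (Uc V hv).1 ⊓ (Uc W hw).1) ⟨hUc V hv (i hx), hUc W hw hx⟩
        obtain ⟨W₂, hW₂, hxW₂, hW₂le⟩ := exists_isAffineOpen_mem_and_subset (x := x) (U := W.1 ⊓ g ⁻¹ᵁ U₂)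
          ⟨hx, hxU₂⟩
        exact Opens.mem_iSup.2 ⟨⟨(⟨W₂, hW₂⟩, ⟨U₂, hU₂⟩), fun y hy => (hW₂le hy).1, hU₂le,
          fun y hy => (hW₂le hy).2⟩, hxW₂⟩
      · obtain ⟨⟨W₂, U₂⟩, hW₂, hU₂, hle₂⟩ := j
        obtain ⟨θ₂, -, hθ₂⟩ := exists_theta h k hR hF hG hfl hπ hπ' hle₂ U₂.2 W₂.2
        show rs R' hW₂ (rs R' i (θ V hv s)) = rs R' hW₂ (θ W hw (rs (Src g G R) i s))
        rw [rs_rs, theta_rs h k hR hG hπ (hUc V hv) hle₂ (Uc V hv).2 V.2 (hU₂.trans inf_le_left) _ (hθ V hv) hθ₂,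
          theta_rs h k hR hG hπ (hUc W hw) hle₂ (Uc W hw).2 W.2 (hU₂.trans inf_le_right) _ (hθ W hw) hθ₂, rs_rs])
  haveI : IsIso Φ := by
    refine QCoh.isIso_of_isBasis Φ (B := {W | ∃ hW : IsAffineOpen W, p ⟨W, hW⟩}) ?_ ?_
    · refine TopologicalSpace.Opens.isBasis_iff_nbhd.2 fun {V} x hx => ?_
      obtain ⟨W₀, ⟨U, hU⟩, hxW₀⟩ := hcov x
      obtain ⟨W, hW, hxW, hWle⟩ := exists_isAffineOpen_mem_and_subset (x := x) (U := V ⊓ W₀.1) ⟨hx, hxW₀⟩
      exact ⟨W, ⟨hW, U, fun y hy => hU (hWle hy).2⟩, hxW, fun y hy => (hWle hy).1⟩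
    · rintro W ⟨hW, hp⟩
      rw [show ⇑(Φ.app W) = ⇑(θ ⟨W, hW⟩ hp) from funext (hΦ ⟨W, hW⟩ hp)]
      exact hθb ⟨W, hW⟩ hp
  exact ⟨asIso Φ⟩

end Groth.Agent.Coh32.TensorBC
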