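import Groth.Agent.Coh32.TensorLocal
import Groth.Agent.Coh32.RpushProj
import Mathlib.AlgebraicGeometry.Morphisms.Flat

/-!
# The pairing on higher direct images, locally
-/

noncomputable section

set_option linter.style.haveILetI false
set_option backward.isDefEq.respectTransparency false
set_option backward.isDefEq.respectTransparency.types false
set_option maxHeartbeats 800000

universe u

open CategoryTheory CategoryTheory.Limits AlgebraicGeometry TopologicalSpace Opposite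
open scoped TensorProduct

namespace Groth.Agent.Coh32.TensorClass

open Groth.Agent Groth.Agent.QCoh Groth.Agent.Coh32 Groth.Agent.Coh32.GodFunct Groth.Agent.Coh32.LocHom
  Groth.Agent.Coh32.GodTensor Groth.Agent.Coh32.TensorLocal Groth.Agent.Coh32.RpushProj

theorem topLe {X X' : Scheme.{u}} (φ : X' ⟶ X) : (⊤ : X'.Opens) ≤ φ ⁻¹ᵁ (⊤ : X.Opens) := fun _ _ => trivial

section transfer

variable {X S : Scheme.{u}} (f : X ⟶ S) (M : X.Modules) (V : S.Opens) (k : ℕ)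

theorem transferSec_mem_bd : ∀ (k : ℕ) (z : Γ(godQ M k, f ⁻¹ᵁ V)), z ∈ bd M k (f ⁻¹ᵁ V) →
    transferSec f M V k z ∈ bd (M.restrict (f ⁻¹ᵁ V).ι) k ⊤
  | 0, z, hz => by
    rw [(Submodule.mem_bot _).1 hz]
    refine (Submodule.mem_bot _).2 ?_
    unfold transferSec
    rw [map_zero]
    exact rs_zero _
  | k + 1, z, ⟨b, hb⟩ => by
    rw [← hb]
    exact rs_mem_bd (M.restrict (f ⁻¹ᵁ V).ι) (k + 1) _
      ⟨(godMap (f ⁻¹ᵁ V).ι (godQMap (f ⁻¹ᵁ V).ι
        ((Scheme.Modules.restrictAdjunction (f ⁻¹ᵁ V).ι).unit.app M) k)).app (f ⁻¹ᵁ V) b,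
        (comm_god (f ⁻¹ᵁ V).ι ((Scheme.Modules.restrictAdjunction (f ⁻¹ᵁ V).ι).unit.app M) k b).symm⟩

/-- The transfer of sections, linearly. -/
def tau :
    letI := secModule (rhoV f V) (godQ (M.restrict (f ⁻¹ᵁ V).ι) k) ⊤
    Γ((Scheme.Modules.pushforward f).obj (godQ M k), V) ≃ₗ[Γ(S, V)] Γ(godQ (M.restrict (f ⁻¹ᵁ V).ι) k, ⊤) :=
  letI := secModule (rhoV f V) (godQ (M.restrict (f ⁻¹ᵁ V).ι) k) ⊤
  LinearEquiv.ofBijective
    ({ toFun := fun z => transferSec f M V k z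
       map_add' := fun z w => transferSec_add f M V k z w
       map_smul' := fun r z => transferSec_smul f M V k r z } :
      Γ((Scheme.Modules.pushforward f).obj (godQ M k), V) →ₗ[Γ(S, V)] Γ(godQ (M.restrict (f ⁻¹ᵁ V).ι) k, ⊤))
    (bijective_transferSec f M V k)

theorem tau_apply (z : Γ((Scheme.Modules.pushforward f).obj (godQ M k), V)) :
    tau f M V k z = transferSec f M V k z := rfl

theorem tau_mem_bd_iff (z : Γ((Scheme.Modules.pushforward f).obj (godQ M k), V)) :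
    tau f M V k z ∈ bd (M.restrict (f ⁻¹ᵁ V).ι) k ⊤ ↔ (show Γ(godQ M k, f ⁻¹ᵁ V) from z) ∈ bd M k (f ⁻¹ᵁ V) := by
  refine ⟨fun h => ?_, fun h => transferSec_mem_bd f M V k _ h⟩
  obtain ⟨z', hz', he⟩ := transferSec_bd f M V k _ h
  rwa [(bijective_transferSec f M V k).1 he] at hz'

end transfer

variable {X S X' S' : Scheme.{u}} {f : X ⟶ S} {g : S' ⟶ S} {g' : X' ⟶ X} {f' : X' ⟶ S'} {F : X.Modules}
  {G : S'.Modules} (h : IsPullback g' f' f g) {U : S.Opens} {W : S'.Opens} (hle : W ≤ g ⁻¹ᵁ U) (k : ℕ)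

variable (F G) in
/-- The class of the product of a section of `G` and a class. -/
def prodSec (t : Γ(G, W)) (z : Γ((Scheme.Modules.pushforward f).obj (godQ F k), U)) :
    Γ((Scheme.Modules.pushforward f').obj (godQ (TM g' f' F G) k), W) :=
  letI := secModule (rhoV f' W) (godQ ((TM g' f' F G).restrict (f' ⁻¹ᵁ W).ι) k) ⊤
  (tau f' (TM g' f' F G) W k).symm
    (secMap (phi h hle) (godQMap (phi h hle) (LocHom.hom (tData f g' f' F G U W t) (le_preimage h hle)) k)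
      (topLe _) (transferSec f F U k z))

theorem transferSec_prodSec (t : Γ(G, W)) (z : Γ((Scheme.Modules.pushforward f).obj (godQ F k), U)) :
    transferSec f' (TM g' f' F G) W k (prodSec F G h hle k t z) =
      secMap (phi h hle) (godQMap (phi h hle) (LocHom.hom (tData f g' f' F G U W t) (le_preimage h hle)) k)
        (topLe _) (transferSec f F U k z) := by
  letI := secModule (rhoV f' W) (godQ ((TM g' f' F G).restrict (f' ⁻¹ᵁ W).ι) k) ⊤
  exact (tau f' (TM g' f' F G) W k).apply_symm_apply _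

theorem prodSec_add_right (t : Γ(G, W)) (z w : Γ((Scheme.Modules.pushforward f).obj (godQ F k), U)) :
    prodSec F G h hle k t (z + w) = prodSec F G h hle k t z + prodSec F G h hle k t w := by
  refine (bijective_transferSec f' (TM g' f' F G) W k).1 ?_
  refine (transferSec_prodSec h hle k t (z + w)).trans (Eq.trans ?_ (transferSec_add f' _ W k _ _).symm)
  rw [transferSec_prodSec, transferSec_prodSec, ← secMap_add]
  exact congrArg _ (transferSec_add f F U k z w)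

theorem prodSec_add_left (t₁ t₂ : Γ(G, W)) (z : Γ((Scheme.Modules.pushforward f).obj (godQ F k), U)) :
    prodSec F G h hle k (t₁ + t₂) z = prodSec F G h hle k t₁ z + prodSec F G h hle k t₂ z := by
  letI : Module Γ(S, U) Γ(G, W) := Module.compHom _ (g.appLE U W hle).hom
  refine (bijective_transferSec f' (TM g' f' F G) W k).1 ?_
  refine (transferSec_prodSec h hle k _ z).trans (Eq.trans ?_ (transferSec_add f' _ W k _ _).symm)
  rw [transferSec_prodSec, transferSec_prodSec]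
  let Z := transferSec f F U k z
  refine (congrArg (rs (godQ ((TM g' f' F G).restrict (f' ⁻¹ᵁ W).ι) k) (topLe (phi h hle)))
    (((tFam (F := F) (G := G) h hle).godQ k).add t₁ t₂ ⊤ Z)).trans ?_
  rw [gres_one, one_smul, one_smul]
  exact rs_add _ _ _

theorem prodSec_smul_left (b : Γ(S', W)) (t : Γ(G, W))
    (z : Γ((Scheme.Modules.pushforward f).obj (godQ F k), U)) :
    prodSec F G h hle k (b • t) z = b • prodSec F G h hle k t z := by
  letI := secModule (rhoV f' W) (godQ ((TM g' f' F G).restrict (f' ⁻¹ᵁ W).ι) k) ⊤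
  refine (bijective_transferSec f' (TM g' f' F G) W k).1 ?_
  refine (transferSec_prodSec h hle k _ z).trans
    (Eq.trans ?_ ((tau f' (TM g' f' F G) W k).map_smul b (prodSec F G h hle k t z)).symm)
  rw [tau_apply, transferSec_prodSec]
  refine (congrArg (rs (godQ ((TM g' f' F G).restrict (f' ⁻¹ᵁ W).ι) k) (topLe (phi h hle)))
    (isComb_godQMap (isComb_tHom_smul (F := F) h hle b t) k ⊤ (transferSec f F U k z))).trans ?_
  rw [gres_zero, zero_smul, add_zero]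
  refine (rs_smul (G := godQ ((TM g' f' F G).restrict (f' ⁻¹ᵁ W).ι) k) _ _ _).trans ?_
  exact congrArg (fun c => c • _) (ringMap_map _ _ _)

/-- The inclusion of the preimages of smaller opens. -/
theorem preimage_le {Y Z : Scheme.{u}} (p : Y ⟶ Z) {A B : Z.Opens} (i : A ≤ B) :
    p ⁻¹ᵁ A ≤ (𝟙 Y : Y ⟶ Y) ⁻¹ᵁ (p ⁻¹ᵁ B) := p.preimage_mono i

/-- Restricting in two steps. -/
theorem secMap_unit_res {Y : Scheme.{u}} (M : Y.Modules) {A B : Y.Opens} (i : A ≤ B) (O : Y.Opens) (x : Γ(M, O))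
    (h₃ : ((𝟙 Y : Y ⟶ Y).resLE B A i) ⁻¹ᵁ (B.ι ⁻¹ᵁ O) ≤ A.ι ⁻¹ᵁ O) :
    secMap A.ι ((Scheme.Modules.restrictAdjunction A.ι).unit.app M) h₃ x =
      secMap ((𝟙 Y : Y ⟶ Y).resLE B A i) (LocHom.hom (resData M B A) i) le_rfl
        (secMap B.ι ((Scheme.Modules.restrictAdjunction B.ι).unit.app M) (le_rfl : B.ι ⁻¹ᵁ O ≤ _) x) := by
  rw [secMap_le_rfl, secMap_le_rfl]
  let O₁ := A.ι ''ᵁ (((𝟙 Y : Y ⟶ Y).resLE B A i) ⁻¹ᵁ (B.ι ⁻¹ᵁ O))
  have e₀ : O₁ ≤ O := (A.ι.image_mono h₃).trans (A.ι.image_preimage_le O)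
  have hl : (show Γ(M, O₁) from secMap A.ι ((Scheme.Modules.restrictAdjunction A.ι).unit.app M) h₃ x) =
      rs M e₀ x :=
    rs_rs (G := M) (A.ι.image_preimage_le O) (A.ι.image_mono h₃) x
  have hB : (show Γ(M, B.ι ''ᵁ (B.ι ⁻¹ᵁ O)) from
      ((Scheme.Modules.restrictAdjunction B.ι).unit.app M).app O x) = rs M (B.ι.image_preimage_le O) x := rfl
  refine hl.trans (Eq.trans ?_ (hom_app (resData M B A) i (B.ι ⁻¹ᵁ O) _).symm)
  refine Eq.trans ?_ (congrArg (rs M (image_preimage_resLE_le i (B.ι ⁻¹ᵁ O)))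
    (congrArg (rs M (inf_le_left : (𝟙 Y : Y ⟶ Y) ⁻¹ᵁ (B.ι ''ᵁ (B.ι ⁻¹ᵁ O)) ⊓ A ≤ _)) hB)).symm
  refine (Eq.trans ?_ (rs_rs (G := M) _ _ _).symm).trans rfl
  exact (rs_rs (G := M) _ _ _).symm

theorem transferSec_rs {Y Z : Scheme.{u}} (p : Y ⟶ Z) (M : Y.Modules) {A B : Z.Opens} (i : A ≤ B) (k : ℕ)
    (z : Γ((Scheme.Modules.pushforward p).obj (godQ M k), B)) :
    transferSec p M A k (rs ((Scheme.Modules.pushforward p).obj (godQ M k)) i z) =
      secMap ((𝟙 Y : Y ⟶ Y).resLE (p ⁻¹ᵁ B) (p ⁻¹ᵁ A) (preimage_le p i))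
        (godQMap _ (LocHom.hom (resData M (p ⁻¹ᵁ B) (p ⁻¹ᵁ A)) (preimage_le p i)) k)
        (topLe _) (transferSec p M B k z) := by
  refine (secMap_map (p ⁻¹ᵁ A).ι (godQMap (p ⁻¹ᵁ A).ι
    ((Scheme.Modules.restrictAdjunction (p ⁻¹ᵁ A).ι).unit.app M) k) (p.preimage_mono i)
    (p ⁻¹ᵁ A).ι_preimage_self.ge _).trans ?_
  refine (secMap_godQMap_comp (ψ := (p ⁻¹ᵁ B).ι)
    (ηψ := (Scheme.Modules.restrictAdjunction (p ⁻¹ᵁ B).ι).unit.app M)
    (φ := (𝟙 Y : Y ⟶ Y).resLE (p ⁻¹ᵁ B) (p ⁻¹ᵁ A) (preimage_le p i))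
    (ηφ := LocHom.hom (resData M (p ⁻¹ᵁ B) (p ⁻¹ᵁ A)) (preimage_le p i))
    (ηχ := (Scheme.Modules.restrictAdjunction (p ⁻¹ᵁ A).ι).unit.app M)
    (by rw [Scheme.Hom.resLE_comp_ι, Category.comp_id]) (fun O x h₃ => ?_) k _ _ _ z).symm
  exact secMap_unit_res M (p.preimage_mono i) O x h₃

theorem rs_pullSec {Y Y' : Scheme.{u}} {φ : Y' ⟶ Y} {M : Y.Modules} {V : Y.Opens} {A B : Y'.Opens} (i : B ≤ A)
    (hA : A ≤ φ ⁻¹ᵁ V) (x : Γ(M, V)) :
    rs ((Scheme.Modules.pullback φ).obj M) i (pullSec φ M hA x) = pullSec φ M (i.trans hA) x :=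
  map_map _ _ _

theorem pullSec_rs {Y Y' : Scheme.{u}} {φ : Y' ⟶ Y} {M : Y.Modules} {V V₁ : Y.Opens} (i : V₁ ≤ V) {A : Y'.Opens}
    (hA : A ≤ φ ⁻¹ᵁ V₁) (x : Γ(M, V)) :
    pullSec φ M hA (rs M i x) = pullSec φ M (hA.trans (φ.preimage_mono i)) x :=
  secMap_map φ ((Scheme.Modules.pullbackPushforwardAdjunction φ).unit.app M) i hA x

/-- Compatibility of the products with restriction. -/
theorem rs_prodSec {U₁ : S.Opens} {W₁ : S'.Opens} (hle₁ : W₁ ≤ g ⁻¹ᵁ U₁) (iU : U₁ ≤ U) (iW : W₁ ≤ W)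
    (t : Γ(G, W)) (z : Γ((Scheme.Modules.pushforward f).obj (godQ F k), U)) :
    rs ((Scheme.Modules.pushforward f').obj (godQ (TM g' f' F G) k)) iW (prodSec F G h hle k t z) =
      prodSec F G h hle₁ k (rs G iW t) (rs ((Scheme.Modules.pushforward f).obj (godQ F k)) iU z) := by
  refine (bijective_transferSec f' (TM g' f' F G) W₁ k).1 ?_
  refine (transferSec_rs f' (TM g' f' F G) iW k _).trans (Eq.trans ?_ (transferSec_prodSec h hle₁ k _ _).symm)
  rw [transferSec_prodSec, transferSec_rs f F iU k z]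
  let Z := transferSec f F U k z
  let χ := g'.resLE (f ⁻¹ᵁ U) (f' ⁻¹ᵁ W₁) ((f'.preimage_mono iW).trans (le_preimage h hle))
  let d : LocData g' F (TM g' f' F G) (f ⁻¹ᵁ U) (f' ⁻¹ᵁ W₁) := tData f g' f' F G U W₁ (rs G iW t)
  refine (secMap_hom_comp (tData f g' f' F G U W t) (le_preimage h hle) (ℓ₃ := d)
    (ℓ₂ := resData (TM g' f' F G) (f' ⁻¹ᵁ W) (f' ⁻¹ᵁ W₁)) (preimage_le f' iW)
    ((f'.preimage_mono iW).trans (le_preimage h hle)) (Category.id_comp _) (fun O hO x q => ?_) k _ _ (topLe χ) Z).trans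
    (secMap_hom_comp (resData F (f ⁻¹ᵁ U) (f ⁻¹ᵁ U₁)) (preimage_le f iU) (ℓ₃ := d)
      (ℓ₂ := tData f g' f' F G U₁ W₁ (rs G iW t)) (le_preimage h hle₁)
      ((f'.preimage_mono iW).trans (le_preimage h hle)) (Category.comp_id _) (fun O hO x q => ?_) k _ _ (topLe χ) Z).symm
  · refine (map_tmS _ _ (homOfLE q) _ _).trans (Eq.trans ?_ (map_tmS _ _ _ _ _).symm)
    refine congrArg₂ (fun a b => tmS ((Scheme.Modules.pullback f').obj G) ((Scheme.Modules.pullback g').obj F) a b)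
      ?_ ?_
    · exact (rs_pullSec _ _ _).trans ((pullSec_rs iW _ t).trans (rs_pullSec _ _ _).symm)
    · exact (rs_pullSec _ _ _).trans (rs_pullSec _ _ _).symm
  · refine (map_tmS _ _ (homOfLE q) _ _).trans ?_
    refine congrArg₂ (fun a b => tmS ((Scheme.Modules.pullback f').obj G) ((Scheme.Modules.pullback g').obj F) a b)
      ?_ ?_
    · exact rs_pullSec _ _ _
    · exact (rs_pullSec _ _ _).trans (pullSec_rs _ _ _).symm

variable [QuasiCompact f] [QuasiSeparated f]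

/-- Classes of products give an isomorphism over affine opens. -/
theorem exists_local_equiv (hU : IsAffineOpen U) (hW : IsAffineOpen W) (hF : Coh.IsQCoh F) (hG : Coh.IsQCoh G)
    (hfl : letI : Module Γ(S, U) Γ(G, W) := Module.compHom _ (g.appLE U W hle).hom
      Module.Flat Γ(S, U) Γ(G, W))
    {R : S.Modules} {R' : S'.Modules} {π : (Scheme.Modules.pushforward f).obj (godQ F k) ⟶ R}
    {π' : (Scheme.Modules.pushforward f').obj (godQ (TM g' f' F G) k) ⟶ R'}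
    (hπ : IsProj f k π) (hπ' : IsProj f' k π') :
    letI : Module Γ(S, U) Γ(G, W) := Module.compHom _ (g.appLE U W hle).hom
    letI : Module Γ(S, U) Γ(R', W) := Module.compHom _ (g.appLE U W hle).hom
    ∃ L : Γ(G, W) ⊗[Γ(S, U)] Γ(R, U) →ₗ[Γ(S, U)] Γ(R', W), Function.Bijective L ∧
      ∀ t z, L (t ⊗ₜ π.app U z) = π'.app W (prodSec F G h hle k t z) := by
  letI : Module Γ(S, U) Γ(G, W) := Module.compHom _ (g.appLE U W hle).hom
  letI : Module Γ(S, U) Γ(R', W) := Module.compHom _ (g.appLE U W hle).hom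
  haveI := hfl
  let φ := phi h hle
  haveI : IsAffineHom φ := by
    haveI : IsAffine _ := hU
    haveI : IsAffine _ := hW
    have hp := Scheme.Hom.isPullback_resLE h hle (le_rfl : f ⁻¹ᵁ U ≤ _) (UY := f' ⁻¹ᵁ W)
      (inf_eq_right.2 (le_preimage h hle)).symm
    exact MorphismProperty.of_isPullback hp.flip inferInstance
  haveI : CompactSpace ((f ⁻¹ᵁ U : X.Opens) : Scheme.{u}) :=
    isCompact_iff_compactSpace.mp (f.isCompact_preimage hU.isCompact)
  haveI : QuasiSeparatedSpace ((f ⁻¹ᵁ U : X.Opens) : Scheme.{u}) :=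
    (quasiSeparatedSpace_iff _).2 (by
      have e : (Subtype.val '' (Set.univ : Set (f ⁻¹ᵁ U : X.Opens))) = ((f ⁻¹ᵁ U : X.Opens) : Set X) := by
        rw [Set.image_univ]; exact Subtype.range_coe
      have := ((f ⁻¹ᵁ U).isOpenEmbedding'.isQuasiSeparated_iff (s := Set.univ)).2
        (e.symm ▸ f.isQuasiSeparated_preimage hU.isQuasiSeparated)
      exact fun A B hA hA' hB hB' => this A B (Set.subset_univ _) hA hA' (Set.subset_univ _) hB hB')
  letI := secModule (rhoV f U) (godQ (F.restrict (f ⁻¹ᵁ U).ι) k) ⊤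
  letI := secModule (rhoV f' W) (godQ ((TM g' f' F G).restrict (f' ⁻¹ᵁ W).ι) k) ⊤
  letI := secModule (rho' f' hle) (godQ ((TM g' f' F G).restrict (f' ⁻¹ᵁ W).ι) k) (φ ⁻¹ᵁ ⊤)
  let τ := tau f F U k
  let τ' := tau f' (TM g' f' F G) W k
  let a : Γ(godQ (F.restrict (f ⁻¹ᵁ U).ι) k, ⊤) →ₗ[Γ(S, U)] Γ(R, U) := (appLin π U).comp τ.symm.toLinearMap
  let a' : Γ(godQ ((TM g' f' F G).restrict (f' ⁻¹ᵁ W).ι) k, φ ⁻¹ᵁ ⊤) →ₗ[Γ(S, U)] Γ(R', W) :=
    { toFun := fun y => π'.app W (τ'.symm (rs (godQ ((TM g' f' F G).restrict (f' ⁻¹ᵁ W).ι) k) (topLe φ) y))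
      map_add' := fun x y => by rw [rs_add, map_add, map_add]
      map_smul' := fun r y => by
        have e : rs (godQ ((TM g' f' F G).restrict (f' ⁻¹ᵁ W).ι) k) (topLe φ) (r • y) =
            g.appLE U W hle r • rs (godQ ((TM g' f' F G).restrict (f' ⁻¹ᵁ W).ι) k) (topLe φ) y :=
          (rs_smul (G := godQ ((TM g' f' F G).restrict (f' ⁻¹ᵁ W).ι) k) (topLe φ) _ y).trans
            (congrArg (· • _) (ringMap_map _ _ _))
        rw [e, τ'.symm.map_smul]
        exact (appLin π' W).map_smul _ _ }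
  have ha : Function.Surjective a := (hπ U hU).1.comp τ.symm.surjective
  have hka : ∀ y, a y = 0 ↔ y ∈ bd (F.restrict (f ⁻¹ᵁ U).ι) k ⊤ := fun y => by
    refine ((hπ U hU).2 (τ.symm y)).trans ?_
    rw [← tau_mem_bd_iff]
    show τ (τ.symm y) ∈ _ ↔ _
    rw [τ.apply_symm_apply]
  have hs : Function.Surjective (rs (godQ ((TM g' f' F G).restrict (f' ⁻¹ᵁ W).ι) k) (topLe φ)) :=
    fun y => ⟨rs _ le_top y, (rs_rs _ _ _).trans (rs_self le_rfl _)⟩
  have ha' : Function.Surjective a' := ((hπ' W hW).1.comp τ'.symm.surjective).comp hs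
  have hka' : ∀ y, a' y = 0 ↔ y ∈ bd ((TM g' f' F G).restrict (f' ⁻¹ᵁ W).ι) k (φ ⁻¹ᵁ ⊤) := fun y => by
    refine ((hπ' W hW).2 _).trans ?_
    rw [← tau_mem_bd_iff]
    show τ' (τ'.symm _) ∈ _ ↔ _
    rw [τ'.apply_symm_apply]
    refine ⟨fun hy => ?_, rs_mem_bd _ k _⟩
    have := rs_mem_bd _ k (le_top : φ ⁻¹ᵁ ⊤ ≤ ⊤) hy
    rwa [rs_rs, rs_self] at this
  obtain ⟨L, hL, hLf⟩ := exists_bij (φ := φ) (rhoV f U) (rho'_eq h hle) (η := tFam (F := F) (G := G) h hle)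
    (isQCoh_restrict _ hF) (isQCoh_restrict _ (isQCoh_TM g' f' F G hF hG))
    (isAffineTensor h hle hU hW hF hG) (W := ⊤) isCompact_univ k a a' ha hka ha' hka'
  refine ⟨L, hL, fun t z => ?_⟩
  have e : a (τ z) = π.app U z := congrArg (π.app U) (τ.symm_apply_apply z)
  rw [← e, hLf]
  refine congrArg (π'.app W) (congrArg τ'.symm ?_)
  exact map_secMap φ _ le_rfl (homOfLE (topLe φ)) _

end Groth.Agent.Coh32.TensorClass
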