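import Groth.Agent.Coh32.GodTensor
import Groth.Agent.Coh32.LocHom
import Groth.Agent.Coh32.SectionsBC
import Groth.Agent.QCoh.TensorSections

/-!
# Local form of base change with a tensor factor
-/

noncomputable section

set_option linter.style.haveILetI false
set_option backward.isDefEq.respectTransparency false
set_option backward.isDefEq.respectTransparency.types false
set_option maxHeartbeats 800000

universe u

open CategoryTheory CategoryTheory.Limits AlgebraicGeometry TopologicalSpace Opposite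
open scoped TensorProduct

namespace Groth.Agent.Coh32.TensorLocal

open Groth.Agent Groth.Agent.QCoh Groth.Agent.Coh32 Groth.Agent.Coh32.GodFunct Groth.Agent.Coh32.LocHom
  Groth.Agent.Coh32.GodTensor

variable {X S X' S' : Scheme.{u}} (f : X ⟶ S) (g : S' ⟶ S) (g' : X' ⟶ X) (f' : X' ⟶ S') (F : X.Modules)
  (G : S'.Modules)

/-- `f'^* G ⊗ g'^* F`. -/
abbrev TM : X'.Modules :=
  (DCoh.tensorBi.obj ((Scheme.Modules.pullback f').obj G)).obj ((Scheme.Modules.pullback g').obj F)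

theorem isQCoh_TM (hF : Coh.IsQCoh F) (hG : Coh.IsQCoh G) : Coh.IsQCoh (TM g' f' F G) :=
  KFlatLib.isQCoh_tensor (isQCoh_pullback f' hG) (isQCoh_pullback g' hF)

variable (U : S.Opens) (W : S'.Opens)

/-- Multiplication by a section of `G`. -/
def tData (t : Γ(G, W)) : LocData g' F (TM g' f' F G) (f ⁻¹ᵁ U) (f' ⁻¹ᵁ W) where
  map O _ := AddMonoidHom.mk' (fun x => tmS _ _ (pullSec f' G (inf_le_right : g' ⁻¹ᵁ O ⊓ f' ⁻¹ᵁ W ≤ _) t)
      (pullSec g' F inf_le_left x)) fun x y => by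
    rw [pullSec_add]
    exact tmS_add_right _ _ _ _ _
  nat {O O₁} i hO x := by
    let j := homOfLE (inf_le_inf_right (f' ⁻¹ᵁ W) (g'.preimage_mono i))
    refine Eq.trans ?_ (map_tmS ((Scheme.Modules.pullback f').obj G) ((Scheme.Modules.pullback g').obj F) j _ _).symm
    refine congrArg₂ (fun a b => tmS ((Scheme.Modules.pullback f').obj G) ((Scheme.Modules.pullback g').obj F) a b)
      ?_ ?_
    · exact (map_map j (homOfLE inf_le_right) _).symm
    · unfold pullSec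
      refine Eq.trans ?_ (map_map j (homOfLE inf_le_left) _).symm
      refine (congrArg _ (map_app_comm ((Scheme.Modules.pullbackPushforwardAdjunction g').unit.app F)
        (homOfLE i) x)).trans ?_
      exact map_map (M := (Scheme.Modules.pullback g').obj F) (homOfLE inf_le_left) ((Opens.map g'.base).map (homOfLE i)) _
  smul O hO r x := by
    show tmS _ _ _ (pullSec g' F inf_le_left (r • x)) = _
    rw [pullSec_smul]
    exact tmS_smul_right _ _ _ _ _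

theorem tData_add (t₁ t₂ : Γ(G, W)) {O : X.Opens} (hO : O ≤ f ⁻¹ᵁ U) (x : Γ(F, O)) :
    (tData f g' f' F G U W (t₁ + t₂)).map O hO x =
      (tData f g' f' F G U W t₁).map O hO x + (tData f g' f' F G U W t₂).map O hO x := by
  show tmS _ _ (pullSec f' G inf_le_right (t₁ + t₂)) _ = _
  rw [pullSec_add]
  exact tmS_add_left _ _ _ _ _

theorem tData_smul (b : Γ(S', W)) (t : Γ(G, W)) {O : X.Opens} (hO : O ≤ f ⁻¹ᵁ U) (x : Γ(F, O)) :
    (tData f g' f' F G U W (b • t)).map O hO x =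
      f'.appLE W (g' ⁻¹ᵁ O ⊓ f' ⁻¹ᵁ W) inf_le_right b • (tData f g' f' F G U W t).map O hO x := by
  show tmS _ _ (pullSec f' G inf_le_right (b • t)) _ = _
  rw [pullSec_smul]
  exact tmS_smul_left _ _ _ _ _

variable {f g g' f'}

include f g in
theorem le_preimage (h : IsPullback g' f' f g) {U : S.Opens} {W : S'.Opens} (hle : W ≤ g ⁻¹ᵁ U) :
    f' ⁻¹ᵁ W ≤ g' ⁻¹ᵁ (f ⁻¹ᵁ U) := by
  rw [← Scheme.Hom.comp_preimage, h.w, Scheme.Hom.comp_preimage]
  exact f'.preimage_mono hle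

variable (h : IsPullback g' f' f g) {U W} (hle : W ≤ g ⁻¹ᵁ U)

/-- The map of open subschemes. -/
abbrev phi : ((f' ⁻¹ᵁ W : X'.Opens) : Scheme.{u}) ⟶ ((f ⁻¹ᵁ U : X.Opens) : Scheme.{u}) :=
  g'.resLE (f ⁻¹ᵁ U) (f' ⁻¹ᵁ W) (le_preimage h hle)

variable (f') in
/-- The scalars upstairs. -/
abbrev rho' : Γ(S, U) →+* Coh.Γtop ((f' ⁻¹ᵁ W : X'.Opens) : Scheme.{u}) :=
  (rhoV f' W).comp (g.appLE U W hle).hom

include h in
theorem rho'_eq (a : Γ(S, U)) : rho' f' hle a = (phi h hle).appTop (rhoV f U a) := by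
  have e := congr($(show g.appLE U W hle ≫ f'.app W ≫
      (f' ⁻¹ᵁ W).ι.appLE (f' ⁻¹ᵁ W) ⊤ (f' ⁻¹ᵁ W).ι_preimage_self.ge =
      f.app U ≫ (f ⁻¹ᵁ U).ι.appLE (f ⁻¹ᵁ U) ⊤ (f ⁻¹ᵁ U).ι_preimage_self.ge ≫ (phi h hle).appTop by
    rw [Scheme.Hom.appTop, Scheme.Hom.app_eq_appLE, Scheme.Hom.app_eq_appLE, Scheme.Hom.app_eq_appLE]
    simp only [Scheme.Hom.appLE_comp_appLE]
    simp only [Scheme.Hom.resLE_comp_ι, Category.assoc, h.w]
    rfl) a)
  exact e

variable {F G}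

/-- Multiplication is linear in the section of `G`. -/
theorem isComb_tHom_smul (b : Γ(S', W)) (t : Γ(G, W)) :
    IsComb (rhoV f' W b) 0 (LocHom.hom (tData f g' f' F G U W t) (le_preimage h hle))
      (LocHom.hom (tData f g' f' F G U W t) (le_preimage h hle))
      (LocHom.hom (tData f g' f' F G U W (b • t)) (le_preimage h hle)) := by
  intro O' x
  rw [gres_zero, zero_smul, add_zero]
  refine Eq.trans ?_ (restrict_smul_ι (P := TM g' f' F G) _ _).symm
  refine (congrArg (rs (TM g' f' F G) (image_preimage_resLE_le (le_preimage h hle) O'))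
    (tData_smul f g' f' F G U W (b) t ((f ⁻¹ᵁ U).ι_image_le O')
      (show Γ(F, (f ⁻¹ᵁ U).ι ''ᵁ O') from x))).trans ?_
  refine (rs_smul (G := TM g' f' F G) _ _ _).trans ?_
  refine congrArg (fun c => c • _) ?_
  refine Eq.trans (congr($(f'.appLE_map (inf_le_right : g' ⁻¹ᵁ ((f ⁻¹ᵁ U).ι ''ᵁ O') ⊓ f' ⁻¹ᵁ W ≤ _)
    (homOfLE (image_preimage_resLE_le (le_preimage h hle) O')).op) (b))) ?_
  have e := congr($(show f'.app W ≫ (f' ⁻¹ᵁ W).ι.appLE (f' ⁻¹ᵁ W) ⊤ (f' ⁻¹ᵁ W).ι_preimage_self.ge ≫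
      ((f' ⁻¹ᵁ W : X'.Opens) : Scheme.{u}).presheaf.map
        (homOfLE (le_top : (phi h hle) ⁻¹ᵁ O' ≤ ⊤)).op =
      f'.appLE W ((f' ⁻¹ᵁ W).ι ''ᵁ ((phi h hle) ⁻¹ᵁ O')) ((f' ⁻¹ᵁ W).ι_image_le _) by
    simp [Scheme.Hom.app_eq_appLE, Scheme.Opens.toScheme_presheaf_map]) (b))
  exact e.symm

/-- The family of maps attached to sections of `G`. -/
def tFam :
    letI : Module Γ(S, U) Γ(G, W) := Module.compHom _ (g.appLE U W hle).hom
    Fam (φ := phi h hle) (rho' f' hle) Γ(G, W) (F.restrict (f ⁻¹ᵁ U).ι)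
      ((TM g' f' F G).restrict (f' ⁻¹ᵁ W).ι) :=
  letI : Module Γ(S, U) Γ(G, W) := Module.compHom _ (g.appLE U W hle).hom
  { map := fun t => LocHom.hom (tData f g' f' F G U W t) (le_preimage h hle)
    add := fun t₁ t₂ O' x => by
      rw [gres_one, one_smul, one_smul]
      refine (congrArg (rs (TM g' f' F G) (image_preimage_resLE_le (le_preimage h hle) O'))
        (tData_add f g' f' F G U W t₁ t₂ ((f ⁻¹ᵁ U).ι_image_le O') (show Γ(F, (f ⁻¹ᵁ U).ι ''ᵁ O') from x))).trans ?_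
      exact rs_add (G := TM g' f' F G) _ _ _
    smul := fun a t => isComb_tHom_smul h hle (g.appLE U W hle a) t }

theorem pairS_tFam_tmul (O' : ((f ⁻¹ᵁ U : X.Opens) : Scheme.{u}).Opens) (t : Γ(G, W))
    (x : Γ(F.restrict (f ⁻¹ᵁ U).ι, O')) :
    letI : Module Γ(S, U) Γ(G, W) := Module.compHom _ (g.appLE U W hle).hom
    letI := secModule (rhoV f U) (F.restrict (f ⁻¹ᵁ U).ι) O'
    letI := secModule (rho' f' hle) ((TM g' f' F G).restrict (f' ⁻¹ᵁ W).ι) ((phi h hle) ⁻¹ᵁ O')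
    pairS (rhoV f U) (rho'_eq h hle) (tFam (F := F) (G := G) h hle) O' (t ⊗ₜ x) =
      rs (TM g' f' F G) (image_preimage_resLE_le (le_preimage h hle) O')
        (tmS _ _ (pullSec f' G inf_le_right t) (pullSec g' F inf_le_left (show Γ(F, (f ⁻¹ᵁ U).ι ''ᵁ O') from x))) := by
  let : Module Γ(S, U) Γ(G, W) := Module.compHom _ (g.appLE U W hle).hom
  exact rs_self (G := (TM g' f' F G).restrict (f' ⁻¹ᵁ W).ι) le_rfl _

variable (hU : IsAffineOpen U) (hW : IsAffineOpen W) (hF : Coh.IsQCoh F) (hG : Coh.IsQCoh G)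

include h hle hU hW hF hG in
/-- Sections of the tensor product over affine opens. -/
theorem bijective_sections {O : X.Opens} (hO : O ≤ f ⁻¹ᵁ U) (hOa : IsAffineOpen O) :
    letI : Module Γ(S, U) Γ(G, W) := Module.compHom _ (g.appLE U W hle).hom
    letI := SectionsBC.srcMod f F O hO
    ∀ L : Γ(G, W) ⊗[Γ(S, U)] Γ(F, O) →+ Γ(TM g' f' F G, g' ⁻¹ᵁ O ⊓ f' ⁻¹ᵁ W),
      (∀ t x, L (t ⊗ₜ x) = tmS _ _ (pullSec f' G inf_le_right t) (pullSec g' F inf_le_left x)) →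
      Function.Bijective L := by
  let O' := SectionsBC.pre g' f' O W
  have hO' : IsAffineOpen O' := by
    haveI : IsAffine _ := hU
    haveI : IsAffine _ := hW
    haveI : IsAffine _ := hOa
    exact .of_isIso (Scheme.Hom.isPullback_resLE h hle hO (rfl : O' = _)).isoPullback.hom
  let N := SectionsBC.PM g' F
  let P := (Scheme.Modules.pullback f').obj G
  letI := (g.appLE U W hle).hom.toAlgebra
  letI : Module Γ(S, U) Γ(G, W) := Module.compHom _ (g.appLE U W hle).hom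
  haveI : IsScalarTower Γ(S, U) Γ(S', W) Γ(G, W) := .of_algebraMap_smul fun _ _ => rfl
  letI := SectionsBC.srcMod f F O hO
  intro L hL
  letI := SectionsBC.tgtMod g' f' F W O
  letI := SectionsBC.tgtMod' g' f' F hle O
  haveI : IsScalarTower Γ(S, U) Γ(S', W) Γ(N, O') := .of_algebraMap_smul fun _ _ => rfl
  letI : Algebra Γ(S', W) Γ(X', O') := (f'.appLE W O' inf_le_right).hom.toAlgebra
  haveI : IsScalarTower Γ(S', W) Γ(X', O') Γ(N, O') := .of_algebraMap_smul fun _ _ => rfl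
  letI : Module Γ(S', W) Γ(P, O') := Module.compHom _ (f'.appLE W O' inf_le_right).hom
  haveI : IsScalarTower Γ(S', W) Γ(X', O') Γ(P, O') := .of_algebraMap_smul fun _ _ => rfl
  have hN : IsBaseChange Γ(S', W) (SectionsBC.secHom h F hle O hO) :=
    (BCAlgebra.isBaseChange_iff _).2 (SectionsBC.bij_affine h hle hU hW hF hOa hO)
  let lP : Γ(G, W) →ₗ[Γ(S', W)] Γ(P, O') :=
    { toFun := pullSec f' G inf_le_right
      map_add' := pullSec_add f' G inf_le_right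
      map_smul' := fun r x => pullSec_smul f' G inf_le_right r x }
  have hP : IsBaseChange Γ(X', O') lP :=
    isBaseChange_pullback hW f' hO' hG inf_le_right (fun _ => rfl) lP fun _ => rfl
  let e₁ : Γ(G, W) ⊗[Γ(S, U)] Γ(F, O) ≃ₗ[Γ(S', W)] Γ(G, W) ⊗[Γ(S', W)] (Γ(S', W) ⊗[Γ(S, U)] Γ(F, O)) :=
    (TensorProduct.AlgebraTensorModule.cancelBaseChange Γ(S, U) Γ(S', W) Γ(S', W) Γ(G, W) Γ(F, O)).symm
  let e₂ : Γ(G, W) ⊗[Γ(S', W)] (Γ(S', W) ⊗[Γ(S, U)] Γ(F, O)) ≃ₗ[Γ(S', W)] Γ(N, O') ⊗[Γ(S', W)] Γ(G, W) :=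
    (hN.equiv.lTensor Γ(G, W)).trans (TensorProduct.comm Γ(S', W) _ _)
  let e₃ : Γ(N, O') ⊗[Γ(S', W)] Γ(G, W) ≃ₗ[Γ(X', O')] Γ(N, O') ⊗[Γ(X', O')] (Γ(X', O') ⊗[Γ(S', W)] Γ(G, W)) :=
    (TensorProduct.AlgebraTensorModule.cancelBaseChange Γ(S', W) Γ(X', O') Γ(X', O') Γ(N, O') Γ(G, W)).symm
  let e₄ : Γ(N, O') ⊗[Γ(X', O')] (Γ(X', O') ⊗[Γ(S', W)] Γ(G, W)) ≃ₗ[Γ(X', O')] Γ(P, O') ⊗[Γ(X', O')] Γ(N, O') :=
    (hP.equiv.lTensor Γ(N, O')).trans (TensorProduct.comm Γ(X', O') _ _)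
  have he : ⇑L = tmLin P N O' ∘ e₄ ∘ e₃ ∘ e₂ ∘ e₁ := by
    funext w
    induction w using TensorProduct.induction_on with
    | zero => simp only [Function.comp_apply, map_zero]
    | tmul t x =>
      have h₁ : e₁ (t ⊗ₜ x) = t ⊗ₜ ((1 : Γ(S', W)) ⊗ₜ x) := rfl
      have h₂ : e₂ (t ⊗ₜ ((1 : Γ(S', W)) ⊗ₜ x)) = (SectionsBC.secHom h F hle O hO x : Γ(N, O')) ⊗ₜ t := by
        show (TensorProduct.comm Γ(S', W) Γ(G, W) Γ(N, O')) (t ⊗ₜ hN.equiv ((1 : Γ(S', W)) ⊗ₜ x)) = _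
        rw [IsBaseChange.equiv_tmul, one_smul]
        rfl
      have h₃ : ∀ n : Γ(N, O'), e₃ (n ⊗ₜ t) = n ⊗ₜ ((1 : Γ(X', O')) ⊗ₜ t) := fun n => rfl
      have h₄ : ∀ n : Γ(N, O'), e₄ (n ⊗ₜ ((1 : Γ(X', O')) ⊗ₜ t)) = lP t ⊗ₜ n := fun n => by
        show (TensorProduct.comm Γ(X', O') Γ(N, O') Γ(P, O')) (n ⊗ₜ hP.equiv ((1 : Γ(X', O')) ⊗ₜ t)) = _
        rw [IsBaseChange.equiv_tmul, one_smul]
        rfl
      rw [hL, Function.comp_apply, Function.comp_apply, Function.comp_apply, Function.comp_apply, h₁, h₂, h₃, h₄]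
      rfl
    | add a b ha hb => simp only [Function.comp_apply, map_add] at ha hb ⊢; rw [ha, hb]
  rw [he]
  exact (bijective_tmLin (isQCoh_pullback f' hG) (isQCoh_pullback g' hF) hO').comp
    (e₄.bijective.comp (e₃.bijective.comp (e₂.bijective.comp e₁.bijective)))

theorem image_preimage_eq (O' : ((f ⁻¹ᵁ U : X.Opens) : Scheme.{u}).Opens) :
    (f' ⁻¹ᵁ W).ι ''ᵁ ((phi h hle) ⁻¹ᵁ O') = g' ⁻¹ᵁ ((f ⁻¹ᵁ U).ι ''ᵁ O') ⊓ f' ⁻¹ᵁ W := by
  rw [Scheme.Hom.resLE_preimage, Scheme.Hom.image_preimage_eq_opensRange_inf, Scheme.Opens.opensRange_ι]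
  exact inf_comm _ _

include hU hW hF hG in
theorem isAffineTensor :
    letI : Module Γ(S, U) Γ(G, W) := Module.compHom _ (g.appLE U W hle).hom
    IsAffineTensor (rhoV f U) (rho'_eq h hle) (tFam (F := F) (G := G) h hle) := by
  letI : Module Γ(S, U) Γ(G, W) := Module.compHom _ (g.appLE U W hle).hom
  intro O' hO'
  let O := (f ⁻¹ᵁ U).ι ''ᵁ O'
  have hO : O ≤ f ⁻¹ᵁ U := (f ⁻¹ᵁ U).ι_image_le O'
  letI := secModule (rhoV f U) (F.restrict (f ⁻¹ᵁ U).ι) O'
  letI := secModule (rho' f' hle) ((TM g' f' F G).restrict (f' ⁻¹ᵁ W).ι) ((phi h hle) ⁻¹ᵁ O')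
  letI := SectionsBC.srcMod f F O hO
  let e : Γ(F.restrict (f ⁻¹ᵁ U).ι, O') ≃ₗ[Γ(S, U)] Γ(F, O) :=
    { toFun := fun x => x
      invFun := fun x => x
      left_inv := fun _ => rfl
      right_inv := fun _ => rfl
      map_add' := fun _ _ => rfl
      map_smul' := fun a x => by
        refine (restrict_smul_ι (P := F) _ x).trans ?_
        refine congrArg (fun c => c • (show Γ(F, O) from x)) ?_
        exact congr($(show f.app U ≫ (f ⁻¹ᵁ U).ι.appLE (f ⁻¹ᵁ U) ⊤ (f ⁻¹ᵁ U).ι_preimage_self.ge ≫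
            ((f ⁻¹ᵁ U : X.Opens) : Scheme.{u}).presheaf.map (homOfLE (le_top : O' ≤ ⊤)).op = f.appLE U O hO by
          simp [O, Scheme.Hom.app_eq_appLE, Scheme.Opens.toScheme_presheaf_map]) a) }
  let r : Γ(TM g' f' F G, g' ⁻¹ᵁ O ⊓ f' ⁻¹ᵁ W) → Γ(TM g' f' F G, (f' ⁻¹ᵁ W).ι ''ᵁ ((phi h hle) ⁻¹ᵁ O')) :=
    rs (TM g' f' F G) (image_preimage_resLE_le (le_preimage h hle) O')
  have hr : Function.Bijective r := bijective_rs_of_eq _ (image_preimage_eq h hle O').symm _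
  let P := pairS (rhoV f U) (rho'_eq h hle) (tFam (F := F) (G := G) h hle) O'
  let L : Γ(G, W) ⊗[Γ(S, U)] Γ(F, O) →+ Γ(TM g' f' F G, g' ⁻¹ᵁ O ⊓ f' ⁻¹ᵁ W) :=
    TensorProduct.liftAddHom
      (AddMonoidHom.mk' (fun t => AddMonoidHom.mk' (fun x => tmS _ _ (pullSec f' G inf_le_right t)
        (pullSec g' F inf_le_left x)) fun x y => by rw [pullSec_add]; exact tmS_add_right _ _ _ _ _)
        fun s t => AddMonoidHom.ext fun x => by
          show tmS _ _ (pullSec f' G inf_le_right (s + t)) _ = _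
          rw [pullSec_add]; exact tmS_add_left _ _ _ _ _)
      fun a t x => by
        show tmS _ _ (pullSec f' G inf_le_right (g.appLE U W hle a • t)) _ =
          tmS _ _ _ (pullSec g' F inf_le_left (f.appLE U O hO a • x))
        rw [pullSec_smul, pullSec_smul, tmS_smul_left, tmS_smul_right]
        exact congrArg (· • _) congr($((SectionsBC.appLE_comm h hle O hO).symm) a)
  have hL : Function.Bijective L := bijective_sections h hle hU hW hF hG hO (hO'.image_of_isOpenImmersion (f ⁻¹ᵁ U).ι) L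
    fun _ _ => rfl
  have hc : ⇑P = r ∘ L ∘ e.lTensor Γ(G, W) := by
    funext w
    induction w using TensorProduct.induction_on with
    | zero => simp only [Function.comp_apply, map_zero]; exact (rs_zero (G := TM g' f' F G) (image_preimage_resLE_le (le_preimage h hle) O')).symm
    | tmul t x => exact pairS_tFam_tmul h hle O' t x
    | add a b ha hb =>
      simp only [Function.comp_apply] at ha hb ⊢
      rw [map_add, map_add, map_add, ha, hb]
      exact (rs_add _ _ _).symm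
  show Function.Bijective P
  rw [hc]
  exact hr.comp (hL.comp (e.lTensor Γ(G, W)).bijective)

end Groth.Agent.Coh32.TensorLocal
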